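import Cfsg.Agent.H333.F4J.Ad
import Cfsg.Agent.H952.F4.TorDiag_m3
import Cfsg.Agent.H952.F4.FixV_m3
import Cfsg.Agent.H952.F4.Jord
import Cfsg.Agent.H952.F4.Scott_m3
import Mathlib
import Cfsg.Agent.H179.SLC.Coc_m3
import Cfsg.Agent.H952.F4.NoSeven_m3
import Cfsg.Agent.R2.H22.NR_m3
import Cfsg.Agent.H952.F4.Final
import Cfsg.Agent.S0252
import Cfsg.Agent.S0253
import Cfsg.Agent.S1054
import Cfsg.Agent.S1062
import Cfsg.Agent.H65.E6Ext_m3
import Cfsg.Agent.S1063
import Cfsg.Agent.FastGrp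
import Cfsg.Agent.Prune
set_option linter.all false

section
prune_inst 0x7f00000000000000000000000000000000000000000000000000000000000000000000000000000000000000000000000000000000000000000000000000000000000000000000000000000000000000003fffffffffffffffffffffffffffbeffbdffffffff

-- part: R2/F4M/Base
section
set_option linter.all false
open scoped Cfsg.Agent.FastGrp

/-!
# S5931: the 27-dimensional module `J` of `F₄(F)`, every field, every characteristic (helper21)

* `zt F` : the embedding of `chevF4.group F` into the simply connected group `Zgrp F` of type `E₆`;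
* `Jr F` : the 27-dimensional module; `V_zt`, `V'_zt` : both modules of `Zgrp F` restrict to it;
* `Jr_u0`, `Jr_N`, `Jr_tr`, `Jr_tf`, `Jr_sh`, `Jr_cr` : the invariance of the structure;
* `Jr_map` : change of fields.
-/

set_option autoImplicit false

namespace Cfsg.Agent.R2.F4M

open Cfsg Cfsg.Lie Module
open Cfsg.Agent.ChevalleyStructure Cfsg.Agent.ChevalleyStructure.Elts
open Cfsg.Agent.ChevalleyStructure.E6Min.Tables Cfsg.Agent.ChevalleyStructure.E6Min.Basic
open Cfsg.Agent.H952.F4 Cfsg.Agent.H952.F4.Jord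
open Cfsg.Agent.H333.F4J.Ad (FZ FZ_le_Zgrp FZ_u0 eqv eqv_symm_xG coe_yU coe_xG_lt yU)
open Cfsg.Agent.H163.E6 (V V')
open Cfsg.Agent.H163.E6.Act
open Cfsg.Agent.GpExc.Field (emb)
open scoped Matrix

universe u

section

variable (F : Type u) [Field F]

/-- the embedding of `F₄(F)` into the simply connected group of type `E₆` -/
noncomputable def zt : ↥(chevF4.group F) →* ↥(Zgrp F) :=
  (Subgroup.inclusion FZ_le_Zgrp).comp (eqv F).symm.toMonoidHom

/-- the 27-dimensional matrices -/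
noncomputable def rJ : ↥(chevF4.group F) →* GL I27 F := (Zgrp F).subtype.comp (zt F)

/-- **the 27-dimensional module** -/
noncomputable def Jr : Representation F ↥(chevF4.group F) (I27 → F) := JK (rJ F)

end

variable {F : Type u} [Field F]

theorem isJ_rJ : IsJ (rJ F) := by
  intro r t g hg
  have h1 : (g : GL chevF4.Idx F) = xG hF4 r.val t := by
    apply Units.ext
    rw [hg, coe_xG_lt r.isLt]
  have h2 := eqv_symm_xG r.isLt t g h1
  change (((eqv F).symm g : FZ F) : GL I27 F).val = _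
  rw [h2]
  exact coe_yU r.isLt t

theorem zt_injective : Function.Injective (zt F) := by
  intro g h hgh
  have h1 := congrArg (fun z : ↥(Zgrp F) => (z : GL I27 F)) hgh
  exact (eqv F).symm.injective (Subtype.ext h1)

theorem rJ_injective : Function.Injective (rJ F) := fun _ _ h => zt_injective (Subtype.ext h)

theorem Jr_apply (g : ↥(chevF4.group F)) (x : I27 → F) :
    Jr F g x = ((rJ F g : GL I27 F) : Matrix I27 I27 F) *ᵥ x := rfl

theorem Jr_mul (g h : ↥(chevF4.group F)) (x : I27 → F) : Jr F (g * h) x = Jr F g (Jr F h x) := by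
  rw [map_mul]
  rfl

theorem Jr_one (x : I27 → F) : Jr F 1 x = x := by
  rw [map_one]
  rfl

theorem Jr_inv_apply (g : ↥(chevF4.group F)) (x : I27 → F) : Jr F g⁻¹ (Jr F g x) = x := by
  rw [← Jr_mul, inv_mul_cancel, Jr_one]

theorem Jr_apply_inv (g : ↥(chevF4.group F)) (x : I27 → F) : Jr F g (Jr F g⁻¹ x) = x := by
  rw [← Jr_mul, mul_inv_cancel, Jr_one]

theorem Jr_inj (g : ↥(chevF4.group F)) : Function.Injective (Jr F g) := by
  intro x y h
  rw [← Jr_inv_apply g x, h, Jr_inv_apply]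

theorem Jr_faithful {g h : ↥(chevF4.group F)} (hgh : ∀ x, Jr F g x = Jr F h x) : g = h := by
  apply rJ_injective
  apply Units.ext
  have h1 : Matrix.toLin' ((rJ F g : GL I27 F) : Matrix I27 I27 F) =
      Matrix.toLin' ((rJ F h : GL I27 F) : Matrix I27 I27 F) := LinearMap.ext hgh
  exact Matrix.toLin'.injective h1

theorem V_zt (g : ↥(chevF4.group F)) (x : I27 → F) : V F (zt F g) x = Jr F g x := rfl

/-- the unit -/
theorem Jr_u0 (g : ↥(chevF4.group F)) : Jr F g (u0 F) = u0 F := FZ_u0 ((eqv F).symm g).2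

theorem V'_zt_u0 (g : ↥(chevF4.group F)) : V' F (zt F g) (u0 F) = u0 F := by
  have h := sh_act (zt F g) (u0 F)
  rw [V_zt, Jr_u0, sh_u0] at h
  exact h.symm

/-- the cubic form -/
theorem Jr_N (g : ↥(chevF4.group F)) (x : I27 → F) : cubicT (Jr F g x) = cubicT x := N_act (zt F g) x

/-- the trace -/
theorem Jr_tr (g : ↥(chevF4.group F)) (x : I27 → F) : tr1 (Jr F g x) = tr1 x := by
  rw [← tf_u0, ← tf_u0, tf_comm, tf_comm (u0 F), ← tf_act (zt F g) x (u0 F), V'_zt_u0, V_zt]

theorem V'_zt_tr (g : ↥(chevF4.group F)) (x : I27 → F) : tr1 (V' F (zt F g) x) = tr1 x := by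
  rw [← tf_u0, ← tf_u0, ← tf_act (zt F g) (u0 F) x, V_zt, Jr_u0]

/-- the trace form -/
theorem Jr_tf (g : ↥(chevF4.group F)) (x y : I27 → F) : tf (Jr F g x) (Jr F g y) = tf x y := by
  have h1 := tr1_cr (Jr F g x) (Jr F g y)
  have h2 := tr1_cr x y
  have h3 := cr_act (zt F g) x y
  rw [V_zt, V_zt] at h3
  rw [h3, V'_zt_tr, Jr_tr, Jr_tr, h2] at h1
  linear_combination h1

theorem V'_zt (g : ↥(chevF4.group F)) (x : I27 → F) : V' F (zt F g) x = Jr F g x := by
  rw [← sub_eq_zero]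
  refine tf_nondeg fun y => ?_
  have h1 := tf_act (zt F g) (Jr F g⁻¹ y) x
  rw [V_zt, Jr_apply_inv] at h1
  have h2 := Jr_tf g (Jr F g⁻¹ y) x
  rw [Jr_apply_inv] at h2
  rw [sub_eq_add_neg, tf_add_left, ← neg_one_smul F, tf_smul_left, tf_comm, h1, tf_comm _ y, h2]
  ring

/-- the adjoint -/
theorem Jr_sh (g : ↥(chevF4.group F)) (x : I27 → F) : sh (Jr F g x) = Jr F g (sh x) := by
  rw [← V'_zt g (sh x), ← sh_act, V_zt]

/-- its polarization -/
theorem Jr_cr (g : ↥(chevF4.group F)) (x y : I27 → F) : cr (Jr F g x) (Jr F g y) = Jr F g (cr x y) := by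
  rw [← V'_zt g (cr x y), ← cr_act, V_zt, V_zt]

/-- the root elements -/
theorem Jr_xg (r : Fin chevF4.nroots) (t : F) (x : I27 → F) : Jr F (FixL.xg r t) x = yM r.val t *ᵥ x :=
  FixV.JK_xg isJ_rJ r t x

/-- change of fields -/
theorem Jr_map {k : Type u} [Field k] (f : F →+* k) (g : ↥(chevF4.group F)) (x : I27 → F) :
    Jr k (emb hF4 f g) (fun i => f (x i)) = fun i => f (Jr F g x i) := by
  rw [Jr_apply, Jr_apply, JMod.map_isJ f isJ_rJ isJ_rJ g]
  funext i
  simp only [Matrix.mulVec, dotProduct, Matrix.map_apply, map_sum, map_mul]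

end Cfsg.Agent.R2.F4M
end

-- part: R2/F4P/Id
section
set_option linter.all false

/-!
# Identities of the 27-dimensional algebra which use the unit (helper20)

* `cr_sh_self` : `x × x^# = (t(x) s(x) - N(x)) 1 - s(x) x - t(x) x^#`;
* `cr_cr_self`, `cr3` : its linearizations.
-/

set_option autoImplicit false
set_option linter.unusedSimpArgs false

namespace Cfsg.Agent.R2.F4P

open Cfsg Cfsg.Lie Module
open Cfsg.Agent.ChevalleyStructure.E6Min.Tables Cfsg.Agent.ChevalleyStructure.E6Min.Basic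
open Cfsg.Agent.H952.F4 Cfsg.Agent.H952.F4.Jord

universe u

section ring

variable {R : Type u} [CommRing R]

set_option maxHeartbeats 4000000 in
theorem cr_sh_self (x : I27 → R) : cr x (sh x) =
    (tr1 x * tr1 (sh x) - cubicT x) • u0 R - tr1 (sh x) • x - tr1 x • sh x := by
  unfold cr
  refine ext27 fun k i j => ?_
  fin_cases k <;> fin_cases i <;> fin_cases j <;>
    simp only [Fin.zero_eta, Fin.mk_one, Fin.reduceFinMk, Pi.smul_apply, Pi.sub_apply, Pi.add_apply, smul_eq_mul, N_eq,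
      Fin.sum_univ_three, tr1, Matrix.trace, Matrix.diag, mat3, Matrix.of_apply, u0, Fin.isValue, and_self, and_true,
      and_false, false_and, if_true, if_false, Fin.reduceEq, one_ne_zero, zero_ne_one, mul_one, mul_zero,
      sh000, sh001, sh002, sh010, sh011,
      sh012, sh020, sh021, sh022, sh100, sh101, sh102, sh110, sh111, sh112, sh120, sh121, sh122, sh200, sh201, sh202,
      sh210, sh211, sh212, sh220, sh221, sh222] <;> ring

theorem tr1_map {S : Type u} [CommRing S] (f : R →+* S) (x : I27 → R) : tr1 (fun a => f (x a)) = f (tr1 x) := by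
  simp only [tr1, Matrix.trace, Matrix.diag, mat3, Matrix.of_apply, map_sum]

theorem u0_map {S : Type u} [CommRing S] (f : R →+* S) : (fun a => f (u0 R a)) = u0 S := by
  funext a
  unfold u0
  split_ifs <;> simp

theorem cst_tr1 (x : I27 → R) : tr1 (cst x) = Polynomial.C (tr1 x) := tr1_map Polynomial.C x

theorem cst_u0 : cst (u0 R) = u0 (Polynomial R) := u0_map Polynomial.C

open Polynomial in
/-- the linearization -/
theorem cr_cr_self (y v : I27 → R) : cr y (cr y v) + cr v (sh y) =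
    (tr1 y * tr1 (cr y v) + tr1 v * tr1 (sh y) - tf (sh y) v) • u0 R - tr1 (sh y) • v - tr1 (cr y v) • y -
      tr1 y • cr y v - tr1 v • sh y := by
  have h := cr_sh_self (cst y + (X : R[X]) • cst v)
  simp only [sh_add, N_add, sh_smul, cst_sh, cr_smul_right, cst_cr, cr_add_left, cr_smul_left, cr_add_right, N_smul,
    cst_N, tf_smul_right, tf_smul_left, cst_tf, tr1_add, tr1_smul, cst_tr1, ← cst_u0] at h
  have := (polar (A0 := cr y (sh y)) (A1 := cr y (cr y v) + cr v (sh y)) (A2 := cr y (sh v) + cr v (cr y v))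
    (A3 := cr v (sh v)) (A4 := 0)
    (B0 := (tr1 y * tr1 (sh y) - cubicT y) • u0 R - tr1 (sh y) • y - tr1 y • sh y)
    (B1 := (tr1 y * tr1 (cr y v) + tr1 v * tr1 (sh y) - tf (sh y) v) • u0 R - tr1 (sh y) • v - tr1 (cr y v) • y -
      tr1 y • cr y v - tr1 v • sh y)
    (B2 := (tr1 y * tr1 (sh v) + tr1 v * tr1 (cr y v) - tf y (sh v)) • u0 R - tr1 (cr y v) • v - tr1 (sh v) • y -
      tr1 y • sh v - tr1 v • cr y v)
    (B3 := (tr1 v * tr1 (sh v) - cubicT v) • u0 R - tr1 (sh v) • v - tr1 v • sh v) (B4 := 0) ?_).1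
  · exact this
  · refine Eq.trans ?_ (h.trans ?_)
    · funext a
      simp only [Pi.add_apply, Pi.smul_apply, smul_eq_mul, map_add, Pi.zero_apply, map_zero, cst_apply]
      ring
    · funext a
      simp only [Pi.add_apply, Pi.sub_apply, Pi.smul_apply, smul_eq_mul, map_add, map_sub, map_mul, Pi.zero_apply,
        map_zero, cst_apply]
      ring

/-- the full linearization -/
theorem cr3 (x y v : I27 → R) : cr x (cr y v) + cr y (cr x v) + cr v (cr x y) =
    (tr1 x * tr1 (cr y v) + tr1 y * tr1 (cr x v) + tr1 v * tr1 (cr x y) - tf (cr x y) v) • u0 R -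
      tr1 (cr x y) • v - tr1 (cr x v) • y - tr1 (cr y v) • x - tr1 x • cr y v - tr1 y • cr x v - tr1 v • cr x y := by
  have h := cr_cr_self (x + y) v
  have hx := cr_cr_self x v
  have hy := cr_cr_self y v
  simp only [sh_add, cr_add_left, cr_add_right, tr1_add, tf_add_left] at h
  linear_combination (norm := module) h - hx - hy

end ring

end Cfsg.Agent.R2.F4P
end

section
prune_inst 0xfcecf9ebbc95dfdfff7e7fa6d8cffc38901fffa6dffd4b7fe063ff2b9f338009c5fb8d0de010fe0ed7e21410b87843fb7eeeffe86fdc7ffffddff41ffbee0ff5f7350851948c340f380ff703f0778e7f000000000000000000000000000000000200000000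

-- part: R2/F4N/Exact
section
prune_inst 0x2130604430a202000018008053003c62da000100000b080088c00d020481ac4000410e21ba900112009e104448390008111000200200000002000400011e008008801004b0080008420008000080000000000000000000000000000000000004000000000
set_option linter.all false
open scoped Cfsg.Agent.FastGrp

/-!
# Trilinear invariants of `SL(2, K)` have exact weights (lead, S5931)

`Str κ ρ n v` : the vectors `v 0, …, v n` are a standard basis of `V_n` (`κ : K →+* k`).

* `exact_of` : `N` trilinear, invariant, strings of lengths `i, j, l < p`, `i + j + l = 2 s`; if `N (x 0) (y j) (z c) = 0` for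
  `c + j ≠ s`, then `N (x a) (y b) (z c) = 0` for `a + b + c ≠ s`;
* `exact` : the same if `i + j < l + (|K| - 1)`.
-/

set_option autoImplicit false
set_option linter.unusedSectionVars false

namespace Cfsg.Agent.R2.F4N

open Matrix Cfsg.Agent.H943.SL2Rel Finset

universe u v w

section coef

variable {k : Type u} [Field k] {K : Type w} [Field K] [Fintype K] (κ : K →+* k)

theorem coef_zero {d : ℕ} (hd : d ≤ Fintype.card K) {c : ℕ → k} (h : ∀ t : K, ∑ j ∈ range d, c j * κ t ^ j = 0) :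
    ∀ j < d, c j = 0 := by
  classical
  rcases Nat.eq_zero_or_pos d with h0 | h0
  · intro j hj
    omega
  let P : Polynomial k := ∑ j ∈ range d, Polynomial.C (c j) * Polynomial.X ^ j
  have hdeg : P.natDegree < Fintype.card K := by
    refine lt_of_lt_of_le (Nat.lt_of_le_of_lt (Polynomial.natDegree_sum_le_of_forall_le (n := d - 1) _ _ ?_)
      (by omega : d - 1 < d)) hd
    intro j hj
    refine (Polynomial.natDegree_C_mul_X_pow_le _ _).trans ?_
    have := mem_range.1 hj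
    omega
  have hP : P = 0 := by
    refine Polynomial.eq_zero_of_natDegree_lt_card_of_eval_eq_zero P κ.injective (fun t => ?_) hdeg
    rw [Polynomial.eval_finset_sum, ← h t]
    refine Finset.sum_congr rfl fun j _ => ?_
    rw [Polynomial.eval_mul, Polynomial.eval_C, Polynomial.eval_pow, Polynomial.eval_X]
  intro j hj
  have h1 := congrArg (fun q : Polynomial k => q.coeff j) hP
  simp only [P, Polynomial.finset_sum_coeff, Polynomial.coeff_C_mul, Polynomial.coeff_X_pow, mul_ite, mul_one,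
    mul_zero, Polynomial.coeff_zero] at h1
  rwa [Finset.sum_ite_eq, if_pos (mem_range.2 hj)] at h1

theorem coef_eq {d : ℕ} (hd : d ≤ Fintype.card K) {a b : ℕ → k}
    (h : ∀ t : K, ∑ j ∈ range d, a j * κ t ^ j = ∑ j ∈ range d, b j * κ t ^ j) : ∀ j < d, a j = b j := by
  intro j hj
  have h1 := coef_zero κ hd (c := fun j => a j - b j) (fun t => by
    simp only [sub_mul, Finset.sum_sub_distrib]
    rw [h t, sub_self]) j hj
  exact sub_eq_zero.1 h1

end coef

theorem choose_ne {k : Type u} [Field k] {p : ℕ} [Fact p.Prime] [CharP k p] {n m : ℕ} (hn : n < p) (hm : m ≤ n) : (n.choose m : k) ≠ 0 := by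
  intro h
  have h1 : p ∣ n.choose m := (CharP.cast_eq_zero_iff k p _).1 h
  have h2 : p ∣ n.factorial := by
    rw [← Nat.choose_mul_factorial_mul_factorial hm, mul_assoc]
    exact h1.mul_right _
  have h3 := ((Fact.out : p.Prime).dvd_factorial).1 h2
  omega

variable {k : Type u} [Field k] {K : Type w} [Field K] {W : Type v} [AddCommGroup W] [Module k W]

/-- a standard basis of `V_n` -/
structure Str (κ : K →+* k) (ρ : Representation k (_root_.Matrix.SpecialLinearGroup (Fin 2) K) W) (n : ℕ) (v : ℕ → W) : Prop where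
  u : ∀ s ≤ n, ∀ t, ρ (u t) (v s) = ∑ j ∈ range (n - s + 1), (((n - s).choose j : k) * κ t ^ j) • v (s + j)
  h : ∀ s ≤ n, ∀ a : Kˣ, ρ (h a) (v s) = (κ a ^ s * ((κ a)⁻¹) ^ (n - s)) • v s
  w : ∀ s ≤ n, ρ w (v s) = (-1 : k) ^ s • v (n - s)

variable {κ : K →+* k} {ρ : Representation k (_root_.Matrix.SpecialLinearGroup (Fin 2) K) W}

theorem Str.u' {n : ℕ} {v : ℕ → W} (hv : Str κ ρ n v) {d : ℕ} (hd : n < d) {s : ℕ} (hs : s ≤ n) (t : K) :
    ρ (Cfsg.Agent.H943.SL2Rel.u t) (v s) = ∑ j ∈ range d, (((n - s).choose j : k) * κ t ^ j) • v (s + j) := by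
  rw [hv.u s hs]
  refine Finset.sum_subset (Finset.range_mono (by omega)) fun j _ hj => ?_
  rw [Nat.choose_eq_zero_of_lt (by rw [mem_range] at hj; omega), Nat.cast_zero, zero_mul, zero_smul]

theorem Str.top {n : ℕ} {v : ℕ → W} (hv : Str κ ρ n v) (t : K) : ρ (Cfsg.Agent.H943.SL2Rel.u t) (v n) = v n := by
  rw [hv.u n le_rfl]
  simp only [_root_.tsub_self, _root_.zero_add, _root_.Finset.range_one, _root_.Finset.sum_singleton, _root_.Nat.choose_self, _root_.Nat.cast_one, _root_.pow_zero, _root_.mul_one, _root_.add_zero, _root_.one_smul]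

variable {N : W →ₗ[k] W →ₗ[k] W →ₗ[k] k} (hN : ∀ g x y z, N (ρ g x) (ρ g y) (ρ g z) = N x y z)

include hN

section one

variable {i j l : ℕ} {x y z : ℕ → W} (hx : Str κ ρ i x) (hy : Str κ ρ j y) (hz : Str κ ρ l z)

include hx hy hz

theorem mirror {a b c : ℕ} (ha : a ≤ i) (hb : b ≤ j) (hc : c ≤ l) :
    N (x a) (y b) (z c) = (-1 : k) ^ a * ((-1) ^ b * ((-1) ^ c * N (x (i - a)) (y (j - b)) (z (l - c)))) := by
  rw [← hN Cfsg.Agent.H943.SL2Rel.w, hx.w a ha, hy.w b hb, hz.w c hc]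
  simp only [map_smul, LinearMap.smul_apply, smul_eq_mul]
  ring

theorem mirror_zero {a b c : ℕ} (ha : a ≤ i) (hb : b ≤ j) (hc : c ≤ l)
    (h : N (x (i - a)) (y (j - b)) (z (l - c)) = 0) : N (x a) (y b) (z c) = 0 := by
  rw [mirror hN hx hy hz ha hb hc, h, mul_zero, mul_zero, mul_zero]

theorem eq_one [Fintype K] {p : ℕ} (hpK : p ≤ Fintype.card K) (hi : i < p) (hl : l < p) {c : ℕ} (hc : c ≤ l) :
    ∀ m < p, (i.choose m : k) * N (x m) (y j) (z c) = (-1) ^ m * ((l - c).choose m : k) * N (x 0) (y j) (z (c + m)) := by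
  refine coef_eq κ hpK fun t => ?_
  have h1 : N (ρ (u t) (x 0)) (y j) (z c) = N (x 0) (y j) (ρ (u (-t)) (z c)) := by
    have h2 := hN (u t) (x 0) (y j) (ρ (u (-t)) (z c))
    rw [hy.top, ← Module.End.mul_apply (ρ (u t)), ← map_mul, ← u_add, add_neg_cancel] at h2
    have h3 : (u (0 : K)) = 1 := by
      have := u_add (0 : K) 0
      rw [add_zero] at this
      exact (mul_eq_left.1 this.symm)
    rw [h3, map_one, Module.End.one_apply] at h2
    exact h2
  rw [hx.u' hi (Nat.zero_le _), hz.u' hl hc] at h1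
  simp only [map_sum, LinearMap.sum_apply, map_smul, LinearMap.smul_apply, smul_eq_mul, Nat.sub_zero, zero_add,
    map_neg] at h1
  refine Eq.trans (Finset.sum_congr rfl fun m _ => ?_) (h1.trans (Finset.sum_congr rfl fun m _ => ?_))
  · ring
  · rw [neg_pow]
    ring

/-- weights of the torus -/
theorem wt {a b c : ℕ} (ha : a ≤ i) (hb : b ≤ j) (hc : c ≤ l) (h : N (x a) (y b) (z c) ≠ 0) (r : Kˣ) :
    (κ r ^ (2 * (a + b + c)) : k) = κ r ^ (i + j + l) := by
  have h1 := hN (Cfsg.Agent.H943.SL2Rel.h r) (x a) (y b) (z c)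
  rw [hx.h a ha, hy.h b hb, hz.h c hc] at h1
  simp only [map_smul, LinearMap.smul_apply, smul_eq_mul] at h1
  have hr : κ r ≠ 0 := (map_ne_zero κ).2 r.ne_zero
  have h2 : (κ r ^ (a + b + c)) * ((κ r)⁻¹) ^ (i + j + l - (a + b + c)) = 1 := by
    have h3 : (κ r ^ (a + b + c)) * ((κ r)⁻¹) ^ (i + j + l - (a + b + c)) * N (x a) (y b) (z c) = N (x a) (y b) (z c) := by
      refine Eq.trans ?_ h1
      rw [show i + j + l - (a + b + c) = (i - a) + (j - b) + (l - c) by omega]
      ring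
    exact mul_right_cancel₀ h (h3.trans (one_mul _).symm)
  have h4 : κ r ^ (i + j + l) = κ r ^ (a + b + c) * κ r ^ (i + j + l - (a + b + c)) := by
    rw [← pow_add]
    congr 1
    omega
  have h5 : κ r ^ (i + j + l - (a + b + c)) * ((κ r)⁻¹) ^ (i + j + l - (a + b + c)) = 1 := by
    rw [← mul_pow, mul_inv_cancel₀ hr, one_pow]
  rw [h4, two_mul, pow_add]
  congr 1
  calc κ r ^ (a + b + c) = κ r ^ (a + b + c) * (κ r ^ (i + j + l - (a + b + c)) * ((κ r)⁻¹) ^ (i + j + l - (a + b + c))) := by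
        rw [h5, mul_one]
    _ = (κ r ^ (a + b + c) * ((κ r)⁻¹) ^ (i + j + l - (a + b + c))) * κ r ^ (i + j + l - (a + b + c)) := by ring
    _ = _ := by rw [h2, one_mul]

section main

variable [Fintype K] {p s : ℕ} [Fact p.Prime] [CharP k p] (hpK : p ≤ Fintype.card K) (hi : i < p) (hj : j < p) (hl : l < p)
  (hs : 2 * s = i + j + l) (hG : ∀ c ≤ l, c + j ≠ s → N (x 0) (y j) (z c) = 0)

include hpK hi hj hl hs hG

theorem exact_j {m c : ℕ} (hm : m ≤ i) (hc : c ≤ l) (h : m + j + c ≠ s) : N (x m) (y j) (z c) = 0 := by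
  have h1 := eq_one hN hx hy hz hpK hi hl hc m (by omega)
  have h2 : (-1) ^ m * ((l - c).choose m : k) * N (x 0) (y j) (z (c + m)) = 0 := by
    rcases le_or_gt m (l - c) with h3 | h3
    · rw [hG (c + m) (by omega) (by omega), mul_zero]
    · rw [Nat.choose_eq_zero_of_lt h3, Nat.cast_zero, mul_zero, zero_mul]
  rw [h2] at h1
  exact (mul_eq_zero.1 h1).resolve_left (choose_ne hi hm)

theorem exact_z {m c : ℕ} (hm : m ≤ i) (hc : c ≤ l) (h : m + c ≠ s) : N (x m) (y 0) (z c) = 0 := by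
  refine mirror_zero hN hx hy hz hm (Nat.zero_le _) hc ?_
  rw [Nat.sub_zero]
  exact exact_j hN hx hy hz hpK hi hj hl hs hG (by omega) (by omega) (by omega)

theorem exact_lo {m b c : ℕ} (hm : m ≤ i) (hb : b ≤ j) (hc : c ≤ l) (hmc : s ≤ m + c + j) (h : m + b + c ≠ s) :
    N (x m) (y b) (z c) = 0 := by
  classical
  have hd : p ≤ Fintype.card K := hpK
  -- the value of the right hand side
  let A : k := ∑ f ∈ range p, ∑ e ∈ range p, ((i - m).choose e : k) * (-1) ^ e * (((l - c).choose f : k) * (-1) ^ f) *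
    N (x (m + e)) (y 0) (z (c + f))
  have key : ∀ t : K, N (x m) (ρ (Cfsg.Agent.H943.SL2Rel.u t) (y 0)) (z c) = if m + c ≤ s then A * κ t ^ (s - m - c) else 0 := by
    intro t
    have h0 : (Cfsg.Agent.H943.SL2Rel.u (0 : K)) = 1 := by
      have := u_add (0 : K) 0
      rw [add_zero] at this
      exact (mul_eq_left.1 this.symm)
    have h1 : N (x m) (ρ (Cfsg.Agent.H943.SL2Rel.u t) (y 0)) (z c) = N (ρ (Cfsg.Agent.H943.SL2Rel.u (-t)) (x m)) (y 0) (ρ (Cfsg.Agent.H943.SL2Rel.u (-t)) (z c)) := by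
      have h2 := hN (Cfsg.Agent.H943.SL2Rel.u (-t)) (x m) (ρ (Cfsg.Agent.H943.SL2Rel.u t) (y 0)) (z c)
      rw [← Module.End.mul_apply (ρ (Cfsg.Agent.H943.SL2Rel.u (-t))) (ρ (Cfsg.Agent.H943.SL2Rel.u t)), ← map_mul, ← u_add, neg_add_cancel, h0, map_one, Module.End.one_apply] at h2
      exact h2.symm
    rw [h1, hx.u' hi hm, hz.u' hl hc]
    simp only [map_sum, LinearMap.sum_apply, map_smul, LinearMap.smul_apply, smul_eq_mul, map_neg]
    have hterm : ∀ e ∈ range p, ∀ f ∈ range p, (((l - c).choose f : k) * (-κ t) ^ f) * ((((i - m).choose e : k) * (-κ t) ^ e) *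
        N (x (m + e)) (y 0) (z (c + f))) = if m + c ≤ s then (((i - m).choose e : k) * (-1) ^ e * (((l - c).choose f : k) * (-1) ^ f) *
    N (x (m + e)) (y 0) (z (c + f))) * κ t ^ (s - m - c) else 0 := by
      intro e _ f _
      rcases le_or_gt e (i - m) with he | he
      swap
      · rw [Nat.choose_eq_zero_of_lt he]
        simp only [_root_.Nat.cast_zero, _root_.MulZeroClass.zero_mul, _root_.MulZeroClass.mul_zero, _root_.ite_self]
      rcases le_or_gt f (l - c) with hf | hf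
      swap
      · rw [Nat.choose_eq_zero_of_lt hf]
        simp only [_root_.Nat.cast_zero, _root_.MulZeroClass.zero_mul, _root_.MulZeroClass.mul_zero, _root_.ite_self]
      by_cases h3 : m + e + (c + f) = s
      · rw [if_pos (by omega), show s - m - c = e + f by omega, neg_pow (κ t) f, neg_pow (κ t) e]
        ring
      · rw [exact_z hN hx hy hz hpK hi hj hl hs hG (by omega) (by omega) h3]
        simp only [_root_.MulZeroClass.mul_zero, _root_.MulZeroClass.zero_mul, _root_.ite_self]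
    by_cases h4 : m + c ≤ s
    · rw [if_pos h4]
      simp only [A, Finset.sum_mul, Finset.mul_sum]
      refine sum_congr rfl fun f hf => sum_congr rfl fun e he => ?_
      rw [hterm e he f hf, if_pos h4]
    · rw [if_neg h4]
      refine sum_eq_zero fun f hf => ?_
      rw [Finset.mul_sum]
      refine sum_eq_zero fun e he => ?_
      rw [hterm e he f hf, if_neg h4]
  have key2 : ∀ t : K, ∑ r ∈ range p, ((j.choose r : k) * N (x m) (y r) (z c)) * κ t ^ r =
      ∑ r ∈ range p, (if m + r + c = s then A else 0) * κ t ^ r := by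
    intro t
    have h5 := key t
    rw [hy.u' hj (Nat.zero_le _)] at h5
    simp only [map_sum, LinearMap.sum_apply, map_smul, LinearMap.smul_apply, smul_eq_mul, Nat.sub_zero, zero_add] at h5
    refine Eq.trans (sum_congr rfl fun r _ => by ring) (h5.trans ?_)
    by_cases h4 : m + c ≤ s
    · rw [if_pos h4, Finset.sum_eq_single (s - m - c)]
      · rw [if_pos (by omega)]
      · intro r _ hr
        rw [if_neg (by omega), zero_mul]
      · intro hr
        exact absurd (mem_range.2 (by omega)) hr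
    · rw [if_neg h4]
      refine (sum_eq_zero fun r _ => ?_).symm
      rw [if_neg (by omega), zero_mul]
  have h6 := coef_eq κ hpK key2 b (by omega)
  rw [if_neg h] at h6
  exact (mul_eq_zero.1 h6).resolve_left (choose_ne hj hb)

/-- **EXACT**, first form -/
theorem exact_of {m b c : ℕ} (hm : m ≤ i) (hb : b ≤ j) (hc : c ≤ l) (h : m + b + c ≠ s) : N (x m) (y b) (z c) = 0 := by
  by_cases h1 : s ≤ m + c + j
  · exact exact_lo hN hx hy hz hpK hi hj hl hs hG hm hb hc h1 h
  · refine mirror_zero hN hx hy hz hm hb hc ?_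
    exact exact_lo hN hx hy hz hpK hi hj hl hs hG (by omega) (by omega) (by omega) (by omega) (by omega)

end main

omit hz in
theorem wt_mod [Fintype K] (hz : Str κ ρ l z) {a b c : ℕ} (ha : a ≤ i) (hb : b ≤ j) (hc : c ≤ l) (h : N (x a) (y b) (z c) ≠ 0) :
    2 * (a + b + c) ≡ i + j + l [MOD (Fintype.card K - 1)] := by
  classical
  obtain ⟨r, hr⟩ := IsCyclic.exists_ofOrder_eq_natCard (α := Kˣ)
  have h1 := wt hN hx hy hz ha hb hc h r
  rw [← map_pow, ← map_pow] at h1
  have h2 := κ.injective h1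
  have h3 : r ^ (2 * (a + b + c)) = r ^ (i + j + l) := by
    refine Units.ext ?_
    rw [Units.val_pow_eq_pow_val, Units.val_pow_eq_pow_val]
    exact h2
  have h4 := pow_eq_pow_iff_modEq.1 h3
  rwa [hr, Nat.card_eq_fintype_card, Fintype.card_units] at h4

theorem top_zero [Fintype K] {p : ℕ} [Fact p.Prime] [CharP k p] (hpK : p ≤ Fintype.card K) (hi : i < p) (hl : l < p)
    {c : ℕ} (hc : c ≤ l) (hic : i < c) : N (x 0) (y j) (z c) = 0 := by
  have h1 := eq_one hN hx hy hz hpK hi hl (Nat.zero_le l) c (by omega)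
  rw [Nat.choose_eq_zero_of_lt hic, Nat.cast_zero, zero_mul, zero_add, Nat.sub_zero] at h1
  have h2 := h1.symm
  rw [mul_assoc] at h2
  exact (mul_eq_zero.1 ((mul_eq_zero.1 h2).resolve_left (pow_ne_zero _ (neg_ne_zero.2 one_ne_zero)))).resolve_left
    (choose_ne hl hc)

theorem bot_zero [Fintype K] {p : ℕ} [Fact p.Prime] [CharP k p] (hpK : p ≤ Fintype.card K) (hj : j < p) (hl : l < p)
    {c : ℕ} (hc : c ≤ l) (hic : c + j < l) : N (x 0) (y j) (z c) = 0 := by
  refine mirror_zero hN hx hy hz (Nat.zero_le _) le_rfl hc ?_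
  rw [Nat.sub_zero, Nat.sub_self]
  have h1 : N.flip (y 0) (x i) (z (l - c)) = 0 :=
    top_zero (N := N.flip) (fun g a b c => by rw [LinearMap.flip_apply, LinearMap.flip_apply]; exact hN g b a c) hy hx hz
      hpK hj hl (by omega) (by omega)
  rwa [LinearMap.flip_apply] at h1

/-- **EXACT** -/
theorem exact [Fintype K] {p s : ℕ} [Fact p.Prime] [CharP k p] (hpK : p ≤ Fintype.card K) (hi : i < p) (hj : j < p)
    (hl : l < p) (hs : 2 * s = i + j + l) (hij : i + j < l + (Fintype.card K - 1)) {m b c : ℕ} (hm : m ≤ i) (hb : b ≤ j)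
    (hc : c ≤ l) (h : m + b + c ≠ s) : N (x m) (y b) (z c) = 0 := by
  refine exact_of hN hx hy hz hpK hi hj hl hs (fun c hc hcs => ?_) hm hb hc h
  by_contra h1
  have h2 : c ≤ i := by
    by_contra h3
    exact h1 (top_zero hN hx hy hz hpK hi hl hc (by omega))
  have h3 : l ≤ c + j := by
    by_contra h3
    exact h1 (bot_zero hN hx hy hz hpK hj hl hc (by omega))
  have h4 := wt_mod hN hx hy hz (Nat.zero_le _) le_rfl hc h1
  rw [← hs] at h4
  rcases Nat.lt_or_gt_of_ne hcs with h5 | h5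
  · have h6 := (Nat.modEq_iff_dvd' (by omega)).1 h4
    have := Nat.le_of_dvd (by omega) h6
    omega
  · have h6 := (Nat.modEq_iff_dvd' (by omega)).1 h4.symm
    have := Nat.le_of_dvd (by omega) h6
    omega

end one

end Cfsg.Agent.R2.F4N
end

-- part: R2/F4N/Diag
section
set_option linter.all false
open scoped Cfsg.Agent.FastGrp

/-!
# Endomorphisms of finite order over a field with enough roots of unity (lead, S5931)
-/

set_option autoImplicit false

namespace Cfsg.Agent.R2.F4N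

open Finset

universe u v

variable {F : Type u} [Field F] {V : Type v} [AddCommGroup V] [Module F V]

/-- the projection to the eigenspace, up to the factor `n` -/
noncomputable def prj (A : Module.End F V) (n : ℕ) (ζ : F) (e : ℕ) (v : V) : V :=
  ∑ j ∈ range n, (ζ⁻¹ ^ e) ^ j • (A ^ j) v

theorem prj_eig {A : Module.End F V} {n : ℕ} {ζ : F} (hζ : ζ ^ n = 1) (hn : 0 < n) (hA : A ^ n = 1) (e : ℕ) (v : V) :
    A (prj A n ζ e v) = ζ ^ e • prj A n ζ e v := by
  have hζ0 : ζ ≠ 0 := by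
    rintro rfl
    rw [zero_pow (by omega)] at hζ
    exact zero_ne_one hζ
  have h1 : ∀ j, A ((ζ⁻¹ ^ e) ^ j • (A ^ j) v) = ζ ^ e • ((ζ⁻¹ ^ e) ^ (j + 1) • (A ^ (j + 1)) v) := by
    intro j
    rw [map_smul, pow_succ' A j, Module.End.mul_apply, smul_smul, pow_succ (ζ⁻¹ ^ e) j]
    congr 1
    have : ζ ^ e * ζ⁻¹ ^ e = 1 := by rw [← mul_pow, mul_inv_cancel₀ hζ0, one_pow]
    calc (ζ⁻¹ ^ e) ^ j = (ζ⁻¹ ^ e) ^ j * (ζ ^ e * ζ⁻¹ ^ e) := by rw [this, mul_one]
      _ = _ := by ring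
  unfold prj
  rw [map_sum, Finset.smul_sum]
  simp only [h1]
  rw [← Finset.smul_sum, ← Finset.smul_sum]
  congr 1
  have h2 := Finset.sum_range_succ (fun j => (ζ⁻¹ ^ e) ^ j • (A ^ j) v) n
  have h3 := Finset.sum_range_succ' (fun j => (ζ⁻¹ ^ e) ^ j • (A ^ j) v) n
  have h4 : (ζ⁻¹ ^ e) ^ n = 1 := by rw [← pow_mul, mul_comm, pow_mul, inv_pow, hζ, inv_one, one_pow]
  rw [h3] at h2
  simp only [h4, hA, pow_zero] at h2
  exact add_right_cancel h2

theorem sum_prj {A : Module.End F V} {n : ℕ} {ζ : F} (hζ : IsPrimitiveRoot ζ n) (hn : 0 < n) (v : V) :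
    ∑ e ∈ range n, prj A n ζ e v = (n : F) • v := by
  unfold prj
  rw [Finset.sum_comm, Finset.sum_eq_single 0]
  · simp [Nat.cast_smul_eq_nsmul]
  · intro j hj hj0
    rw [mem_range] at hj
    rw [← Finset.sum_smul]
    have h1 : ∑ e ∈ range n, (ζ⁻¹ ^ e) ^ j = 0 := by
      have h2 : ∀ e, (ζ⁻¹ ^ e) ^ j = (ζ⁻¹ ^ j) ^ e := fun e => by rw [← pow_mul, ← pow_mul, mul_comm]
      simp only [h2]
      have h3 : ζ⁻¹ ^ j ≠ 1 := by
        intro h4
        rw [inv_pow, inv_eq_one] at h4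
        exact hj0 (Nat.eq_zero_of_dvd_of_lt ((hζ.pow_eq_one_iff_dvd j).1 h4) hj)
      have h5 := mul_geom_sum (ζ⁻¹ ^ j) n
      have h6 : (ζ⁻¹ ^ j) ^ n = 1 := by rw [← pow_mul, mul_comm, pow_mul, inv_pow, hζ.pow_eq_one, inv_one, one_pow]
      rw [h6, sub_self] at h5
      exact (mul_eq_zero.1 h5).resolve_left (sub_ne_zero.2 h3)
    rw [h1, zero_smul]
  · intro h
    exact absurd (mem_range.2 hn) h

/-- the eigenspaces span -/
theorem iSup_eig {A : Module.End F V} {n : ℕ} {ζ : F} (hζ : IsPrimitiveRoot ζ n) (hn : 0 < n) (hnF : (n : F) ≠ 0)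
    (hA : A ^ n = 1) {I : Type*} (ν : I → F) (hν : ∀ μ : F, ∀ v : V, v ≠ 0 → A v = μ • v → ∃ i, ν i = μ) :
    ⨆ i, Module.End.eigenspace A (ν i) = ⊤ := by
  rw [eq_top_iff]
  intro v _
  have h1 : v = (n : F)⁻¹ • ∑ e ∈ range n, prj A n ζ e v := by
    rw [sum_prj hζ hn, smul_smul, inv_mul_cancel₀ hnF, one_smul]
  rw [h1]
  refine Submodule.smul_mem _ _ (Submodule.sum_mem _ fun e _ => ?_)
  by_cases h0 : prj A n ζ e v = 0
  · rw [h0]
    exact Submodule.zero_mem _
  · have h2 := prj_eig hζ.pow_eq_one hn hA e v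
    obtain ⟨i, hi⟩ := hν _ _ h0 h2
    refine Submodule.mem_iSup_of_mem i ?_
    rw [Module.End.mem_eigenspace_iff, hi]
    exact h2

/-- a basis of eigenvectors -/
theorem exists_eig_basis {A : Module.End F V} [FiniteDimensional F V] {n : ℕ} {ζ : F} (hζ : IsPrimitiveRoot ζ n) (hn : 0 < n)
    (hnF : (n : F) ≠ 0) (hA : A ^ n = 1) {I : Type} [Fintype I] [DecidableEq I] (ν : I → F) (hinj : Function.Injective ν)
    (hν : ∀ μ : F, ∀ v : V, v ≠ 0 → A v = μ • v → ∃ i, ν i = μ) :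
    ∃ (J : Type) (_ : Fintype J) (B : Module.Basis J F V) (m : J → I), (∀ j, A (B j) = ν (m j) • B j) ∧
      ∀ i v, A v = ν i • v → ∀ j, B.repr v j ≠ 0 → m j = i := by
  classical
  have hint : DirectSum.IsInternal (fun i => Module.End.eigenspace A (ν i)) := by
    rw [DirectSum.isInternal_submodule_iff_iSupIndep_and_iSup_eq_top]
    exact ⟨(Module.End.eigenspaces_iSupIndep A).comp hinj, iSup_eig hζ hn hnF hA ν hν⟩
  let b : ∀ i, Module.Basis (Fin (Module.finrank F (Module.End.eigenspace A (ν i)))) F (Module.End.eigenspace A (ν i)) :=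
    fun i => Module.finBasis F _
  refine ⟨Σ i, Fin (Module.finrank F (Module.End.eigenspace A (ν i))), inferInstance, hint.collectedBasis b, fun j => j.1,
    fun j => ?_, fun i v hv j hj => ?_⟩
  · exact Module.End.mem_eigenspace_iff.1 (hint.collectedBasis_mem b j)
  · by_contra hne
    apply hj
    exact hint.collectedBasis_repr_of_mem_ne b (Ne.symm hne) (Module.End.mem_eigenspace_iff.2 hv)

end Cfsg.Agent.R2.F4N
end

-- part: R2/F4N/Nil
section
set_option linter.all false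
open scoped Cfsg.Agent.FastGrp

/-!
# A nilpotent endomorphism with two blocks of maximal size (lead, S5931)
-/

set_option autoImplicit false

namespace Cfsg.Agent.R2.F4N

open Finset Module

universe u v

variable {F : Type u} [Field F] {V : Type v} [AddCommGroup V] [Module F V] {E : Module.End F V} {p : ℕ} {b₁ b₂ : V}

/-- combinations of the two strings -/
def cmb (E : Module.End F V) (p : ℕ) (b₁ b₂ : V) (α β : ℕ → F) : V :=
  ∑ i ∈ range p, (α i • (E ^ i) b₁ + β i • (E ^ i) b₂)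

theorem cmb_coef (hE : ∀ n, p ≤ n → (E ^ n) b₁ = 0 ∧ (E ^ n) b₂ = 0)
    (hli : ∀ c d : F, c • (E ^ (p - 1)) b₁ + d • (E ^ (p - 1)) b₂ = 0 → c = 0 ∧ d = 0) {r : ℕ} {α β : ℕ → F}
    (h : (E ^ r) (cmb E p b₁ b₂ α β) = 0) : ∀ i, i + r < p → α i = 0 ∧ β i = 0 := by
  intro i
  induction i using Nat.strong_induction_on with
  | _ i ih =>
    intro hi
    apply hli
    have h1 : (E ^ (p - 1 - i)) (cmb E p b₁ b₂ α β) = 0 := by
      rw [show p - 1 - i = (p - 1 - i - r) + r by omega, pow_add, Module.End.mul_apply, h, map_zero]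
    rw [← h1]
    unfold cmb
    rw [map_sum, Finset.sum_eq_single i]
    · rw [map_add, map_smul, map_smul, ← Module.End.mul_apply, ← Module.End.mul_apply, ← pow_add,
        show p - 1 - i + i = p - 1 by omega]
    · intro j hj hji
      rw [mem_range] at hj
      rcases lt_or_gt_of_ne hji with h2 | h2
      · obtain ⟨h3, h4⟩ := ih j h2 (by omega)
        rw [h3, h4, zero_smul, zero_smul, add_zero, map_zero]
      · rw [map_add, map_smul, map_smul, ← Module.End.mul_apply, ← Module.End.mul_apply, ← pow_add]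
        obtain ⟨h3, h4⟩ := hE (p - 1 - i + j) (by omega)
        rw [h3, h4, smul_zero, smul_zero, add_zero]
    · intro h2
      exact absurd (mem_range.2 (by omega)) h2

theorem cmb_eq (α β : ℕ → F) : cmb E p b₁ b₂ α β =
    ∑ i : Fin p ⊕ Fin p, (Sum.elim (fun i : Fin p => α i) (fun i : Fin p => β i) i : F) •
      (Sum.elim (fun i : Fin p => (E ^ (i : ℕ)) b₁) (fun i : Fin p => (E ^ (i : ℕ)) b₂) i : V) := by
  unfold cmb
  rw [Fintype.sum_sum_type, Finset.sum_add_distrib, Finset.sum_range, Finset.sum_range]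
  rfl

/-- **the structure** -/
theorem two_blocks {W : Submodule F V} [FiniteDimensional F W] (hW : ∀ v ∈ W, E v ∈ W) (h1 : b₁ ∈ W) (h2 : b₂ ∈ W)
    (hfin : finrank F W = 2 * p) (hE : ∀ n, p ≤ n → (E ^ n) b₁ = 0 ∧ (E ^ n) b₂ = 0)
    (hli : ∀ c d : F, c • (E ^ (p - 1)) b₁ + d • (E ^ (p - 1)) b₂ = 0 → c = 0 ∧ d = 0) {v : V} (hv : v ∈ W) :
    ∃ α β, v = cmb E p b₁ b₂ α β := by
  classical
  have hWn : ∀ n, ∀ v ∈ W, (E ^ n) v ∈ W := by
    intro n
    induction n with
    | zero => intro v hv; exact hv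
    | succ n ih =>
      intro v hv
      rw [pow_succ', Module.End.mul_apply]
      exact hW _ (ih v hv)
  let w : Fin p ⊕ Fin p → V := Sum.elim (fun i : Fin p => (E ^ (i : ℕ)) b₁) (fun i : Fin p => (E ^ (i : ℕ)) b₂)
  have hw : ∀ i, w i ∈ W := by
    rintro (i | i)
    · exact hWn _ _ h1
    · exact hWn _ _ h2
  have hlw : LinearIndependent F w := by
    rw [Fintype.linearIndependent_iff]
    intro g hg
    have h3 : cmb E p b₁ b₂ (fun i => if hi : i < p then g (Sum.inl ⟨i, hi⟩) else 0)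
        (fun i => if hi : i < p then g (Sum.inr ⟨i, hi⟩) else 0) = 0 := by
      rw [cmb_eq, ← hg]
      refine Finset.sum_congr rfl fun i _ => ?_
      rcases i with i | i
      · simp only [Sum.elim_inl, Fin.is_lt, dif_pos, Fin.eta]
        rfl
      · simp only [Sum.elim_inr, Fin.is_lt, dif_pos, Fin.eta]
        rfl
    have h4 := cmb_coef hE hli (r := 0) (by rw [pow_zero, Module.End.one_apply]; exact h3)
    rintro (i | i)
    · have h5 := (h4 i (by have := i.2; omega)).1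
      simp only [Fin.is_lt, dif_pos, Fin.eta] at h5
      exact h5
    · have h5 := (h4 i (by have := i.2; omega)).2
      simp only [Fin.is_lt, dif_pos, Fin.eta] at h5
      exact h5
  have hsp : Submodule.span F (Set.range w) = W := by
    refine Submodule.eq_of_le_of_finrank_eq ?_ ?_
    · rw [Submodule.span_le]
      rintro _ ⟨i, rfl⟩
      exact hw i
    · rw [finrank_span_eq_card hlw, hfin, Fintype.card_sum, Fintype.card_fin, two_mul]
  rw [← hsp] at hv
  obtain ⟨c, hc⟩ := (Submodule.mem_span_range_iff_exists_fun F).1 hv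
  refine ⟨fun i => if hi : i < p then c (Sum.inl ⟨i, hi⟩) else 0, fun i => if hi : i < p then c (Sum.inr ⟨i, hi⟩) else 0, ?_⟩
  rw [cmb_eq, ← hc]
  refine Finset.sum_congr rfl fun i _ => ?_
  rcases i with i | i
  · simp only [Sum.elim_inl, Fin.is_lt, dif_pos, Fin.eta]
    rfl
  · simp only [Sum.elim_inr, Fin.is_lt, dif_pos, Fin.eta]
    rfl

/-- kernels of powers are images of powers -/
theorem ker_range {W : Submodule F V} [FiniteDimensional F W] (hW : ∀ v ∈ W, E v ∈ W) (h1 : b₁ ∈ W) (h2 : b₂ ∈ W)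
    (hfin : finrank F W = 2 * p) (hE : ∀ n, p ≤ n → (E ^ n) b₁ = 0 ∧ (E ^ n) b₂ = 0)
    (hli : ∀ c d : F, c • (E ^ (p - 1)) b₁ + d • (E ^ (p - 1)) b₂ = 0 → c = 0 ∧ d = 0) {r : ℕ} (hr : r ≤ p) {v : V}
    (hv : v ∈ W) (h : (E ^ r) v = 0) : ∃ w, v = (E ^ (p - r)) w := by
  obtain ⟨α, β, rfl⟩ := two_blocks hW h1 h2 hfin hE hli hv
  have h3 := cmb_coef hE hli h
  refine ⟨∑ i ∈ range r, (α (p - r + i) • (E ^ i) b₁ + β (p - r + i) • (E ^ i) b₂), ?_⟩
  rw [map_sum]
  unfold cmb
  rw [show p = (p - r) + r by omega, Finset.sum_range_add, Finset.sum_eq_zero, zero_add]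
  · refine Finset.sum_congr rfl fun i _ => ?_
    rw [show p - r + r = p by omega, map_add, map_smul, map_smul, ← Module.End.mul_apply, ← Module.End.mul_apply, ← pow_add]
  · intro i hi
    rw [mem_range] at hi
    obtain ⟨h4, h5⟩ := h3 i (by omega)
    rw [h4, h5, zero_smul, zero_smul, add_zero]

end Cfsg.Agent.R2.F4N
end

-- part: R2/H1/F4/E4
section
set_option linter.all false
open scoped Cfsg.Agent.FastGrp

/-!
# S5931: the cubic identity on the trace-zero part of the 27-dimensional module (helper1)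

* `st x y = x × y + (1/3) T(x,y) 1` : the product of the trace-zero part;
* `st_cube` (I1) : `x * (x * x) = (2/3) T(x,x) x`;
* `lin3` : its linearisation; `four` (E4) : the quartic identity;
* `no_split` (ORTH).
-/

set_option autoImplicit false

namespace Cfsg.Agent.R2.H1.F4

open Cfsg Cfsg.Lie Module Cfsg.Agent.H952.F4 Cfsg.Agent.H952.F4.Jord
open Cfsg.Agent.ChevalleyStructure.E6Min.Tables Cfsg.Agent.ChevalleyStructure.E6Min.Basic

universe u

variable {k : Type u} [Field k]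

/-- the product of the trace-zero part -/
noncomputable def st (x y : I27 → k) : I27 → k := cr x y + (tf x y / 3) • u0 k

theorem st_comm (x y : I27 → k) : st x y = st y x := by
  unfold st; rw [cr_comm, tf_comm]

theorem st_add_left (x y z : I27 → k) : st (x + y) z = st x z + st y z := by
  unfold st; rw [cr_add_left, tf_add_left, add_div, add_smul]; abel

theorem st_smul_left (c : k) (x y : I27 → k) : st (c • x) y = c • st x y := by
  unfold st; rw [cr_smul_left, tf_smul_left, smul_add, smul_smul, mul_div_assoc]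

theorem st_add_right (x y z : I27 → k) : st x (y + z) = st x y + st x z := by
  rw [st_comm, st_add_left, st_comm y, st_comm z]

theorem st_smul_right (c : k) (x y : I27 → k) : st x (c • y) = c • st x y := by
  rw [st_comm, st_smul_left, st_comm]

theorem tr1_st (h3 : (3 : k) ≠ 0) {x y : I27 → k} (hx : tr1 x = 0) : tr1 (st x y) = 0 := by
  unfold st
  rw [tr1_add, tr1_smul, tr1_cr, tr1_u0, hx]
  field_simp
  ring

theorem tf_u0_right (x : I27 → k) : tf x (u0 k) = tr1 x := by rw [tf_comm, tf_u0]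

/-- the trilinear form -/
theorem tf_st {x y z : I27 → k} (hz : tr1 z = 0) : tf (st x y) z = tf (cr x y) z := by
  unfold st
  rw [tf_add_left, tf_smul_left, tf_u0, hz, mul_zero, add_zero]

theorem tf_st_rot {x y z : I27 → k} (hx : tr1 x = 0) (hz : tr1 z = 0) : tf (st x y) z = tf x (st y z) := by
  rw [tf_st hz, tf_cr, tf_comm x (st y z), tf_st hx, tf_comm]

theorem cr_sh_self {x : I27 → k} (h2 : (2 : k) ≠ 0) (hx : tr1 x = 0) :
    cr x (sh x) = (tf x x / 2) • x - cubicT x • u0 k := by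
  have h1 := cr_sh_cr x (u0 k)
  have h2' : cr x (u0 k) = -x := by rw [cr_comm, cr_u0, hx, zero_smul, zero_sub]
  have h3 : tf (sh x) (u0 k) = -(tf x x / 2) := by
    rw [tf_u0_right]
    have := tr1_sh x
    rw [hx] at this
    field_simp
    linear_combination this
  rw [h2', h3] at h1
  have h4 : cr (sh x) (-x) = - cr x (sh x) := by
    rw [← neg_one_smul k x, cr_smul_right, neg_one_smul, cr_comm]
  rw [h4] at h1
  have h5 : cr x (sh x) = -(cubicT x • u0 k + -(tf x x / 2) • x) := by rw [← h1, neg_neg]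
  rw [h5]
  module

/-- **(I1)** -/
theorem st_cube (h2 : (2 : k) ≠ 0) (h3 : (3 : k) ≠ 0) {x : I27 → k} (hx : tr1 x = 0) :
    st x (st x x) = (2 / 3 * tf x x) • x := by
  have e1 : st x x = (2 : k) • sh x + (tf x x / 3) • u0 k := by
    unfold st; rw [cr_self]
  have e2 : cr x (u0 k) = -x := by rw [cr_comm, cr_u0, hx, zero_smul, zero_sub]
  rw [e1]
  unfold st
  rw [cr_add_right, cr_smul_right, cr_smul_right, cr_sh_self h2 hx, e2, tf_add_right, tf_smul_right, tf_smul_right,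
    tf_u0_right, hx, tf_comm x (sh x), tf_sh_self]
  have e3 : (2 : k) • ((tf x x / 2) • x - cubicT x • u0 k) = tf x x • x - (2 * cubicT x) • u0 k := by
    rw [smul_sub, smul_smul, smul_smul, mul_div_cancel₀ _ h2]
  rw [e3]
  have e4 : (2 * (3 * cubicT x) + tf x x / 3 * 0) / 3 = 2 * cubicT x := by field_simp; ring
  rw [e4]
  have e5 : (2 / 3 * tf x x) = tf x x - tf x x / 3 := by field_simp; ring
  rw [e5]
  module

/-- the linearisation of (I1) -/
theorem lin3 (h2 : (2 : k) ≠ 0) (h3 : (3 : k) ≠ 0) {x y z : I27 → k} (hx : tr1 x = 0) (hy : tr1 y = 0)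
    (hz : tr1 z = 0) :
    st x (st y z) + st y (st x z) + st z (st x y) =
      (2 / 3 : k) • (tf y z • x + tf x z • y + tf x y • z) := by
  have a1 := st_cube h2 h3 hx
  have a2 := st_cube h2 h3 hy
  have a3 := st_cube h2 h3 hz
  have b1 := st_cube h2 h3 (x := x + y) (by rw [tr1_add, hx, hy, add_zero])
  have b2 := st_cube h2 h3 (x := x + z) (by rw [tr1_add, hx, hz, add_zero])
  have b3 := st_cube h2 h3 (x := y + z) (by rw [tr1_add, hy, hz, add_zero])
  have c1 := st_cube h2 h3 (x := x + y + z) (by rw [tr1_add, tr1_add, hx, hy, hz, add_zero, add_zero])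
  simp only [st_add_left, st_add_right, tf_add_left, tf_add_right] at b1 b2 b3 c1
  have exy := st_comm y x
  have exz := st_comm z x
  have eyz := st_comm z y
  rw [exy] at b1 c1
  rw [exz] at b2 c1
  rw [eyz] at b3 c1
  rw [tf_comm y x] at b1 c1
  rw [tf_comm z x] at b2 c1
  rw [tf_comm z y] at b3 c1
  have h4 : (2 : k) • (st x (st y z) + st y (st x z) + st z (st x y)) =
      (2 : k) • ((2 / 3 : k) • (tf y z • x + tf x z • y + tf x y • z)) := by
    linear_combination (norm := module) (1 : k) • c1 - (1 : k) • b1 - (1 : k) • b2 - (1 : k) • b3 + (1 : k) • a1 + (1 : k) • a2 + (1 : k) • a3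
  have h5 := congrArg (fun v => (2 : k)⁻¹ • v) h4
  simpa only [smul_smul, ← mul_assoc, inv_mul_cancel₀ h2, one_mul, one_smul] using h5

/-- **(E4)** -/
theorem four (h2 : (2 : k) ≠ 0) (h3 : (3 : k) ≠ 0) {x y z w : I27 → k} (hx : tr1 x = 0) (hy : tr1 y = 0)
    (hz : tr1 z = 0) (hw : tr1 w = 0) :
    tf (st x y) (st z w) + tf (st x z) (st y w) + tf (st x w) (st y z) =
      2 / 3 * (tf x y * tf z w + tf x z * tf y w + tf x w * tf y z) := by
  have h := congrArg (fun v => tf v w) (lin3 h2 h3 hx hy hz)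
  simp only [tf_add_left, tf_smul_left] at h
  have e1 : tf (st x (st y z)) w = tf (st x w) (st y z) := by
    rw [st_comm, tf_st_rot (tr1_st h3 hy) hw, tf_comm]
  have e2 : tf (st y (st x z)) w = tf (st x z) (st y w) := by
    rw [st_comm, tf_st_rot (tr1_st h3 hx) hw]
  have e3 : tf (st z (st x y)) w = tf (st x y) (st z w) := by
    rw [st_comm, tf_st_rot (tr1_st h3 hx) hw]
  rw [e1, e2, e3] at h
  linear_combination h

/-- a vector with `x * x = 0` is isotropic -/
theorem iso_of_sq (h2 : (2 : k) ≠ 0) (h3 : (3 : k) ≠ 0) {x : I27 → k} (hx : tr1 x = 0) (h0 : st x x = 0) :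
    tf x x = 0 := by
  have h := st_cube h2 h3 hx
  have h1 : st x 0 = 0 := by
    have := st_smul_right (0 : k) x (0 : I27 → k)
    rwa [zero_smul, zero_smul] at this
  rw [h0, h1] at h
  by_contra hne
  have h4 : (2 / 3 * tf x x : k) ≠ 0 := mul_ne_zero (div_ne_zero h2 h3) hne
  have h5 : x = 0 := (smul_eq_zero.1 h.symm).resolve_left h4
  apply hne
  rw [h5]
  have := tf_smul_left (0 : k) (0 : I27 → k) 0
  rwa [zero_smul, zero_mul] at this

/-- `x * x = 0` means that `x` is white -/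
theorem sh_of_sq (h2 : (2 : k) ≠ 0) (h3 : (3 : k) ≠ 0) {x : I27 → k} (hx : tr1 x = 0) (h0 : st x x = 0) :
    sh x = 0 := by
  have h1 := iso_of_sq h2 h3 hx h0
  unfold st at h0
  rw [h1, zero_div, zero_smul, add_zero, cr_self] at h0
  exact (smul_eq_zero.1 h0).resolve_left h2

/-- `cr` and `sh` in terms of `st` -/
theorem sh_eq (h2 : (2 : k) ≠ 0) (x : I27 → k) : sh x = (1 / 2 : k) • (st x x - (tf x x / 3) • u0 k) := by
  unfold st
  rw [cr_self, add_sub_cancel_right, smul_smul, one_div, inv_mul_cancel₀ h2, one_smul]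

end Cfsg.Agent.R2.H1.F4
end

-- part: R2/H1/F4/Alg4
section
prune_inst 0x3130614436a200000018059273001c76b600049200080800e8c00d4604c1ae22804328219e101500008ea04428310000001000400000000002000000011e0080000012049108a208480080000080000000000000000000000000000000000004000000000
set_option linter.all false
open scoped Cfsg.Agent.FastGrp

-- part: R2/H1/F4/Tab
section
/-!
# S5931: the invariant trilinear forms on three modules of `SL₂` (helper1)

* `tau A B C a b c` : the coefficient of `t₁^a t₂^b t₃^c` in `(t₁ - t₂)^A (t₁ - t₃)^B (t₂ - t₃)^C`;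
* `tab` : a function `F a b c` with the relations of an invariant trilinear form (scaled bases) is `κ * tau A B C a b c`.
-/

set_option autoImplicit false

namespace Cfsg.Agent.R2.H1.F4

universe u

/-- the coefficient of `t₁^a t₂^b t₃^c` in `(t₁ - t₂)^A (t₁ - t₃)^B (t₂ - t₃)^C` -/
def tau (A B C a b c : ℕ) : ℤ :=
  ∑ x ∈ Finset.range (A + 1), ∑ y ∈ Finset.range (B + 1),
    if y ≤ c ∧ c - y ≤ C ∧ a + x + y = A + B ∧ b + (c - y) = x + C then
      (-1) ^ (x + c) * (A.choose x : ℤ) * (B.choose y : ℤ) * (C.choose (c - y) : ℤ) else 0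

theorem tau_eq_zero {A B C a b c : ℕ} (h : ∀ x ≤ A, ∀ y ≤ B, y ≤ c → c - y ≤ C → a + x + y = A + B →
    b + (c - y) = x + C → False) : tau A B C a b c = 0 := by
  unfold tau
  refine Finset.sum_eq_zero fun x hx => Finset.sum_eq_zero fun y hy => ?_
  rw [if_neg]
  rintro ⟨h1, h2, h3, h4⟩
  exact h x (by simpa [Nat.lt_succ_iff] using hx) y (by simpa [Nat.lt_succ_iff] using hy) h1 h2 h3 h4

theorem tau_level {A B C a b c : ℕ} (h : a + b + c ≠ A + B + C) : tau A B C a b c = 0 :=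
  tau_eq_zero fun x _ y _ h1 h2 h3 h4 => h (by omega)

theorem tau_left {A B C a b c : ℕ} (h : A + B < a) : tau A B C a b c = 0 :=
  tau_eq_zero fun x _ y _ h1 h2 h3 h4 => by omega

theorem tau_mid {A B C a b c : ℕ} (h : A + C < b) : tau A B C a b c = 0 :=
  tau_eq_zero fun x _ y _ h1 h2 h3 h4 => by omega

theorem tau_right {A B C a b c : ℕ} (h : B + C < c) : tau A B C a b c = 0 :=
  tau_eq_zero fun x _ y _ h1 h2 h3 h4 => by omega

/-- the finite check for `tau` -/
def tauOK (A B C : ℕ) : Bool :=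
  (List.range (A + B + 1)).all fun a => (List.range (A + C + 1)).all fun b => (List.range (B + C + 1)).all fun c =>
    (!(a + b + c + 1 == A + B + C) ||
      decide (((a : ℤ) + 1) * tau A B C (a + 1) b c + ((b : ℤ) + 1) * tau A B C a (b + 1) c +
        ((c : ℤ) + 1) * tau A B C a b (c + 1) = 0)) &&
    (!(a + b + c == A + B + C) ||
      decide (tau A B C a b c = (-1) ^ (a + b + c) * tau A B C (A + B - a) (A + C - b) (B + C - c)))

variable {k : Type u} [Field k]

/-- **the table** -/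
theorem tab (A B C : ℕ) (hOK : tauOK A B C = true) (hu : tau A B C 0 (A + C) B = (-1) ^ (A + B)) (F : ℕ → ℕ → ℕ → k)
    (he : ∀ a b c : ℕ, ((a : k) + 1) * F (a + 1) b c + ((b : k) + 1) * F a (b + 1) c + ((c : k) + 1) * F a b (c + 1) = 0)
    (hz1 : ∀ a b c, A + B < a → F a b c = 0) (hz2 : ∀ a b c, A + C < b → F a b c = 0)
    (hz3 : ∀ a b c, B + C < c → F a b c = 0)
    (hw : ∀ a ≤ A + B, ∀ b ≤ A + C, ∀ c ≤ B + C, F a b c = (-1) ^ (a + b + c) * F (A + B - a) (A + C - b) (B + C - c))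
    (hv : ∀ a b c, a + b + c ≠ A + B + C → F a b c = 0)
    (hp : ∀ n : ℕ, 0 < n → n ≤ B ∨ n ≤ A + C → (n : k) ≠ 0) :
    ∃ κ : k, ∀ a b c, F a b c = κ * (tau A B C a b c : k) := by
  have hchk : ∀ a ≤ A + B, ∀ b ≤ A + C, ∀ c ≤ B + C,
      ((a : ℤ) + 1) * tau A B C (a + 1) b c + ((b : ℤ) + 1) * tau A B C a (b + 1) c +
        ((c : ℤ) + 1) * tau A B C a b (c + 1) = 0 ∧
      tau A B C a b c = (-1) ^ (a + b + c) * tau A B C (A + B - a) (A + C - b) (B + C - c) := by
    intro a ha b hb c hc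
    unfold tauOK at hOK
    rw [List.all_eq_true] at hOK
    have h1 := hOK a (List.mem_range.2 (by omega))
    rw [List.all_eq_true] at h1
    have h2 := h1 b (List.mem_range.2 (by omega))
    rw [List.all_eq_true] at h2
    have h3 := h2 c (List.mem_range.2 (by omega))
    rw [Bool.and_eq_true, Bool.or_eq_true, Bool.or_eq_true, decide_eq_true_eq, decide_eq_true_eq,
      Bool.not_eq_true', Bool.not_eq_true', beq_eq_false_iff_ne, beq_eq_false_iff_ne] at h3
    refine ⟨?_, ?_⟩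
    · rcases h3.1 with h4 | h4
      · rw [tau_level (by omega), tau_level (by omega), tau_level (by omega)]
        simp
      · exact h4
    · rcases h3.2 with h4 | h4
      · rw [tau_level h4, tau_level (by omega)]
        simp only [_root_.Int.reduceNeg, _root_.MulZeroClass.mul_zero]
      · exact h4
  refine ⟨(-1) ^ (A + B) * F 0 (A + C) B, ?_⟩
  set κ : k := (-1) ^ (A + B) * F 0 (A + C) B with hκ
  set D : ℕ → ℕ → ℕ → k := fun a b c => F a b c - κ * (tau A B C a b c : k) with hD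
  suffices h : ∀ a b c, D a b c = 0 from fun a b c => sub_eq_zero.1 (h a b c)
  have hτe : ∀ a b c : ℕ, ((a : k) + 1) * (tau A B C (a + 1) b c : k) + ((b : k) + 1) * (tau A B C a (b + 1) c : k) +
      ((c : k) + 1) * (tau A B C a b (c + 1) : k) = 0 := by
    intro a b c
    by_cases h1 : a ≤ A + B ∧ b ≤ A + C ∧ c ≤ B + C
    · have h2 := (hchk a h1.1 b h1.2.1 c h1.2.2).1
      exact_mod_cast congrArg (Int.cast : ℤ → k) h2
    · by_cases ha : A + B < a
      · rw [tau_left (by omega), tau_left ha, tau_left ha]; simp only [_root_.Int.cast_zero, _root_.MulZeroClass.mul_zero, _root_.add_zero]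
      · by_cases hb : A + C < b
        · rw [tau_mid hb, tau_mid (by omega), tau_mid hb]; simp only [_root_.Int.cast_zero, _root_.MulZeroClass.mul_zero, _root_.add_zero]
        · rw [tau_right (by omega), tau_right (by omega), tau_right (by omega)]; simp only [_root_.Int.cast_zero, _root_.MulZeroClass.mul_zero, _root_.add_zero]
  have hDe : ∀ a b c : ℕ, ((a : k) + 1) * D (a + 1) b c + ((b : k) + 1) * D a (b + 1) c +
      ((c : k) + 1) * D a b (c + 1) = 0 := by
    intro a b c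
    have h1 := he a b c
    have h2 := hτe a b c
    simp only [hD]
    linear_combination h1 - κ * h2
  have hDz2 : ∀ a b c, A + C < b → D a b c = 0 := by
    intro a b c h
    simp only [hD]
    rw [hz2 a b c h, tau_mid h]; simp
  have hDz1 : ∀ a b c, A + B < a → D a b c = 0 := by
    intro a b c h
    simp only [hD]
    rw [hz1 a b c h, tau_left h]; simp
  have hDz3 : ∀ a b c, B + C < c → D a b c = 0 := by
    intro a b c h
    simp only [hD]
    rw [hz3 a b c h, tau_right h]; simp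
  have hDv : ∀ a b c, a + b + c ≠ A + B + C → D a b c = 0 := by
    intro a b c h
    simp only [hD]
    rw [hv a b c h, tau_level h]; simp
  have hDw : ∀ a ≤ A + B, ∀ b ≤ A + C, ∀ c ≤ B + C,
      D a b c = (-1) ^ (a + b + c) * D (A + B - a) (A + C - b) (B + C - c) := by
    intro a ha b hb c hc
    have h1 := hw a ha b hb c hc
    have h2 : (tau A B C a b c : k) = (-1) ^ (a + b + c) * (tau A B C (A + B - a) (A + C - b) (B + C - c) : k) := by
      have := congrArg (Int.cast : ℤ → k) (hchk a ha b hb c hc).2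
      exact_mod_cast this
    simp only [hD]
    linear_combination h1 - κ * h2
  -- the row `b = A + C`
  have hrow : ∀ a, a ≤ B → D a (A + C) (B - a) = 0 := by
    intro a
    induction a with
    | zero =>
      intro _
      simp only [hD]
      rw [Nat.sub_zero, hu, hκ]
      push_cast
      have : ((-1 : k) ^ (A + B)) * ((-1) ^ (A + B)) = 1 := by
        rw [← mul_pow]; simp
      linear_combination (-F 0 (A + C) B) * this
    | succ a ih =>
      intro ha
      have h1 := ih (by omega)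
      have h2 := hDe a (A + C) (B - (a + 1))
      have h3 : B - (a + 1) + 1 = B - a := by omega
      rw [h3, h1, hDz2 a (A + C + 1) _ (by omega), mul_zero, mul_zero, add_zero, add_zero] at h2
      rcases mul_eq_zero.1 h2 with h4 | h4
      · exfalso
        refine hp (a + 1) (by omega) (Or.inl (by omega)) ?_
        push_cast
        exact h4
      · exact h4
  have hrow' : ∀ a c, D a (A + C) c = 0 := by
    intro a c
    by_cases h : a + c = B
    · have := hrow a (by omega)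
      rwa [show B - a = c by omega] at this
    · exact hDv a (A + C) c (by omega)
  -- the row `b = 0`
  have hrow0 : ∀ a c, D a 0 c = 0 := by
    intro a c
    by_cases ha : A + B < a
    · exact hDz1 a 0 c ha
    · by_cases hc : B + C < c
      · exact hDz3 a 0 c hc
      · rw [hDw a (by omega) 0 (by omega) c (by omega), Nat.sub_zero, hrow', mul_zero]
  have hall : ∀ b a c, D a b c = 0 := by
    intro b
    induction b with
    | zero => exact hrow0
    | succ b ih =>
      intro a c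
      by_cases hb : A + C < b + 1
      · exact hDz2 a (b + 1) c hb
      · have h2 := hDe a b c
        rw [ih, ih, mul_zero, mul_zero, zero_add, add_zero] at h2
        rcases mul_eq_zero.1 h2 with h4 | h4
        · exfalso
          refine hp (b + 1) (by omega) (Or.inr (by omega)) ?_
          push_cast
          exact h4
        · exact h4
  exact fun a b c => hall b a c

end Cfsg.Agent.R2.H1.F4
end

-- part: R2/H1/F4/Alg4
section
/-!
# S5931: type alpha, the identities (helper1)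

The trace-zero part is an orthogonal sum of strings of lengths 8, 6, 4, 4 with invariant trilinear form; `e4int` : the quartic
identity on the basis vectors with integral coefficients.
-/

set_option autoImplicit false

namespace Cfsg.Agent.R2.H1.F4

open Cfsg Cfsg.Lie Module Cfsg.Agent.H952.F4 Cfsg.Agent.H952.F4.Jord
open Cfsg.Agent.ChevalleyStructure.E6Min.Tables Cfsg.Agent.ChevalleyStructure.E6Min.Basic

universe u

/-- the lengths -/
def sz : Fin 4 → ℕ := ![8, 6, 4, 4]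

/-- the value of the table on sorted arguments -/
def t3 (x y z : Fin 4 × ℕ) : ℤ :=
  tau ((sz x.1 + sz y.1 - sz z.1) / 2) ((sz x.1 + sz z.1 - sz y.1) / 2) ((sz y.1 + sz z.1 - sz x.1) / 2) x.2 y.2 z.2

/-- the value of the table on arbitrary arguments -/
def tS (x y z : Fin 4 × ℕ) : ℤ :=
  if x.1 ≤ y.1 then (if y.1 ≤ z.1 then t3 x y z else if x.1 ≤ z.1 then t3 x z y else t3 z x y)
  else (if x.1 ≤ z.1 then t3 y x z else if y.1 ≤ z.1 then t3 y z x else t3 z y x)

/-- the form on the basis -/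
def tI (x y : Fin 4 × ℕ) : ℤ := if x.1 = y.1 ∧ x.2 + y.2 = sz x.1 then (-1) ^ x.2 * ((sz x.1).choose x.2 : ℤ) else 0

/-- the coefficients of the quartic identity -/
def co (x1 x2 x3 x4 : Fin 4 × ℕ) (X : Fin 4) : ℤ :=
  ∑ c ∈ Finset.range (sz X + 1), (-1) ^ c * (840 / ((sz X).choose c : ℤ)) * tS x1 x2 (X, c) * tS x3 x4 (X, sz X - c)

variable {k : Type u} [Field k]

/-- the parameter on arbitrary arguments -/
def kS (κ : Fin 4 → Fin 4 → Fin 4 → k) (X Y Z : Fin 4) : k :=
  if X ≤ Y then (if Y ≤ Z then κ X Y Z else if X ≤ Z then κ X Z Y else κ Z X Y)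
  else (if X ≤ Z then κ Y X Z else if Y ≤ Z then κ Y Z X else κ Z Y X)

/-- the situation: four orthogonal strings -/
structure Alpha (e : Fin 4 → ℕ → (I27 → k)) (κ : Fin 4 → Fin 4 → Fin 4 → k) : Prop where
  tr : ∀ X a, tr1 (e X a) = 0
  form : ∀ x y : Fin 4 × ℕ, x.2 ≤ sz x.1 → y.2 ≤ sz y.1 → tf (e x.1 x.2) (e y.1 y.2) = (tI x y : k)
  span : ∀ v : I27 → k, tr1 v = 0 → v ∈ Submodule.span k {w | ∃ X a, a ≤ sz X ∧ w = e X a}
  tab : ∀ x y z : Fin 4 × ℕ, x.1 ≤ y.1 → y.1 ≤ z.1 → x.2 ≤ sz x.1 → y.2 ≤ sz y.1 → z.2 ≤ sz z.1 →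
    tf (st (e x.1 x.2) (e y.1 y.2)) (e z.1 z.2) = κ x.1 y.1 z.1 * (t3 x y z : k)

namespace Alpha

variable {e : Fin 4 → ℕ → (I27 → k)} {κ : Fin 4 → Fin 4 → Fin 4 → k}

theorem val (H : Alpha e κ) {x y z : Fin 4 × ℕ} (hx : x.2 ≤ sz x.1) (hy : y.2 ≤ sz y.1) (hz : z.2 ≤ sz z.1) :
    tf (st (e x.1 x.2) (e y.1 y.2)) (e z.1 z.2) = kS κ x.1 y.1 z.1 * (tS x y z : k) := by
  have s1 : ∀ x y z : Fin 4 × ℕ, tf (st (e x.1 x.2) (e y.1 y.2)) (e z.1 z.2) =
      tf (st (e y.1 y.2) (e x.1 x.2)) (e z.1 z.2) := fun x y z => by rw [st_comm]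
  have s2 : ∀ x y z : Fin 4 × ℕ, tf (st (e x.1 x.2) (e y.1 y.2)) (e z.1 z.2) =
      tf (st (e x.1 x.2) (e z.1 z.2)) (e y.1 y.2) := fun x y z => by
    rw [st_comm (e x.1 x.2) (e y.1 y.2), tf_st_rot (H.tr _ _) (H.tr _ _), tf_comm]
  unfold kS tS
  by_cases h1 : x.1 ≤ y.1
  · by_cases h2 : y.1 ≤ z.1
    · rw [if_pos h1, if_pos h2, if_pos h1, if_pos h2]
      exact H.tab x y z h1 h2 hx hy hz
    · by_cases h3 : x.1 ≤ z.1
      · rw [if_pos h1, if_neg h2, if_pos h3, if_pos h1, if_neg h2, if_pos h3, s2]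
        exact H.tab x z y h3 (le_of_not_ge h2) hx hz hy
      · rw [if_pos h1, if_neg h2, if_neg h3, if_pos h1, if_neg h2, if_neg h3, s2, s1]
        exact H.tab z x y (le_of_not_ge h3) h1 hz hx hy
  · have h1' := le_of_not_ge h1
    by_cases h3 : x.1 ≤ z.1
    · rw [if_neg h1, if_pos h3, if_neg h1, if_pos h3, s1]
      exact H.tab y x z h1' h3 hy hx hz
    · have h3' := le_of_not_ge h3
      by_cases h2 : y.1 ≤ z.1
      · rw [if_neg h1, if_neg h3, if_pos h2, if_neg h1, if_neg h3, if_pos h2, s1, s2]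
        exact H.tab y z x h2 h3' hy hz hx
      · rw [if_neg h1, if_neg h3, if_neg h2, if_neg h1, if_neg h3, if_neg h2, s2, s1, s2]
        exact H.tab z y x (le_of_not_ge h2) h1' hz hy hx

theorem choose_ne (hp : ∀ n : ℕ, 0 < n → n ≤ 8 → (n : k) ≠ 0) (X : Fin 4) {c : ℕ} (hc : c ≤ sz X) :
    (((sz X).choose c : ℕ) : k) ≠ 0 := by
  have h1 : ∀ n ≤ 8, ((n.factorial : ℕ) : k) ≠ 0 := by
    intro n
    induction n with
    | zero => intro _; simp only [_root_.Nat.factorial_zero, _root_.Nat.cast_one, _root_.ne_eq, _root_.one_ne_zero, _root_.not_false_eq_true]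
    | succ n ih =>
      intro hn
      rw [Nat.factorial_succ, Nat.cast_mul]
      exact mul_ne_zero (hp _ (by omega) hn) (ih (by omega))
  have h2 : sz X ≤ 8 := by fin_cases X <;> decide
  have h3 := Nat.choose_mul_factorial_mul_factorial hc
  intro h4
  apply h1 (sz X) h2
  rw [← h3, Nat.cast_mul, Nat.cast_mul, h4, zero_mul, zero_mul]

/-- expansion of the form in the basis -/
theorem parseval (H : Alpha e κ) (hp : ∀ n : ℕ, 0 < n → n ≤ 8 → (n : k) ≠ 0) (u v : I27 → k) (hv : tr1 v = 0) :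
    tf u v = ∑ X : Fin 4, ∑ c ∈ Finset.range (sz X + 1),
      (-1) ^ c * (((sz X).choose c : ℕ) : k)⁻¹ * tf u (e X c) * tf v (e X (sz X - c)) := by
  have hmem := H.span v hv
  clear hv
  induction hmem using Submodule.span_induction with
  | mem w hw =>
    obtain ⟨Y, b, hb, rfl⟩ := hw
    rw [Finset.sum_eq_single Y]
    · rw [Finset.sum_eq_single b]
      · rw [H.form (Y, b) (Y, sz Y - b) hb (Nat.sub_le _ _)]
        have e1 : tI (Y, b) (Y, sz Y - b) = (-1) ^ b * ((sz Y).choose b : ℤ) := by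
          unfold tI; rw [if_pos ⟨rfl, Nat.add_sub_of_le hb⟩]
        rw [e1]
        have hne := choose_ne hp Y hb
        push_cast
        have e2 : ((-1 : k) ^ b) * ((-1) ^ b) = 1 := by rw [← mul_pow]; simp
        field_simp
        linear_combination (-tf u (e Y b)) * e2
      · intro c hc hcb
        rw [Finset.mem_range] at hc
        rw [H.form (Y, b) (Y, sz Y - c) hb (Nat.sub_le _ _)]
        have e1 : tI (Y, b) (Y, sz Y - c) = 0 := by
          unfold tI; rw [if_neg]; rintro ⟨-, h⟩; simp only at h; omega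
        rw [e1]; simp only [_root_.Int.cast_zero, _root_.MulZeroClass.mul_zero]
      · intro h
        exact absurd (Finset.mem_range.2 (by omega)) h
    · intro X _ hX
      refine Finset.sum_eq_zero fun c hc => ?_
      rw [H.form (Y, b) (X, sz X - c) hb (Nat.sub_le _ _)]
      have e1 : tI (Y, b) (X, sz X - c) = 0 := by
        unfold tI; rw [if_neg]; rintro ⟨h, -⟩; exact hX h.symm
      rw [e1]; simp only [_root_.Int.cast_zero, _root_.MulZeroClass.mul_zero]
    · intro h; exact absurd (Finset.mem_univ Y) h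
  | zero =>
    have e1 : ∀ w : I27 → k, tf (0 : I27 → k) w = 0 := fun w => by
      have := tf_smul_left (0 : k) (0 : I27 → k) w
      rwa [zero_smul, zero_mul] at this
    rw [tf_comm, e1]
    symm
    refine Finset.sum_eq_zero fun X _ => Finset.sum_eq_zero fun c _ => ?_
    rw [e1, mul_zero]
  | add w w' _ _ ih ih' =>
    rw [tf_add_right, ih, ih', ← Finset.sum_add_distrib]
    refine Finset.sum_congr rfl fun X _ => ?_
    rw [← Finset.sum_add_distrib]
    refine Finset.sum_congr rfl fun c _ => ?_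
    rw [tf_add_left]
    ring
  | smul a w _ ih =>
    rw [tf_smul_right, ih, Finset.mul_sum]
    refine Finset.sum_congr rfl fun X _ => ?_
    rw [Finset.mul_sum]
    refine Finset.sum_congr rfl fun c _ => ?_
    rw [tf_smul_left]
    ring

/-- all the multiples of the binomial coefficients -/
theorem div840 (X : Fin 4) {c : ℕ} (hc : c ≤ sz X) : ((sz X).choose c : ℤ) * (840 / ((sz X).choose c : ℤ)) = 840 := by
  fin_cases X <;> simp only [sz, Fin.zero_eta, Fin.mk_one, Fin.reduceFinMk, Matrix.cons_val_zero, Matrix.cons_val_one,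
    Matrix.cons_val] at hc ⊢ <;> interval_cases c <;> decide

/-- the form on products -/
theorem pair (H : Alpha e κ) (h3 : (3 : k) ≠ 0) (hp : ∀ n : ℕ, 0 < n → n ≤ 8 → (n : k) ≠ 0) {x y z w : Fin 4 × ℕ}
    (hx : x.2 ≤ sz x.1) (hy : y.2 ≤ sz y.1) (hz : z.2 ≤ sz z.1) (hw : w.2 ≤ sz w.1) :
    840 * tf (st (e x.1 x.2) (e y.1 y.2)) (st (e z.1 z.2) (e w.1 w.2)) =
      ∑ X : Fin 4, kS κ x.1 y.1 X * kS κ z.1 w.1 X * (co x y z w X : k) := by
  rw [H.parseval hp _ _ (tr1_st h3 (H.tr _ _)), Finset.mul_sum]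
  refine Finset.sum_congr rfl fun X _ => ?_
  unfold co
  rw [Finset.mul_sum, Int.cast_sum, Finset.mul_sum]
  refine Finset.sum_congr rfl fun c hc => ?_
  have hc' : c ≤ sz X := by
    have := Finset.mem_range.1 hc
    omega
  have e1 := H.val (z := (X, c)) hx hy hc'
  have e2 := H.val (z := (X, sz X - c)) hz hw (Nat.sub_le _ _)
  simp only at e1 e2
  rw [e1, e2]
  have hne := choose_ne hp X hc'
  have e3 : (((sz X).choose c : ℕ) : k) * (((840 / ((sz X).choose c : ℤ) : ℤ)) : k) = 840 := by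
    have := congrArg (Int.cast : ℤ → k) (div840 X hc')
    push_cast at this
    exact_mod_cast this
  push_cast
  rw [← e3]
  field_simp

/-- **the quartic identity on the basis, integral coefficients** -/
theorem e4int (H : Alpha e κ) (h2 : (2 : k) ≠ 0) (h3 : (3 : k) ≠ 0) (hp : ∀ n : ℕ, 0 < n → n ≤ 8 → (n : k) ≠ 0)
    {x y z w : Fin 4 × ℕ} (hx : x.2 ≤ sz x.1) (hy : y.2 ≤ sz y.1) (hz : z.2 ≤ sz z.1) (hw : w.2 ≤ sz w.1) :
    (∑ X : Fin 4, kS κ x.1 y.1 X * kS κ z.1 w.1 X * (co x y z w X : k)) +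
    (∑ X : Fin 4, kS κ x.1 z.1 X * kS κ y.1 w.1 X * (co x z y w X : k)) +
    (∑ X : Fin 4, kS κ x.1 w.1 X * kS κ y.1 z.1 X * (co x w y z X : k)) =
      560 * ((tI x y * tI z w + tI x z * tI y w + tI x w * tI y z : ℤ) : k) := by
  rw [← H.pair h3 hp hx hy hz hw, ← H.pair h3 hp hx hz hy hw, ← H.pair h3 hp hx hw hy hz]
  have h := four h2 h3 (H.tr x.1 x.2) (H.tr y.1 y.2) (H.tr z.1 z.2) (H.tr w.1 w.2)
  rw [H.form x y hx hy, H.form z w hz hw, H.form x z hx hz, H.form y w hy hw, H.form x w hx hw, H.form y z hy hz] at h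
  push_cast
  have h4 : (2 / 3 : k) * 3 = 2 := by field_simp
  linear_combination 840 * h + 280 * ((tI x y : k) * tI z w + tI x z * tI y w + tI x w * tI y z) * h4

end Alpha

end Cfsg.Agent.R2.H1.F4
end

private theorem dce_a1db96eb8ab9 : _root_.True := by
  try have : _root_.True := by simp only [_root_.Cfsg.Agent.R2.H1.F4.sz.eq_1]
  exact _root_.True.intro
end

-- part: R2/H1/F4/Qs
section
set_option linter.all false
open scoped Cfsg.Agent.FastGrp

/-!
# S5931: type alpha, the equations (helper1; generated)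
-/

set_option autoImplicit false
set_option linter.unusedSimpArgs false
set_option linter.unusedVariables false

namespace Cfsg.Agent.R2.H1.F4.Alpha

open Cfsg Cfsg.Lie Module Cfsg.Agent.H952.F4 Cfsg.Agent.H952.F4.Jord
open Cfsg.Agent.ChevalleyStructure.E6Min.Tables Cfsg.Agent.ChevalleyStructure.E6Min.Basic

universe u

variable {k : Type u} [Field k]

/-- the antisymmetric types vanish -/
def Dead (κ : Fin 4 → Fin 4 → Fin 4 → k) : Prop := κ 0 0 1 = 0 ∧ κ 1 1 1 = 0 ∧ κ 1 2 2 = 0 ∧ κ 1 3 3 = 0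

theorem nz_of (l : List ℕ) (hp : ∀ n : ℕ, 0 < n → n ≤ 8 → (n : k) ≠ 0) (hl : ∀ n ∈ l, 0 < n ∧ n ≤ 8) :
    ((l.prod : ℕ) : k) ≠ 0 := by
  induction l with
  | nil => simp
  | cons a l ih =>
    rw [List.prod_cons, Nat.cast_mul]
    exact mul_ne_zero (hp a (hl a (by simp)).1 (hl a (by simp)).2) (ih fun n hn => hl n (by simp [hn]))

theorem dead {e : Fin 4 → ℕ → (I27 → k)} {κ : Fin 4 → Fin 4 → Fin 4 → k} (H : Alpha e κ) (h2 : (2 : k) ≠ 0) : Dead κ := by
  have key : ∀ (X Y Z : Fin 4) (a b c : ℕ), X ≤ Y → Y ≤ Z → a ≤ sz X → b ≤ sz Y → c ≤ sz Z → X = Y → b ≤ sz X → a ≤ sz Y →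
      t3 (X, b) (Y, a) (Z, c) = - t3 (X, a) (Y, b) (Z, c) → t3 (X, a) (Y, b) (Z, c) = 1 ∨ t3 (X, a) (Y, b) (Z, c) = -1 →
      κ X Y Z = 0 := by
    rintro X Y Z a b c hXY hYZ ha hb hc rfl hb' ha' ht h1
    have e1 := H.tab (X, a) (X, b) (Z, c) hXY hYZ ha hb hc
    have e2 := H.tab (X, b) (X, a) (Z, c) hXY hYZ hb ha hc
    simp only at e1 e2
    rw [st_comm, e1, ht] at e2
    push_cast at e2
    have h3 : 2 * (κ X X Z * (t3 (X, a) (X, b) (Z, c) : k)) = 0 := by linear_combination e2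
    have h4 := (mul_eq_zero.1 h3).resolve_left h2
    rcases h1 with h1 | h1 <;> rw [h1] at h4 <;> simpa using h4
  have key' : ∀ (X Y Z : Fin 4) (a b c : ℕ), X ≤ Y → Y ≤ Z → a ≤ sz X → b ≤ sz Y → c ≤ sz Z → Y = Z → b ≤ sz Z → c ≤ sz Y →
      t3 (X, a) (Y, c) (Z, b) = - t3 (X, a) (Y, b) (Z, c) → t3 (X, a) (Y, b) (Z, c) = 1 ∨ t3 (X, a) (Y, b) (Z, c) = -1 →
      κ X Y Z = 0 := by
    rintro X Y Z a b c hXY hYZ ha hb hc rfl hb' hc' ht h1
    have e1 := H.tab (X, a) (Y, b) (Y, c) hXY hYZ ha hb hc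
    have e2 := H.tab (X, a) (Y, c) (Y, b) hXY hYZ ha hc hb
    simp only at e1 e2
    have e3 : tf (st (e X a) (e Y b)) (e Y c) = tf (st (e X a) (e Y c)) (e Y b) := by
      rw [st_comm (e X a) (e Y b), tf_st_rot (H.tr _ _) (H.tr _ _), tf_comm]
    rw [← e3, e1, ht] at e2
    push_cast at e2
    have h3 : 2 * (κ X Y Y * (t3 (X, a) (Y, b) (Y, c) : k)) = 0 := by linear_combination e2
    have h4 := (mul_eq_zero.1 h3).resolve_left h2
    rcases h1 with h1 | h1 <;> rw [h1] at h4 <;> simpa using h4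
  exact ⟨key 0 0 1 0 5 6 (by decide) (by decide) (by decide) (by decide) (by decide) rfl (by decide) (by decide)
      (by decide +kernel) (by decide +kernel),
    key 1 1 1 0 3 6 (by decide) (by decide) (by decide) (by decide) (by decide) rfl (by decide) (by decide)
      (by decide +kernel) (by decide +kernel),
    key' 1 2 2 0 3 4 (by decide) (by decide) (by decide) (by decide) (by decide) rfl (by decide) (by decide)
      (by decide +kernel) (by decide +kernel),
    key' 1 3 3 0 3 4 (by decide) (by decide) (by decide) (by decide) (by decide) rfl (by decide) (by decide)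
      (by decide +kernel) (by decide +kernel)⟩

variable {e : Fin 4 → ℕ → (I27 → k)} {κ : Fin 4 → Fin 4 → Fin 4 → k}

/-- `b6 b6 a-8 b-4` -/
theorem q1 (H : Alpha e κ) (D : Dead κ) (h2 : (2 : k) ≠ 0) (h3 : (3 : k) ≠ 0) (hp : ∀ n : ℕ, 0 < n → n ≤ 8 → (n : k) ≠ 0) :
    (1) * (κ 0 1 2 * κ 1 1 2) + (1) * (κ 0 1 3 * κ 1 1 3) = (0 : k) := by
  have h := H.e4int h2 h3 hp (x := (1, 6)) (y := (1, 6)) (z := (0, 0)) (w := (1, 1)) (by decide) (by decide) (by decide)
    (by decide)
  simp only [Fin.sum_univ_four] at h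
  simp only [show co (1, 6) (1, 6) (0, 0) (1, 1) 0 = 0 by decide +kernel,
    show co (1, 6) (1, 6) (0, 0) (1, 1) 1 = 0 by decide +kernel,
    show co (1, 6) (1, 6) (0, 0) (1, 1) 2 = 0 by decide +kernel,
    show co (1, 6) (1, 6) (0, 0) (1, 1) 3 = 0 by decide +kernel,
    show co (1, 6) (0, 0) (1, 6) (1, 1) 0 = -60 by decide +kernel,
    show co (1, 6) (0, 0) (1, 6) (1, 1) 1 = 168 by decide +kernel,
    show co (1, 6) (0, 0) (1, 6) (1, 1) 2 = 420 by decide +kernel,
    show co (1, 6) (0, 0) (1, 6) (1, 1) 3 = 420 by decide +kernel,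
    show co (1, 6) (1, 1) (1, 6) (0, 0) 0 = -60 by decide +kernel,
    show co (1, 6) (1, 1) (1, 6) (0, 0) 1 = 168 by decide +kernel,
    show co (1, 6) (1, 1) (1, 6) (0, 0) 2 = 420 by decide +kernel,
    show co (1, 6) (1, 1) (1, 6) (0, 0) 3 = 420 by decide +kernel] at h
  rw [show tI (1, 6) (1, 6) * tI (0, 0) (1, 1) + tI (1, 6) (0, 0) * tI (1, 6) (1, 1) + tI (1, 6) (1, 1) * tI (1, 6) (0, 0) = 0 by decide +kernel] at h
  simp only [show kS κ 0 1 0 = κ 0 0 1 from rfl, show kS κ 0 1 1 = κ 0 1 1 from rfl, show kS κ 0 1 2 = κ 0 1 2 from rfl, show kS κ 0 1 3 = κ 0 1 3 from rfl, show kS κ 1 0 0 = κ 0 0 1 from rfl, show kS κ 1 0 1 = κ 0 1 1 from rfl, show kS κ 1 0 2 = κ 0 1 2 from rfl, show kS κ 1 0 3 = κ 0 1 3 from rfl, show kS κ 1 1 0 = κ 0 1 1 from rfl, show kS κ 1 1 1 = κ 1 1 1 from rfl, show kS κ 1 1 2 = κ 1 1 2 from rfl, show kS κ 1 1 3 = κ 1 1 3 from rfl,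
    D.1, D.2.1, D.2.2.1, D.2.2.2] at h
  push_cast at h
  have hg : (840 : k) ≠ 0 := by
    have := nz_of [2, 2, 2, 3, 5, 7] hp (by decide) 
    simpa using this
  apply mul_left_cancel₀ hg
  linear_combination h

/-- `b6 b6 a-8 a-4` -/
theorem q2 (H : Alpha e κ) (D : Dead κ) (h2 : (2 : k) ≠ 0) (h3 : (3 : k) ≠ 0) (hp : ∀ n : ℕ, 0 < n → n ≤ 8 → (n : k) ≠ 0) :
    (8) * (κ 0 1 1 * κ 0 1 1) + (-15) * (κ 0 1 2 * κ 0 1 2) + (-15) * (κ 0 1 3 * κ 0 1 3) = (0 : k) := by
  have h := H.e4int h2 h3 hp (x := (1, 6)) (y := (1, 6)) (z := (0, 0)) (w := (0, 2)) (by decide) (by decide) (by decide)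
    (by decide)
  simp only [Fin.sum_univ_four] at h
  simp only [show co (1, 6) (1, 6) (0, 0) (0, 2) 0 = 0 by decide +kernel,
    show co (1, 6) (1, 6) (0, 0) (0, 2) 1 = 0 by decide +kernel,
    show co (1, 6) (1, 6) (0, 0) (0, 2) 2 = 0 by decide +kernel,
    show co (1, 6) (1, 6) (0, 0) (0, 2) 3 = 0 by decide +kernel,
    show co (1, 6) (0, 0) (1, 6) (0, 2) 0 = -150 by decide +kernel,
    show co (1, 6) (0, 0) (1, 6) (0, 2) 1 = 336 by decide +kernel,
    show co (1, 6) (0, 0) (1, 6) (0, 2) 2 = -630 by decide +kernel,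
    show co (1, 6) (0, 0) (1, 6) (0, 2) 3 = -630 by decide +kernel,
    show co (1, 6) (0, 2) (1, 6) (0, 0) 0 = -150 by decide +kernel,
    show co (1, 6) (0, 2) (1, 6) (0, 0) 1 = 336 by decide +kernel,
    show co (1, 6) (0, 2) (1, 6) (0, 0) 2 = -630 by decide +kernel,
    show co (1, 6) (0, 2) (1, 6) (0, 0) 3 = -630 by decide +kernel] at h
  rw [show tI (1, 6) (1, 6) * tI (0, 0) (0, 2) + tI (1, 6) (0, 0) * tI (1, 6) (0, 2) + tI (1, 6) (0, 2) * tI (1, 6) (0, 0) = 0 by decide +kernel] at h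
  simp only [show kS κ 0 0 0 = κ 0 0 0 from rfl, show kS κ 0 0 1 = κ 0 0 1 from rfl, show kS κ 0 0 2 = κ 0 0 2 from rfl, show kS κ 0 0 3 = κ 0 0 3 from rfl, show kS κ 1 0 0 = κ 0 0 1 from rfl, show kS κ 1 0 1 = κ 0 1 1 from rfl, show kS κ 1 0 2 = κ 0 1 2 from rfl, show kS κ 1 0 3 = κ 0 1 3 from rfl, show kS κ 1 1 0 = κ 0 1 1 from rfl, show kS κ 1 1 1 = κ 1 1 1 from rfl, show kS κ 1 1 2 = κ 1 1 2 from rfl, show kS κ 1 1 3 = κ 1 1 3 from rfl,
    D.1, D.2.1, D.2.2.1, D.2.2.2] at h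
  push_cast at h
  have hg : (84 : k) ≠ 0 := by
    have := nz_of [2, 2, 3, 7] hp (by decide) 
    simpa using this
  apply mul_left_cancel₀ hg
  linear_combination h

/-- `a8 a8 a-8 a-8` -/
theorem q3 (H : Alpha e κ) (D : Dead κ) (h2 : (2 : k) ≠ 0) (h3 : (3 : k) ≠ 0) (hp : ∀ n : ℕ, 0 < n → n ≤ 8 → (n : k) ≠ 0) :
    (3) * (κ 0 0 0 * κ 0 0 0) + (35) * (κ 0 0 2 * κ 0 0 2) + (35) * (κ 0 0 3 * κ 0 0 3) = (140 : k) := by
  have h := H.e4int h2 h3 hp (x := (0, 8)) (y := (0, 8)) (z := (0, 0)) (w := (0, 0)) (by decide) (by decide) (by decide)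
    (by decide)
  simp only [Fin.sum_univ_four] at h
  simp only [show co (0, 8) (0, 8) (0, 0) (0, 0) 0 = 0 by decide +kernel,
    show co (0, 8) (0, 8) (0, 0) (0, 0) 1 = 0 by decide +kernel,
    show co (0, 8) (0, 8) (0, 0) (0, 0) 2 = 0 by decide +kernel,
    show co (0, 8) (0, 8) (0, 0) (0, 0) 3 = 0 by decide +kernel,
    show co (0, 8) (0, 0) (0, 8) (0, 0) 0 = 12 by decide +kernel,
    show co (0, 8) (0, 0) (0, 8) (0, 0) 1 = -42 by decide +kernel,
    show co (0, 8) (0, 0) (0, 8) (0, 0) 2 = 140 by decide +kernel,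
    show co (0, 8) (0, 0) (0, 8) (0, 0) 3 = 140 by decide +kernel] at h
  rw [show tI (0, 8) (0, 8) * tI (0, 0) (0, 0) + tI (0, 8) (0, 0) * tI (0, 8) (0, 0) + tI (0, 8) (0, 0) * tI (0, 8) (0, 0) = 2 by decide +kernel] at h
  simp only [show kS κ 0 0 0 = κ 0 0 0 from rfl, show kS κ 0 0 1 = κ 0 0 1 from rfl, show kS κ 0 0 2 = κ 0 0 2 from rfl, show kS κ 0 0 3 = κ 0 0 3 from rfl,
    D.1, D.2.1, D.2.2.1, D.2.2.2] at h
  push_cast at h
  have hg : (8 : k) ≠ 0 := by
    have := nz_of [2, 2, 2] hp (by decide) 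
    simpa using this
  apply mul_left_cancel₀ hg
  linear_combination h

/-- `b6 b6 b-6 b-6` -/
theorem q4 (H : Alpha e κ) (D : Dead κ) (h2 : (2 : k) ≠ 0) (h3 : (3 : k) ≠ 0) (hp : ∀ n : ℕ, 0 < n → n ≤ 8 → (n : k) ≠ 0) :
    (3) * (κ 0 1 1 * κ 0 1 1) + (35) * (κ 1 1 2 * κ 1 1 2) + (35) * (κ 1 1 3 * κ 1 1 3) = (140 : k) := by
  have h := H.e4int h2 h3 hp (x := (1, 6)) (y := (1, 6)) (z := (1, 0)) (w := (1, 0)) (by decide) (by decide) (by decide)
    (by decide)
  simp only [Fin.sum_univ_four] at h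
  simp only [show co (1, 6) (1, 6) (1, 0) (1, 0) 0 = 0 by decide +kernel,
    show co (1, 6) (1, 6) (1, 0) (1, 0) 1 = 0 by decide +kernel,
    show co (1, 6) (1, 6) (1, 0) (1, 0) 2 = 0 by decide +kernel,
    show co (1, 6) (1, 6) (1, 0) (1, 0) 3 = 0 by decide +kernel,
    show co (1, 6) (1, 0) (1, 6) (1, 0) 0 = 12 by decide +kernel,
    show co (1, 6) (1, 0) (1, 6) (1, 0) 1 = -42 by decide +kernel,
    show co (1, 6) (1, 0) (1, 6) (1, 0) 2 = 140 by decide +kernel,
    show co (1, 6) (1, 0) (1, 6) (1, 0) 3 = 140 by decide +kernel] at h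
  rw [show tI (1, 6) (1, 6) * tI (1, 0) (1, 0) + tI (1, 6) (1, 0) * tI (1, 6) (1, 0) + tI (1, 6) (1, 0) * tI (1, 6) (1, 0) = 2 by decide +kernel] at h
  simp only [show kS κ 1 1 0 = κ 0 1 1 from rfl, show kS κ 1 1 1 = κ 1 1 1 from rfl, show kS κ 1 1 2 = κ 1 1 2 from rfl, show kS κ 1 1 3 = κ 1 1 3 from rfl,
    D.1, D.2.1, D.2.2.1, D.2.2.2] at h
  push_cast at h
  have hg : (8 : k) ≠ 0 := by
    have := nz_of [2, 2, 2] hp (by decide) 
    simpa using this
  apply mul_left_cancel₀ hg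
  linear_combination h

/-- `a8 m4 b-6 b-6` -/
theorem q5 (H : Alpha e κ) (D : Dead κ) (h2 : (2 : k) ≠ 0) (h3 : (3 : k) ≠ 0) (hp : ∀ n : ℕ, 0 < n → n ≤ 8 → (n : k) ≠ 0) :
    (4) * (κ 0 1 1 * κ 1 1 2) + (15) * (κ 0 1 3 * κ 1 2 3) = (0 : k) := by
  have h := H.e4int h2 h3 hp (x := (0, 8)) (y := (2, 4)) (z := (1, 0)) (w := (1, 0)) (by decide) (by decide) (by decide)
    (by decide)
  simp only [Fin.sum_univ_four] at h
  simp only [show co (0, 8) (2, 4) (1, 0) (1, 0) 0 = 0 by decide +kernel,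
    show co (0, 8) (2, 4) (1, 0) (1, 0) 1 = 0 by decide +kernel,
    show co (0, 8) (2, 4) (1, 0) (1, 0) 2 = 0 by decide +kernel,
    show co (0, 8) (2, 4) (1, 0) (1, 0) 3 = 0 by decide +kernel,
    show co (0, 8) (1, 0) (2, 4) (1, 0) 0 = -15 by decide +kernel,
    show co (0, 8) (1, 0) (2, 4) (1, 0) 1 = 56 by decide +kernel,
    show co (0, 8) (1, 0) (2, 4) (1, 0) 2 = 210 by decide +kernel,
    show co (0, 8) (1, 0) (2, 4) (1, 0) 3 = 210 by decide +kernel] at h
  rw [show tI (0, 8) (2, 4) * tI (1, 0) (1, 0) + tI (0, 8) (1, 0) * tI (2, 4) (1, 0) + tI (0, 8) (1, 0) * tI (2, 4) (1, 0) = 0 by decide +kernel] at h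
  simp only [show kS κ 0 1 0 = κ 0 0 1 from rfl, show kS κ 0 1 1 = κ 0 1 1 from rfl, show kS κ 0 1 2 = κ 0 1 2 from rfl, show kS κ 0 1 3 = κ 0 1 3 from rfl, show kS κ 0 2 0 = κ 0 0 2 from rfl, show kS κ 0 2 1 = κ 0 1 2 from rfl, show kS κ 0 2 2 = κ 0 2 2 from rfl, show kS κ 0 2 3 = κ 0 2 3 from rfl, show kS κ 1 1 0 = κ 0 1 1 from rfl, show kS κ 1 1 1 = κ 1 1 1 from rfl, show kS κ 1 1 2 = κ 1 1 2 from rfl, show kS κ 1 1 3 = κ 1 1 3 from rfl, show kS κ 2 1 0 = κ 0 1 2 from rfl, show kS κ 2 1 1 = κ 1 1 2 from rfl, show kS κ 2 1 2 = κ 1 2 2 from rfl, show kS κ 2 1 3 = κ 1 2 3 from rfl,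
    D.1, D.2.1, D.2.2.1, D.2.2.2] at h
  push_cast at h
  have hg : (28 : k) ≠ 0 := by
    have := nz_of [2, 2, 7] hp (by decide) 
    simpa using this
  apply mul_left_cancel₀ hg
  linear_combination h

/-- `m4 m4 b-6 m-2` -/
theorem q6 (H : Alpha e κ) (D : Dead κ) (h2 : (2 : k) ≠ 0) (h3 : (3 : k) ≠ 0) (hp : ∀ n : ℕ, 0 < n → n ≤ 8 → (n : k) ≠ 0) :
    (-6) * (κ 0 1 2 * κ 0 2 2) + (7) * (κ 1 2 3 * κ 2 2 3) = (0 : k) := by
  have h := H.e4int h2 h3 hp (x := (2, 4)) (y := (2, 4)) (z := (1, 0)) (w := (2, 1)) (by decide) (by decide) (by decide)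
    (by decide)
  simp only [Fin.sum_univ_four] at h
  simp only [show co (2, 4) (2, 4) (1, 0) (2, 1) 0 = -840 by decide +kernel,
    show co (2, 4) (2, 4) (1, 0) (2, 1) 1 = 0 by decide +kernel,
    show co (2, 4) (2, 4) (1, 0) (2, 1) 2 = 0 by decide +kernel,
    show co (2, 4) (2, 4) (1, 0) (2, 1) 3 = 0 by decide +kernel,
    show co (2, 4) (1, 0) (2, 4) (2, 1) 0 = 60 by decide +kernel,
    show co (2, 4) (1, 0) (2, 4) (2, 1) 1 = 168 by decide +kernel,
    show co (2, 4) (1, 0) (2, 4) (2, 1) 2 = 420 by decide +kernel,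
    show co (2, 4) (1, 0) (2, 4) (2, 1) 3 = 420 by decide +kernel,
    show co (2, 4) (2, 1) (2, 4) (1, 0) 0 = 60 by decide +kernel,
    show co (2, 4) (2, 1) (2, 4) (1, 0) 1 = 168 by decide +kernel,
    show co (2, 4) (2, 1) (2, 4) (1, 0) 2 = 420 by decide +kernel,
    show co (2, 4) (2, 1) (2, 4) (1, 0) 3 = 420 by decide +kernel] at h
  rw [show tI (2, 4) (2, 4) * tI (1, 0) (2, 1) + tI (2, 4) (1, 0) * tI (2, 4) (2, 1) + tI (2, 4) (2, 1) * tI (2, 4) (1, 0) = 0 by decide +kernel] at h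
  simp only [show kS κ 1 2 0 = κ 0 1 2 from rfl, show kS κ 1 2 1 = κ 1 1 2 from rfl, show kS κ 1 2 2 = κ 1 2 2 from rfl, show kS κ 1 2 3 = κ 1 2 3 from rfl, show kS κ 2 1 0 = κ 0 1 2 from rfl, show kS κ 2 1 1 = κ 1 1 2 from rfl, show kS κ 2 1 2 = κ 1 2 2 from rfl, show kS κ 2 1 3 = κ 1 2 3 from rfl, show kS κ 2 2 0 = κ 0 2 2 from rfl, show kS κ 2 2 1 = κ 1 2 2 from rfl, show kS κ 2 2 2 = κ 2 2 2 from rfl, show kS κ 2 2 3 = κ 2 2 3 from rfl,
    D.1, D.2.1, D.2.2.1, D.2.2.2] at h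
  push_cast at h
  have hg : (120 : k) ≠ 0 := by
    have := nz_of [2, 2, 2, 3, 5] hp (by decide) 
    simpa using this
  apply mul_left_cancel₀ hg
  linear_combination h

/-- `m4 n4 b-6 b-2` -/
theorem q7 (H : Alpha e κ) (D : Dead κ) (h2 : (2 : k) ≠ 0) (h3 : (3 : k) ≠ 0) (hp : ∀ n : ℕ, 0 < n → n ≤ 8 → (n : k) ≠ 0) :
    (70) * (κ 0 1 1 * κ 0 2 3) + (-25) * (κ 0 1 2 * κ 0 1 3) + (56) * (κ 1 1 2 * κ 1 1 3) = (0 : k) := by
  have h := H.e4int h2 h3 hp (x := (2, 4)) (y := (3, 4)) (z := (1, 0)) (w := (1, 2)) (by decide) (by decide) (by decide)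
    (by decide)
  simp only [Fin.sum_univ_four] at h
  simp only [show co (2, 4) (3, 4) (1, 0) (1, 2) 0 = 840 by decide +kernel,
    show co (2, 4) (3, 4) (1, 0) (1, 2) 1 = 0 by decide +kernel,
    show co (2, 4) (3, 4) (1, 0) (1, 2) 2 = 0 by decide +kernel,
    show co (2, 4) (3, 4) (1, 0) (1, 2) 3 = 0 by decide +kernel,
    show co (2, 4) (1, 0) (3, 4) (1, 2) 0 = -150 by decide +kernel,
    show co (2, 4) (1, 0) (3, 4) (1, 2) 1 = 336 by decide +kernel,
    show co (2, 4) (1, 0) (3, 4) (1, 2) 2 = 630 by decide +kernel,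
    show co (2, 4) (1, 0) (3, 4) (1, 2) 3 = -630 by decide +kernel,
    show co (2, 4) (1, 2) (3, 4) (1, 0) 0 = -150 by decide +kernel,
    show co (2, 4) (1, 2) (3, 4) (1, 0) 1 = 336 by decide +kernel,
    show co (2, 4) (1, 2) (3, 4) (1, 0) 2 = 630 by decide +kernel,
    show co (2, 4) (1, 2) (3, 4) (1, 0) 3 = -630 by decide +kernel] at h
  rw [show tI (2, 4) (3, 4) * tI (1, 0) (1, 2) + tI (2, 4) (1, 0) * tI (3, 4) (1, 2) + tI (2, 4) (1, 2) * tI (3, 4) (1, 0) = 0 by decide +kernel] at h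
  simp only [show kS κ 1 1 0 = κ 0 1 1 from rfl, show kS κ 1 1 1 = κ 1 1 1 from rfl, show kS κ 1 1 2 = κ 1 1 2 from rfl, show kS κ 1 1 3 = κ 1 1 3 from rfl, show kS κ 2 1 0 = κ 0 1 2 from rfl, show kS κ 2 1 1 = κ 1 1 2 from rfl, show kS κ 2 1 2 = κ 1 2 2 from rfl, show kS κ 2 1 3 = κ 1 2 3 from rfl, show kS κ 2 3 0 = κ 0 2 3 from rfl, show kS κ 2 3 1 = κ 1 2 3 from rfl, show kS κ 2 3 2 = κ 2 2 3 from rfl, show kS κ 2 3 3 = κ 2 3 3 from rfl, show kS κ 3 1 0 = κ 0 1 3 from rfl, show kS κ 3 1 1 = κ 1 1 3 from rfl, show kS κ 3 1 2 = κ 1 2 3 from rfl, show kS κ 3 1 3 = κ 1 3 3 from rfl,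
    D.1, D.2.1, D.2.2.1, D.2.2.2] at h
  push_cast at h
  have hg : (12 : k) ≠ 0 := by
    have := nz_of [2, 2, 3] hp (by decide) 
    simpa using this
  apply mul_left_cancel₀ hg
  linear_combination h

/-- `b6 n4 a-8 b-2` -/
theorem q8 (H : Alpha e κ) (D : Dead κ) (h2 : (2 : k) ≠ 0) (h3 : (3 : k) ≠ 0) (hp : ∀ n : ℕ, 0 < n → n ≤ 8 → (n : k) ≠ 0) :
    (56) * (κ 0 1 1 * κ 1 1 3) + (105) * (κ 0 1 2 * κ 1 2 3) + (30) * (κ 0 0 3 * κ 0 1 1) + (140) * (κ 0 2 3 * κ 1 1 2) + (140) * (κ 0 3 3 * κ 1 1 3) = (0 : k) := by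
  have h := H.e4int h2 h3 hp (x := (1, 6)) (y := (3, 4)) (z := (0, 0)) (w := (1, 2)) (by decide) (by decide) (by decide)
    (by decide)
  simp only [Fin.sum_univ_four] at h
  simp only [show co (1, 6) (3, 4) (0, 0) (1, 2) 0 = 0 by decide +kernel,
    show co (1, 6) (3, 4) (0, 0) (1, 2) 1 = 0 by decide +kernel,
    show co (1, 6) (3, 4) (0, 0) (1, 2) 2 = 0 by decide +kernel,
    show co (1, 6) (3, 4) (0, 0) (1, 2) 3 = 0 by decide +kernel,
    show co (1, 6) (0, 0) (3, 4) (1, 2) 0 = 150 by decide +kernel,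
    show co (1, 6) (0, 0) (3, 4) (1, 2) 1 = 336 by decide +kernel,
    show co (1, 6) (0, 0) (3, 4) (1, 2) 2 = 630 by decide +kernel,
    show co (1, 6) (0, 0) (3, 4) (1, 2) 3 = -630 by decide +kernel,
    show co (1, 6) (1, 2) (3, 4) (0, 0) 0 = 180 by decide +kernel,
    show co (1, 6) (1, 2) (3, 4) (0, 0) 1 = -420 by decide +kernel,
    show co (1, 6) (1, 2) (3, 4) (0, 0) 2 = 840 by decide +kernel,
    show co (1, 6) (1, 2) (3, 4) (0, 0) 3 = 840 by decide +kernel] at h
  rw [show tI (1, 6) (3, 4) * tI (0, 0) (1, 2) + tI (1, 6) (0, 0) * tI (3, 4) (1, 2) + tI (1, 6) (1, 2) * tI (3, 4) (0, 0) = 0 by decide +kernel] at h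
  simp only [show kS κ 0 1 0 = κ 0 0 1 from rfl, show kS κ 0 1 1 = κ 0 1 1 from rfl, show kS κ 0 1 2 = κ 0 1 2 from rfl, show kS κ 0 1 3 = κ 0 1 3 from rfl, show kS κ 1 0 0 = κ 0 0 1 from rfl, show kS κ 1 0 1 = κ 0 1 1 from rfl, show kS κ 1 0 2 = κ 0 1 2 from rfl, show kS κ 1 0 3 = κ 0 1 3 from rfl, show kS κ 1 1 0 = κ 0 1 1 from rfl, show kS κ 1 1 1 = κ 1 1 1 from rfl, show kS κ 1 1 2 = κ 1 1 2 from rfl, show kS κ 1 1 3 = κ 1 1 3 from rfl, show kS κ 1 3 0 = κ 0 1 3 from rfl, show kS κ 1 3 1 = κ 1 1 3 from rfl, show kS κ 1 3 2 = κ 1 2 3 from rfl, show kS κ 1 3 3 = κ 1 3 3 from rfl, show kS κ 3 0 0 = κ 0 0 3 from rfl, show kS κ 3 0 1 = κ 0 1 3 from rfl, show kS κ 3 0 2 = κ 0 2 3 from rfl, show kS κ 3 0 3 = κ 0 3 3 from rfl, show kS κ 3 1 0 = κ 0 1 3 from rfl, show kS κ 3 1 1 = κ 1 1 3 from rfl, show kS κ 3 1 2 = κ 1 2 3 from rfl, show kS κ 3 1 3 = κ 1 3 3 from rfl,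
    D.1, D.2.1, D.2.2.1, D.2.2.2] at h
  push_cast at h
  have hg : (6 : k) ≠ 0 := by
    have := nz_of [2, 3] hp (by decide) 
    simpa using this
  apply mul_left_cancel₀ hg
  linear_combination h

/-- `m4 n4 b-6 n-2` -/
theorem q9 (H : Alpha e κ) (D : Dead κ) (h2 : (2 : k) ≠ 0) (h3 : (3 : k) ≠ 0) (hp : ∀ n : ℕ, 0 < n → n ≤ 8 → (n : k) ≠ 0) :
    (-65) * (κ 0 1 3 * κ 0 2 3) + (5) * (κ 0 1 2 * κ 0 3 3) + (35) * (κ 1 2 3 * κ 3 3 3) + (14) * (κ 1 1 3 * κ 1 2 3) + (-35) * (κ 1 2 3 * κ 2 2 3) = (0 : k) := by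
  have h := H.e4int h2 h3 hp (x := (2, 4)) (y := (3, 4)) (z := (1, 0)) (w := (3, 1)) (by decide) (by decide) (by decide)
    (by decide)
  simp only [Fin.sum_univ_four] at h
  simp only [show co (2, 4) (3, 4) (1, 0) (3, 1) 0 = -840 by decide +kernel,
    show co (2, 4) (3, 4) (1, 0) (3, 1) 1 = 0 by decide +kernel,
    show co (2, 4) (3, 4) (1, 0) (3, 1) 2 = 0 by decide +kernel,
    show co (2, 4) (3, 4) (1, 0) (3, 1) 3 = 0 by decide +kernel,
    show co (2, 4) (1, 0) (3, 4) (3, 1) 0 = 60 by decide +kernel,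
    show co (2, 4) (1, 0) (3, 4) (3, 1) 1 = 168 by decide +kernel,
    show co (2, 4) (1, 0) (3, 4) (3, 1) 2 = 420 by decide +kernel,
    show co (2, 4) (1, 0) (3, 4) (3, 1) 3 = 420 by decide +kernel,
    show co (2, 4) (3, 1) (3, 4) (1, 0) 0 = 60 by decide +kernel,
    show co (2, 4) (3, 1) (3, 4) (1, 0) 1 = 168 by decide +kernel,
    show co (2, 4) (3, 1) (3, 4) (1, 0) 2 = -420 by decide +kernel,
    show co (2, 4) (3, 1) (3, 4) (1, 0) 3 = 420 by decide +kernel] at h
  rw [show tI (2, 4) (3, 4) * tI (1, 0) (3, 1) + tI (2, 4) (1, 0) * tI (3, 4) (3, 1) + tI (2, 4) (3, 1) * tI (3, 4) (1, 0) = 0 by decide +kernel] at h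
  simp only [show kS κ 1 3 0 = κ 0 1 3 from rfl, show kS κ 1 3 1 = κ 1 1 3 from rfl, show kS κ 1 3 2 = κ 1 2 3 from rfl, show kS κ 1 3 3 = κ 1 3 3 from rfl, show kS κ 2 1 0 = κ 0 1 2 from rfl, show kS κ 2 1 1 = κ 1 1 2 from rfl, show kS κ 2 1 2 = κ 1 2 2 from rfl, show kS κ 2 1 3 = κ 1 2 3 from rfl, show kS κ 2 3 0 = κ 0 2 3 from rfl, show kS κ 2 3 1 = κ 1 2 3 from rfl, show kS κ 2 3 2 = κ 2 2 3 from rfl, show kS κ 2 3 3 = κ 2 3 3 from rfl, show kS κ 3 1 0 = κ 0 1 3 from rfl, show kS κ 3 1 1 = κ 1 1 3 from rfl, show kS κ 3 1 2 = κ 1 2 3 from rfl, show kS κ 3 1 3 = κ 1 3 3 from rfl, show kS κ 3 3 0 = κ 0 3 3 from rfl, show kS κ 3 3 1 = κ 1 3 3 from rfl, show kS κ 3 3 2 = κ 2 3 3 from rfl, show kS κ 3 3 3 = κ 3 3 3 from rfl,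
    D.1, D.2.1, D.2.2.1, D.2.2.2] at h
  push_cast at h
  have hg : (12 : k) ≠ 0 := by
    have := nz_of [2, 2, 3] hp (by decide) 
    simpa using this
  apply mul_left_cancel₀ hg
  linear_combination h

/-- `m4 m4 b-6 b-2` -/
theorem q10 (H : Alpha e κ) (D : Dead κ) (h2 : (2 : k) ≠ 0) (h3 : (3 : k) ≠ 0) (hp : ∀ n : ℕ, 0 < n → n ≤ 8 → (n : k) ≠ 0) :
    (70) * (κ 0 1 1 * κ 0 2 2) + (-25) * (κ 0 1 2 * κ 0 1 2) + (56) * (κ 1 1 2 * κ 1 1 2) + (-105) * (κ 1 2 3 * κ 1 2 3) = (0 : k) := by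
  have h := H.e4int h2 h3 hp (x := (2, 4)) (y := (2, 4)) (z := (1, 0)) (w := (1, 2)) (by decide) (by decide) (by decide)
    (by decide)
  simp only [Fin.sum_univ_four] at h
  simp only [show co (2, 4) (2, 4) (1, 0) (1, 2) 0 = 840 by decide +kernel,
    show co (2, 4) (2, 4) (1, 0) (1, 2) 1 = 0 by decide +kernel,
    show co (2, 4) (2, 4) (1, 0) (1, 2) 2 = 0 by decide +kernel,
    show co (2, 4) (2, 4) (1, 0) (1, 2) 3 = 0 by decide +kernel,
    show co (2, 4) (1, 0) (2, 4) (1, 2) 0 = -150 by decide +kernel,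
    show co (2, 4) (1, 0) (2, 4) (1, 2) 1 = 336 by decide +kernel,
    show co (2, 4) (1, 0) (2, 4) (1, 2) 2 = -630 by decide +kernel,
    show co (2, 4) (1, 0) (2, 4) (1, 2) 3 = -630 by decide +kernel,
    show co (2, 4) (1, 2) (2, 4) (1, 0) 0 = -150 by decide +kernel,
    show co (2, 4) (1, 2) (2, 4) (1, 0) 1 = 336 by decide +kernel,
    show co (2, 4) (1, 2) (2, 4) (1, 0) 2 = -630 by decide +kernel,
    show co (2, 4) (1, 2) (2, 4) (1, 0) 3 = -630 by decide +kernel] at h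
  rw [show tI (2, 4) (2, 4) * tI (1, 0) (1, 2) + tI (2, 4) (1, 0) * tI (2, 4) (1, 2) + tI (2, 4) (1, 2) * tI (2, 4) (1, 0) = 0 by decide +kernel] at h
  simp only [show kS κ 1 1 0 = κ 0 1 1 from rfl, show kS κ 1 1 1 = κ 1 1 1 from rfl, show kS κ 1 1 2 = κ 1 1 2 from rfl, show kS κ 1 1 3 = κ 1 1 3 from rfl, show kS κ 2 1 0 = κ 0 1 2 from rfl, show kS κ 2 1 1 = κ 1 1 2 from rfl, show kS κ 2 1 2 = κ 1 2 2 from rfl, show kS κ 2 1 3 = κ 1 2 3 from rfl, show kS κ 2 2 0 = κ 0 2 2 from rfl, show kS κ 2 2 1 = κ 1 2 2 from rfl, show kS κ 2 2 2 = κ 2 2 2 from rfl, show kS κ 2 2 3 = κ 2 2 3 from rfl,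
    D.1, D.2.1, D.2.2.1, D.2.2.2] at h
  push_cast at h
  have hg : (12 : k) ≠ 0 := by
    have := nz_of [2, 2, 3] hp (by decide) 
    simpa using this
  apply mul_left_cancel₀ hg
  linear_combination h

/-- `n4 n4 b-6 b-2` -/
theorem q10n (H : Alpha e κ) (D : Dead κ) (h2 : (2 : k) ≠ 0) (h3 : (3 : k) ≠ 0) (hp : ∀ n : ℕ, 0 < n → n ≤ 8 → (n : k) ≠ 0) :
    (70) * (κ 0 1 1 * κ 0 3 3) + (-25) * (κ 0 1 3 * κ 0 1 3) + (56) * (κ 1 1 3 * κ 1 1 3) + (-105) * (κ 1 2 3 * κ 1 2 3) = (0 : k) := by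
  have h := H.e4int h2 h3 hp (x := (3, 4)) (y := (3, 4)) (z := (1, 0)) (w := (1, 2)) (by decide) (by decide) (by decide)
    (by decide)
  simp only [Fin.sum_univ_four] at h
  simp only [show co (3, 4) (3, 4) (1, 0) (1, 2) 0 = 840 by decide +kernel,
    show co (3, 4) (3, 4) (1, 0) (1, 2) 1 = 0 by decide +kernel,
    show co (3, 4) (3, 4) (1, 0) (1, 2) 2 = 0 by decide +kernel,
    show co (3, 4) (3, 4) (1, 0) (1, 2) 3 = 0 by decide +kernel,
    show co (3, 4) (1, 0) (3, 4) (1, 2) 0 = -150 by decide +kernel,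
    show co (3, 4) (1, 0) (3, 4) (1, 2) 1 = 336 by decide +kernel,
    show co (3, 4) (1, 0) (3, 4) (1, 2) 2 = -630 by decide +kernel,
    show co (3, 4) (1, 0) (3, 4) (1, 2) 3 = -630 by decide +kernel,
    show co (3, 4) (1, 2) (3, 4) (1, 0) 0 = -150 by decide +kernel,
    show co (3, 4) (1, 2) (3, 4) (1, 0) 1 = 336 by decide +kernel,
    show co (3, 4) (1, 2) (3, 4) (1, 0) 2 = -630 by decide +kernel,
    show co (3, 4) (1, 2) (3, 4) (1, 0) 3 = -630 by decide +kernel] at h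
  rw [show tI (3, 4) (3, 4) * tI (1, 0) (1, 2) + tI (3, 4) (1, 0) * tI (3, 4) (1, 2) + tI (3, 4) (1, 2) * tI (3, 4) (1, 0) = 0 by decide +kernel] at h
  simp only [show kS κ 1 1 0 = κ 0 1 1 from rfl, show kS κ 1 1 1 = κ 1 1 1 from rfl, show kS κ 1 1 2 = κ 1 1 2 from rfl, show kS κ 1 1 3 = κ 1 1 3 from rfl, show kS κ 3 1 0 = κ 0 1 3 from rfl, show kS κ 3 1 1 = κ 1 1 3 from rfl, show kS κ 3 1 2 = κ 1 2 3 from rfl, show kS κ 3 1 3 = κ 1 3 3 from rfl, show kS κ 3 3 0 = κ 0 3 3 from rfl, show kS κ 3 3 1 = κ 1 3 3 from rfl, show kS κ 3 3 2 = κ 2 3 3 from rfl, show kS κ 3 3 3 = κ 3 3 3 from rfl,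
    D.1, D.2.1, D.2.2.1, D.2.2.2] at h
  push_cast at h
  have hg : (12 : k) ≠ 0 := by
    have := nz_of [2, 2, 3] hp (by decide) 
    simpa using this
  apply mul_left_cancel₀ hg
  linear_combination h

/-- `a8 n4 a-8 b-4` -/
theorem q11 (H : Alpha e κ) (D : Dead κ) (h2 : (2 : k) ≠ 0) (h3 : (3 : k) ≠ 0) (hp : ∀ n : ℕ, 0 < n → n ≤ 8 → (n : k) ≠ 0) :
    (-3) * (κ 0 0 0 * κ 0 1 3) + (21) * (κ 0 0 2 * κ 1 2 3) + (-14) * (κ 0 1 1 * κ 0 1 3) + (42) * (κ 0 1 2 * κ 0 2 3) + (42) * (κ 0 1 3 * κ 0 3 3) = (0 : k) := by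
  have h := H.e4int h2 h3 hp (x := (0, 8)) (y := (3, 4)) (z := (0, 0)) (w := (1, 1)) (by decide) (by decide) (by decide)
    (by decide)
  simp only [Fin.sum_univ_four] at h
  simp only [show co (0, 8) (3, 4) (0, 0) (1, 1) 0 = 0 by decide +kernel,
    show co (0, 8) (3, 4) (0, 0) (1, 1) 1 = 0 by decide +kernel,
    show co (0, 8) (3, 4) (0, 0) (1, 1) 2 = 0 by decide +kernel,
    show co (0, 8) (3, 4) (0, 0) (1, 1) 3 = 0 by decide +kernel,
    show co (0, 8) (0, 0) (3, 4) (1, 1) 0 = -60 by decide +kernel,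
    show co (0, 8) (0, 0) (3, 4) (1, 1) 1 = -168 by decide +kernel,
    show co (0, 8) (0, 0) (3, 4) (1, 1) 2 = 420 by decide +kernel,
    show co (0, 8) (0, 0) (3, 4) (1, 1) 3 = -420 by decide +kernel,
    show co (0, 8) (1, 1) (3, 4) (0, 0) 0 = -90 by decide +kernel,
    show co (0, 8) (1, 1) (3, 4) (0, 0) 1 = -280 by decide +kernel,
    show co (0, 8) (1, 1) (3, 4) (0, 0) 2 = 840 by decide +kernel,
    show co (0, 8) (1, 1) (3, 4) (0, 0) 3 = 840 by decide +kernel] at h
  rw [show tI (0, 8) (3, 4) * tI (0, 0) (1, 1) + tI (0, 8) (0, 0) * tI (3, 4) (1, 1) + tI (0, 8) (1, 1) * tI (3, 4) (0, 0) = 0 by decide +kernel] at h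
  simp only [show kS κ 0 0 0 = κ 0 0 0 from rfl, show kS κ 0 0 1 = κ 0 0 1 from rfl, show kS κ 0 0 2 = κ 0 0 2 from rfl, show kS κ 0 0 3 = κ 0 0 3 from rfl, show kS κ 0 1 0 = κ 0 0 1 from rfl, show kS κ 0 1 1 = κ 0 1 1 from rfl, show kS κ 0 1 2 = κ 0 1 2 from rfl, show kS κ 0 1 3 = κ 0 1 3 from rfl, show kS κ 0 3 0 = κ 0 0 3 from rfl, show kS κ 0 3 1 = κ 0 1 3 from rfl, show kS κ 0 3 2 = κ 0 2 3 from rfl, show kS κ 0 3 3 = κ 0 3 3 from rfl, show kS κ 3 0 0 = κ 0 0 3 from rfl, show kS κ 3 0 1 = κ 0 1 3 from rfl, show kS κ 3 0 2 = κ 0 2 3 from rfl, show kS κ 3 0 3 = κ 0 3 3 from rfl, show kS κ 3 1 0 = κ 0 1 3 from rfl, show kS κ 3 1 1 = κ 1 1 3 from rfl, show kS κ 3 1 2 = κ 1 2 3 from rfl, show kS κ 3 1 3 = κ 1 3 3 from rfl,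
    D.1, D.2.1, D.2.2.1, D.2.2.2] at h
  push_cast at h
  have hg : (20 : k) ≠ 0 := by
    have := nz_of [2, 2, 5] hp (by decide) 
    simpa using this
  apply mul_left_cancel₀ hg
  linear_combination h

/-- `b6 m4 a-8 b-2` -/
theorem q12 (H : Alpha e κ) (D : Dead κ) (h2 : (2 : k) ≠ 0) (h3 : (3 : k) ≠ 0) (hp : ∀ n : ℕ, 0 < n → n ≤ 8 → (n : k) ≠ 0) :
    (56) * (κ 0 1 1 * κ 1 1 2) + (-105) * (κ 0 1 3 * κ 1 2 3) + (30) * (κ 0 0 2 * κ 0 1 1) + (140) * (κ 0 2 2 * κ 1 1 2) + (140) * (κ 0 2 3 * κ 1 1 3) = (0 : k) := by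
  have h := H.e4int h2 h3 hp (x := (1, 6)) (y := (2, 4)) (z := (0, 0)) (w := (1, 2)) (by decide) (by decide) (by decide)
    (by decide)
  simp only [Fin.sum_univ_four] at h
  simp only [show co (1, 6) (2, 4) (0, 0) (1, 2) 0 = 0 by decide +kernel,
    show co (1, 6) (2, 4) (0, 0) (1, 2) 1 = 0 by decide +kernel,
    show co (1, 6) (2, 4) (0, 0) (1, 2) 2 = 0 by decide +kernel,
    show co (1, 6) (2, 4) (0, 0) (1, 2) 3 = 0 by decide +kernel,
    show co (1, 6) (0, 0) (2, 4) (1, 2) 0 = 150 by decide +kernel,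
    show co (1, 6) (0, 0) (2, 4) (1, 2) 1 = 336 by decide +kernel,
    show co (1, 6) (0, 0) (2, 4) (1, 2) 2 = -630 by decide +kernel,
    show co (1, 6) (0, 0) (2, 4) (1, 2) 3 = -630 by decide +kernel,
    show co (1, 6) (1, 2) (2, 4) (0, 0) 0 = 180 by decide +kernel,
    show co (1, 6) (1, 2) (2, 4) (0, 0) 1 = -420 by decide +kernel,
    show co (1, 6) (1, 2) (2, 4) (0, 0) 2 = 840 by decide +kernel,
    show co (1, 6) (1, 2) (2, 4) (0, 0) 3 = 840 by decide +kernel] at h
  rw [show tI (1, 6) (2, 4) * tI (0, 0) (1, 2) + tI (1, 6) (0, 0) * tI (2, 4) (1, 2) + tI (1, 6) (1, 2) * tI (2, 4) (0, 0) = 0 by decide +kernel] at h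
  simp only [show kS κ 0 1 0 = κ 0 0 1 from rfl, show kS κ 0 1 1 = κ 0 1 1 from rfl, show kS κ 0 1 2 = κ 0 1 2 from rfl, show kS κ 0 1 3 = κ 0 1 3 from rfl, show kS κ 1 0 0 = κ 0 0 1 from rfl, show kS κ 1 0 1 = κ 0 1 1 from rfl, show kS κ 1 0 2 = κ 0 1 2 from rfl, show kS κ 1 0 3 = κ 0 1 3 from rfl, show kS κ 1 1 0 = κ 0 1 1 from rfl, show kS κ 1 1 1 = κ 1 1 1 from rfl, show kS κ 1 1 2 = κ 1 1 2 from rfl, show kS κ 1 1 3 = κ 1 1 3 from rfl, show kS κ 1 2 0 = κ 0 1 2 from rfl, show kS κ 1 2 1 = κ 1 1 2 from rfl, show kS κ 1 2 2 = κ 1 2 2 from rfl, show kS κ 1 2 3 = κ 1 2 3 from rfl, show kS κ 2 0 0 = κ 0 0 2 from rfl, show kS κ 2 0 1 = κ 0 1 2 from rfl, show kS κ 2 0 2 = κ 0 2 2 from rfl, show kS κ 2 0 3 = κ 0 2 3 from rfl, show kS κ 2 1 0 = κ 0 1 2 from rfl, show kS κ 2 1 1 = κ 1 1 2 from rfl, show kS κ 2 1 2 = κ 1 2 2 from rfl, show kS κ 2 1 3 = κ 1 2 3 from rfl,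
    D.1, D.2.1, D.2.2.1, D.2.2.2] at h
  push_cast at h
  have hg : (6 : k) ≠ 0 := by
    have := nz_of [2, 3] hp (by decide) 
    simpa using this
  apply mul_left_cancel₀ hg
  linear_combination h

section concl

variable (H : Alpha e κ) (h2 : (2 : k) ≠ 0) (h3 : (3 : k) ≠ 0) (hp : ∀ n : ℕ, 0 < n → n ≤ 8 → (n : k) ≠ 0)
include H h2 h3 hp

theorem c0 : κ 0 1 1 ≠ 0 := by
  intro h0
  have D := H.dead h2
  have h5 : (5 : k) ≠ 0 := by exact_mod_cast hp 5 (by norm_num) (by norm_num)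
  have h7 : (7 : k) ≠ 0 := by exact_mod_cast hp 7 (by norm_num) (by norm_num)
  have e2 := H.q2 D h2 h3 hp
  have e4 := H.q4 D h2 h3 hp
  have e1 := H.q1 D h2 h3 hp
  have e7 := H.q7 D h2 h3 hp
  have e10 := H.q10 D h2 h3 hp
  have e10n := H.q10n D h2 h3 hp
  rw [h0] at e2 e4 e7 e10 e10n
  have h15 : (15 : k) ≠ 0 := by
    have : (15 : k) = 3 * 5 := by norm_num
    rw [this]; exact mul_ne_zero h3 h5
  have r1 : κ 0 1 2 * κ 0 1 2 + κ 0 1 3 * κ 0 1 3 = 0 := by
    apply mul_left_cancel₀ h15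
    linear_combination -e2
  have h35 : (35 : k) ≠ 0 := by
    have : (35 : k) = 5 * 7 := by norm_num
    rw [this]; exact mul_ne_zero h5 h7
  have r2 : κ 1 1 2 * κ 1 1 2 + κ 1 1 3 * κ 1 1 3 = 4 := by
    apply mul_left_cancel₀ h35
    linear_combination e4
  have h4 : (4 : k) ≠ 0 := by
    have : (4 : k) = 2 * 2 := by norm_num
    rw [this]; exact mul_ne_zero h2 h2
  have r3 : κ 0 1 2 = 0 := by
    have h : 4 * (κ 0 1 2 * κ 0 1 2) = 0 := by
      rw [← r2]
      linear_combination (κ 0 1 2 * κ 1 1 2 - κ 0 1 3 * κ 1 1 3) * e1 + (κ 1 1 3 * κ 1 1 3) * r1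
    exact mul_self_eq_zero.1 ((mul_eq_zero.1 h).resolve_left h4)
  have r4 : κ 0 1 3 = 0 := by
    rw [r3] at r1
    exact mul_self_eq_zero.1 (by linear_combination r1)
  rw [r3] at e7 e10 
  rw [r4] at e10n
  have h56 : (56 : k) ≠ 0 := by
    have : (56 : k) = 2 * 2 * 2 * 7 := by norm_num
    rw [this]; exact mul_ne_zero (mul_ne_zero (mul_ne_zero h2 h2) h2) h7
  have h105 : (105 : k) ≠ 0 := by
    have : (105 : k) = 3 * 5 * 7 := by norm_num
    rw [this]; exact mul_ne_zero (mul_ne_zero h3 h5) h7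
  have r5 : κ 1 1 2 * κ 1 1 3 = 0 := by
    apply mul_left_cancel₀ h56
    linear_combination e7
  have r6 : κ 1 2 3 = 0 := by
    rcases mul_eq_zero.1 r5 with h | h
    · rw [h] at e10
      exact mul_self_eq_zero.1 (mul_left_cancel₀ h105 (by linear_combination -e10))
    · rw [h] at e10n
      exact mul_self_eq_zero.1 (mul_left_cancel₀ h105 (by linear_combination -e10n))
  rw [r6] at e10 e10n
  have r7 : κ 1 1 2 = 0 := mul_self_eq_zero.1 (mul_left_cancel₀ h56 (by linear_combination e10))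
  have r8 : κ 1 1 3 = 0 := mul_self_eq_zero.1 (mul_left_cancel₀ h56 (by linear_combination e10n))
  rw [r7, r8] at r2
  exact h4 (by linear_combination -r2)

/-- the vector `(κ 0 1 2, κ 0 1 3)` is not isotropic -/
theorem c1 : κ 0 1 2 * κ 0 1 2 + κ 0 1 3 * κ 0 1 3 ≠ 0 := by
  intro h
  have e2 := H.q2 (H.dead h2) h2 h3 hp
  have h8 : (8 : k) ≠ 0 := by exact_mod_cast hp 8 (by norm_num) (by norm_num)
  refine H.c0 h2 h3 hp (mul_self_eq_zero.1 (mul_left_cancel₀ h8 ?_))
  linear_combination e2 + 15 * h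

/-- **the grading** -/
theorem c2 (h0 : κ 0 1 2 = 0) : κ 0 1 3 ≠ 0 ∧ κ 1 1 3 = 0 ∧ κ 0 2 3 = 0 ∧ κ 0 0 3 = 0 ∧ κ 2 2 3 = 0 ∧ κ 3 3 3 = 0 := by
  have D := H.dead h2
  have h5 : (5 : k) ≠ 0 := by exact_mod_cast hp 5 (by norm_num) (by norm_num)
  have h7 : (7 : k) ≠ 0 := by exact_mod_cast hp 7 (by norm_num) (by norm_num)
  have n011 := H.c0 h2 h3 hp
  have n1 := H.c1 h2 h3 hp
  have e1 := H.q1 D h2 h3 hp
  have e2 := H.q2 D h2 h3 hp
  have e3 := H.q3 D h2 h3 hp
  have e4 := H.q4 D h2 h3 hp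
  have e5 := H.q5 D h2 h3 hp
  have e6 := H.q6 D h2 h3 hp
  have e7 := H.q7 D h2 h3 hp
  have e8 := H.q8 D h2 h3 hp
  have e9 := H.q9 D h2 h3 hp
  have e10 := H.q10 D h2 h3 hp
  have e10n := H.q10n D h2 h3 hp
  have e11 := H.q11 D h2 h3 hp
  have e12 := H.q12 D h2 h3 hp
  rw [h0] at n1 e1 e2 e6 e7 e8 e9 e10 e11
  have n013 : κ 0 1 3 ≠ 0 := fun h => n1 (by rw [h]; ring)
  have z113 : κ 1 1 3 = 0 := by
    have h : κ 0 1 3 * κ 1 1 3 = 0 := by linear_combination e1
    exact (mul_eq_zero.1 h).resolve_left n013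
  rw [z113] at e4 e7 e8 e9 e10n e12
  have h70 : (70 : k) ≠ 0 := by
    have : (70 : k) = 2 * 5 * 7 := by norm_num
    rw [this]; exact mul_ne_zero (mul_ne_zero h2 h5) h7
  have z023 : κ 0 2 3 = 0 := by
    have h : 70 * (κ 0 1 1 * κ 0 2 3) = 0 := by linear_combination e7
    exact (mul_eq_zero.1 ((mul_eq_zero.1 h).resolve_left h70)).resolve_left n011
  rw [z023] at e8 e9 e11
  have h30 : (30 : k) ≠ 0 := by
    have : (30 : k) = 2 * 3 * 5 := by norm_num
    rw [this]; exact mul_ne_zero (mul_ne_zero h2 h3) h5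
  have z003 : κ 0 0 3 = 0 := by
    have h : 30 * (κ 0 0 3 * κ 0 1 1) = 0 := by linear_combination e8
    exact (mul_eq_zero.1 ((mul_eq_zero.1 h).resolve_left h30)).resolve_right n011
  rw [z003] at e3
  have n123 : κ 1 2 3 ≠ 0 := by
    intro h
    rw [h] at e5 e10 e10n e11 e12
    have h4 : (4 : k) ≠ 0 := by exact_mod_cast hp 4 (by norm_num) (by norm_num)
    have z112 : κ 1 1 2 = 0 := by
      have h' : 4 * (κ 0 1 1 * κ 1 1 2) = 0 := by linear_combination e5
      exact (mul_eq_zero.1 ((mul_eq_zero.1 h').resolve_left h4)).resolve_left n011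
    rw [z112] at e4 e10 e12
    have z002 : κ 0 0 2 = 0 := by
      have h' : 30 * (κ 0 0 2 * κ 0 1 1) = 0 := by linear_combination e12
      exact (mul_eq_zero.1 ((mul_eq_zero.1 h').resolve_left h30)).resolve_right n011
    rw [z002] at e3 e11
    -- ann = (4/21) abb
    have r1 : 21 * κ 0 3 3 = 4 * κ 0 1 1 := by
      have h' : 10 * κ 0 1 1 * (21 * κ 0 3 3) = 10 * κ 0 1 1 * (4 * κ 0 1 1) := by
        linear_combination 3 * e10n - 5 * e2
      refine mul_left_cancel₀ (mul_ne_zero ?_ n011) h'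
      have : (10 : k) = 2 * 5 := by norm_num
      rw [this]; exact mul_ne_zero h2 h5
    -- aaa = -2 abb
    have r2 : κ 0 0 0 = -2 * κ 0 1 1 := by
      have h' : 3 * κ 0 1 3 * κ 0 0 0 = 3 * κ 0 1 3 * (-2 * κ 0 1 1) := by
        linear_combination -e11 + 2 * κ 0 1 3 * r1
      exact mul_left_cancel₀ (mul_ne_zero h3 n013) h'
    rw [r2] at e3
    have h140 : (140 : k) ≠ 0 := by
      have : (140 : k) = 2 * 70 := by norm_num
      rw [this]; exact mul_ne_zero h2 h70
    have h9 : (3 : k) * (κ 0 1 1 * κ 0 1 1) = 0 := by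
      refine mul_left_cancel₀ h3 ?_
      linear_combination e3 - e4
    exact h140 (by linear_combination -e4 + h9)
  refine ⟨n013, z113, z023, z003, ?_, ?_⟩
  · have h : 7 * (κ 1 2 3 * κ 2 2 3) = 0 := by linear_combination e6
    exact (mul_eq_zero.1 ((mul_eq_zero.1 h).resolve_left h7)).resolve_left n123
  · have z223 : κ 2 2 3 = 0 := by
      have h : 7 * (κ 1 2 3 * κ 2 2 3) = 0 := by linear_combination e6
      exact (mul_eq_zero.1 ((mul_eq_zero.1 h).resolve_left h7)).resolve_left n123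
    rw [z223] at e9
    have h35 : (35 : k) ≠ 0 := by
      have : (35 : k) = 5 * 7 := by norm_num
      rw [this]; exact mul_ne_zero h5 h7
    have h : 35 * (κ 1 2 3 * κ 3 3 3) = 0 := by linear_combination e9
    exact (mul_eq_zero.1 ((mul_eq_zero.1 h).resolve_left h35)).resolve_left n123

end concl

end Cfsg.Agent.R2.H1.F4.Alpha
end

-- part: R2/H1/F4/StrTab
section
set_option linter.all false
open scoped Cfsg.Agent.FastGrp

/-!
# S5931: the values of invariant trilinear forms on strings (helper1)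

`str_tab` : on scaled standard bases an invariant trilinear form is a multiple of `tau`.
-/

set_option autoImplicit false
set_option linter.unusedSectionVars false

namespace Cfsg.Agent.R2.H1.F4

open Matrix Cfsg.Agent.H943.SL2Rel Finset Cfsg.Agent.R2.F4N

universe u v w

theorem sum_three {k : Type u} [AddCommMonoid k] {p : ℕ} (hp : 2 ≤ p) (T : ℕ → ℕ → ℕ → k)
    (hT : ∀ e f g, e + f + g ≠ 1 → T e f g = 0) :
    ∑ g ∈ range p, ∑ f ∈ range p, ∑ e ∈ range p, T e f g = T 1 0 0 + T 0 1 0 + T 0 0 1 := by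
  have h2 : ∀ (φ : ℕ → k), (∀ n, 2 ≤ n → φ n = 0) → ∑ n ∈ range p, φ n = φ 0 + φ 1 := by
    intro φ hφ
    obtain ⟨q, rfl⟩ : ∃ q, p = 2 + q := ⟨p - 2, by omega⟩
    rw [Finset.sum_range_add, Finset.sum_range_succ, Finset.sum_range_succ, Finset.sum_range_zero, zero_add]
    rw [Finset.sum_eq_zero (s := range q) fun n _ => hφ _ (by omega), add_zero]
  rw [h2 _ fun g hg => sum_eq_zero fun f _ => sum_eq_zero fun e _ => hT _ _ _ (by omega)]
  rw [h2 _ fun f hf => sum_eq_zero fun e _ => hT _ _ _ (by omega),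
    h2 _ fun e he => hT _ _ _ (by omega), h2 _ fun e he => hT _ _ _ (by omega)]
  rw [h2 _ fun f hf => sum_eq_zero fun e _ => hT _ _ _ (by omega),
    h2 _ fun e he => hT _ _ _ (by omega), h2 _ fun e he => hT _ _ _ (by omega)]
  rw [hT 0 0 0 (by omega), hT 1 1 0 (by omega), hT 1 0 1 (by omega), hT 0 1 1 (by omega), hT 1 1 1 (by omega)]
  simp only [zero_add, add_zero]

variable {k : Type u} [Field k] {K : Type w} [Field K] [Fintype K] {W : Type v} [AddCommGroup W] [Module k W]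
variable {κ : K →+* k} {ρ : Representation k (SpecialLinearGroup (Fin 2) K) W}
variable {N : W →ₗ[k] W →ₗ[k] W →ₗ[k] k} (hN : ∀ g x y z, N (ρ g x) (ρ g y) (ρ g z) = N x y z)

include hN

/-- the first-order relation -/
theorem str_e {p s i j l : ℕ} {x y z : ℕ → W} (hx : Str κ ρ i x) (hy : Str κ ρ j y) (hz : Str κ ρ l z)
    (hi : i < p) (hj : j < p) (hl : l < p) (hp : 2 ≤ p)
    (hv : ∀ a b c, a ≤ i → b ≤ j → c ≤ l → a + b + c ≠ s → N (x a) (y b) (z c) = 0) {a b c : ℕ} (ha : a ≤ i) (hb : b ≤ j)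
    (hc : c ≤ l) :
    ((i - a : ℕ) : k) * N (x (a + 1)) (y b) (z c) + ((j - b : ℕ) : k) * N (x a) (y (b + 1)) (z c) +
      ((l - c : ℕ) : k) * N (x a) (y b) (z (c + 1)) = 0 := by
  by_cases hs : a + b + c + 1 = s
  · have h1 := hN (Cfsg.Agent.H943.SL2Rel.u 1) (x a) (y b) (z c)
    rw [hv a b c ha hb hc (by omega), hx.u' hi ha, hy.u' hj hb, hz.u' hl hc] at h1
    simp only [map_sum, LinearMap.sum_apply, map_smul, LinearMap.smul_apply, smul_eq_mul, map_one, one_pow, mul_one] at h1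
    have h2 := sum_three hp (fun e f g => ((l - c).choose g : k) * (((j - b).choose f : k) *
      (((i - a).choose e : k) * N (x (a + e)) (y (b + f)) (z (c + g))))) (by
        intro e f g hefg
        rcases le_or_gt e (i - a) with he | he
        swap
        · rw [Nat.choose_eq_zero_of_lt he]; simp
        rcases le_or_gt f (j - b) with hf | hf
        swap
        · rw [Nat.choose_eq_zero_of_lt hf]; simp
        rcases le_or_gt g (l - c) with hg | hg
        swap
        · rw [Nat.choose_eq_zero_of_lt hg]; simp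
        rw [hv _ _ _ (by omega) (by omega) (by omega) (by omega)]; simp)
    simp only [Nat.choose_one_right, Nat.choose_zero_right, Nat.cast_one, one_mul, add_zero] at h2
    rw [← h2]
    refine Eq.trans ?_ h1
    refine sum_congr rfl fun g _ => ?_
    rw [Finset.mul_sum]
    refine sum_congr rfl fun f _ => ?_
    rw [Finset.mul_sum, Finset.mul_sum]
  · have h1 : ((i - a : ℕ) : k) * N (x (a + 1)) (y b) (z c) = 0 := by
      rcases Nat.eq_or_lt_of_le ha with h | h
      · rw [h]; simp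
      · rw [hv _ _ _ (by omega) hb hc (by omega), mul_zero]
    have h2 : ((j - b : ℕ) : k) * N (x a) (y (b + 1)) (z c) = 0 := by
      rcases Nat.eq_or_lt_of_le hb with h | h
      · rw [h]; simp
      · rw [hv _ _ _ ha (by omega) hc (by omega), mul_zero]
    have h3 : ((l - c : ℕ) : k) * N (x a) (y b) (z (c + 1)) = 0 := by
      rcases Nat.eq_or_lt_of_le hc with h | h
      · rw [h]; simp
      · rw [hv _ _ _ ha hb (by omega) (by omega), mul_zero]
    rw [h1, h2, h3, add_zero, add_zero]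

/-- **the values**, from the vanishing -/
theorem str_tab_of {p A B C : ℕ} {x y z : ℕ → W} (hx : Str κ ρ (A + B) x) (hy : Str κ ρ (A + C) y) (hz : Str κ ρ (B + C) z)
    (hi : A + B < p) (hj : A + C < p) (hl : B + C < p) (hp2 : 2 ≤ p)
    (hv : ∀ a b c, a ≤ A + B → b ≤ A + C → c ≤ B + C → a + b + c ≠ A + B + C → N (x a) (y b) (z c) = 0)
    (hOK : tauOK A B C = true) (hu : tau A B C 0 (A + C) B = (-1) ^ (A + B))
    (hp : ∀ n : ℕ, 0 < n → n ≤ B ∨ n ≤ A + C → (n : k) ≠ 0) :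
    ∃ c₀ : k, ∀ a b c, ((A + B).choose a : k) * (((A + C).choose b : k) * (((B + C).choose c : k) *
      N (x a) (y b) (z c))) = c₀ * (tau A B C a b c : k) := by
  have hs0 : ∀ n a : ℕ, n < a → ((n.choose a : ℕ) : k) = 0 := fun n a h => by
    rw [Nat.choose_eq_zero_of_lt h, Nat.cast_zero]
  have hcs : ∀ n a : ℕ, a ≤ n → ((a : k) + 1) * ((n.choose (a + 1) : ℕ) : k) = ((n - a : ℕ) : k) * (n.choose a : ℕ) := by
    intro n a h
    have h1 := Nat.choose_succ_right_eq n a
    have h2 := congrArg (Nat.cast : ℕ → k) h1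
    push_cast at h2
    linear_combination h2
  refine tab A B C hOK hu (fun a b c => ((A + B).choose a : k) * (((A + C).choose b : k) * (((B + C).choose c : k) *
      N (x a) (y b) (z c)))) ?_ ?_ ?_ ?_ ?_ ?_ hp
  · intro a b c
    by_cases ha : a ≤ A + B
    · by_cases hb : b ≤ A + C
      · by_cases hc : c ≤ B + C
        · have h1 := str_e hN hx hy hz hi hj hl hp2 hv ha hb hc
          have e1 := hcs _ _ ha
          have e2 := hcs _ _ hb
          have e3 := hcs _ _ hc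
          linear_combination (((A + B).choose a : k) * ((A + C).choose b : k) * ((B + C).choose c : k)) * h1 +
            (((A + C).choose b : k) * ((B + C).choose c : k) * N (x (a + 1)) (y b) (z c)) * e1 +
            (((A + B).choose a : k) * ((B + C).choose c : k) * N (x a) (y (b + 1)) (z c)) * e2 +
            (((A + B).choose a : k) * ((A + C).choose b : k) * N (x a) (y b) (z (c + 1))) * e3
        · rw [hs0 _ _ (not_le.1 hc), hs0 (B + C) (c + 1) (by omega)]; ring
      · rw [hs0 _ _ (not_le.1 hb), hs0 (A + C) (b + 1) (by omega)]; ring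
    · rw [hs0 _ _ (not_le.1 ha), hs0 (A + B) (a + 1) (by omega)]; ring
  · intro a b c h
    rw [hs0 _ _ h]; ring
  · intro a b c h
    rw [hs0 _ _ h]; ring
  · intro a b c h
    rw [hs0 _ _ h]; ring
  · intro a ha b hb c hc
    rw [Nat.choose_symm ha, Nat.choose_symm hb, Nat.choose_symm hc, mirror hN hx hy hz ha hb hc]
    ring
  · intro a b c h
    by_cases ha : a ≤ A + B
    · by_cases hb : b ≤ A + C
      · by_cases hc : c ≤ B + C
        · rw [hv a b c ha hb hc h]; ring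
        · rw [hs0 _ _ (not_le.1 hc)]; ring
      · rw [hs0 _ _ (not_le.1 hb)]; ring
    · rw [hs0 _ _ (not_le.1 ha)]; ring

/-- **the values** (`z` the longest string) -/
theorem str_tab {p A B C : ℕ} [Fact p.Prime] [CharP k p] {x y z : ℕ → W} (hx : Str κ ρ (A + B) x) (hy : Str κ ρ (A + C) y)
    (hz : Str κ ρ (B + C) z) (hpK : p ≤ Fintype.card K) (hi : A + B < p) (hj : A + C < p) (hl : B + C < p)
    (hij : A + B + (A + C) < B + C + (Fintype.card K - 1))
    (hOK : tauOK A B C = true) (hu : tau A B C 0 (A + C) B = (-1) ^ (A + B)) :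
    ∃ c₀ : k, ∀ a b c, ((A + B).choose a : k) * (((A + C).choose b : k) * (((B + C).choose c : k) *
      N (x a) (y b) (z c))) = c₀ * (tau A B C a b c : k) := by
  have hpr : p.Prime := Fact.out
  refine str_tab_of hN hx hy hz hi hj hl hpr.two_le (fun a b c ha hb hc h => ?_) hOK hu fun n h0 h1 h2 => ?_
  · exact exact hN hx hy hz hpK hi hj hl (s := A + B + C) (by omega) hij ha hb hc h
  · have h3 := (CharP.cast_eq_zero_iff k p n).1 h2
    have h4 := Nat.le_of_dvd h0 h3
    rcases h1 with h1 | h1 <;> omega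

end Cfsg.Agent.R2.H1.F4
end

-- part: R2/F4P/C2
section
prune_inst 0x3130614426a2020000000592330020347c00049200200800e8c009460841e362800229000e801012000ea280000100081110007002000000020004000005002088824204b308010c46008f800084000000000000000000000000000000000004000000000
set_option linter.all false
open scoped Cfsg.Agent.FastGrp

/-!
# (C2): two vectors of the 27-dimensional module have a common stabilizer `≠ 1` in `F₄(q)`, all `q` (helper20)
-/

set_option autoImplicit false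
set_option linter.unusedSimpArgs false

namespace Cfsg.Agent.R2.F4P

open Cfsg Cfsg.Lie Module
open Cfsg.Agent.ChevalleyStructure Cfsg.Agent.ChevalleyStructure.Elts
open Cfsg.Agent.ChevalleyStructure.E6Min.Tables Cfsg.Agent.ChevalleyStructure.E6Min.Basic
open Cfsg.Agent.H952.F4 Cfsg.Agent.H952.F4.Jord
open Cfsg.Agent.R2.F4M
open Cfsg.Agent.H952.F4.Fix (Oth card_oth)

universe u

theorem sub_eq_sh {F : Type u} [Field F] {y z : I27 → F} (h : ∀ x : I27, x ≠ (0, 0, 0) → x ≠ (0, 0, 1) →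
    x ≠ (0, 1, 0) → y x = z x) (ht : tr1 y = tr1 z) : y (0, 0, 0) = z (0, 0, 0) ∧
      tr1 (sh y) - tr1 (sh z) = z (0, 0, 1) * z (0, 1, 0) - y (0, 0, 1) * y (0, 1, 0) := by
  have h011 := h (0, 1, 1) (by decide) (by decide) (by decide)
  have h022 := h (0, 2, 2) (by decide) (by decide) (by decide)
  have h0 : y (0, 0, 0) = z (0, 0, 0) := by
    simp only [tr1, Matrix.trace, Fin.sum_univ_three, Matrix.diag_apply] at ht
    change y (0, 0, 0) + y (0, 1, 1) + y (0, 2, 2) = z (0, 0, 0) + z (0, 1, 1) + z (0, 2, 2) at ht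
    rw [h011, h022] at ht
    linear_combination ht
  refine ⟨h0, ?_⟩
  have h002 := h (0, 0, 2) (by decide) (by decide) (by decide)
  have h012 := h (0, 1, 2) (by decide) (by decide) (by decide)
  have h020 := h (0, 2, 0) (by decide) (by decide) (by decide)
  have h021 := h (0, 2, 1) (by decide) (by decide) (by decide)
  have h1 : ∀ i j, y (1, i, j) = z (1, i, j) := fun i j => h _ (by simp) (by simp) (by simp)
  have h2 : ∀ i j, y (2, i, j) = z (2, i, j) := fun i j => h _ (by simp) (by simp) (by simp)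
  simp only [tr1, Matrix.trace, Matrix.diag, mat3, Matrix.of_apply, Fin.sum_univ_three, sh000, sh011, sh022, h1, h2, h0,
    h011, h022, h002, h012, h020, h021]
  ring

/-- the number of vectors with given invariants -/
theorem card_le_sh {F : Type u} [Field F] [Finite F] (t s : F) :
    Nat.card {y : I27 → F // tr1 y = t ∧ tr1 (sh y) = s} ≤ Nat.card F ^ 24 * (2 * Nat.card F - 1) := by
  classical
  let _ : Fintype F := Fintype.ofFinite F
  let f : {y : I27 → F // tr1 y = t ∧ tr1 (sh y) = s} → (Oth → F) × (F ⊕ {u : F // u ≠ 0}) := fun y =>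
    (fun x => y.1 x.1, if h : y.1 (0, 0, 1) = 0 then Sum.inl (y.1 (0, 1, 0)) else Sum.inr ⟨y.1 (0, 0, 1), h⟩)
  have hf : Function.Injective f := by
    rintro ⟨y, hy1, hy2⟩ ⟨z, hz1, hz2⟩ h
    have h1 : (fun x : Oth => y x.1) = fun x => z x.1 := congrArg Prod.fst h
    have h3 : (if h : y (0, 0, 1) = 0 then Sum.inl (y (0, 1, 0)) else Sum.inr ⟨y (0, 0, 1), h⟩ :
        F ⊕ {u : F // u ≠ 0}) =
        (if h : z (0, 0, 1) = 0 then Sum.inl (z (0, 1, 0)) else Sum.inr ⟨z (0, 0, 1), h⟩) := congrArg Prod.snd h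
    have h4 : ∀ x : I27, x ≠ (0, 0, 0) → x ≠ (0, 0, 1) → x ≠ (0, 1, 0) → y x = z x := fun x a b c =>
      congrFun h1 ⟨x, a, b, c⟩
    obtain ⟨h5, h6⟩ := sub_eq_sh h4 (hy1.trans hz1.symm)
    rw [hy2, hz2, sub_self] at h6
    have h7 : y (0, 0, 1) * y (0, 1, 0) = z (0, 0, 1) * z (0, 1, 0) := by
      linear_combination h6
    have h8 : y (0, 0, 1) = z (0, 0, 1) ∧ y (0, 1, 0) = z (0, 1, 0) := by
      by_cases hy : y (0, 0, 1) = 0
      · by_cases hz : z (0, 0, 1) = 0
        · rw [dif_pos hy, dif_pos hz] at h3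
          exact ⟨hy.trans hz.symm, Sum.inl_injective h3⟩
        · rw [dif_pos hy, dif_neg hz] at h3
          exact absurd h3 (by simp)
      · by_cases hz : z (0, 0, 1) = 0
        · rw [dif_neg hy, dif_pos hz] at h3
          exact absurd h3 (by simp)
        · rw [dif_neg hy, dif_neg hz] at h3
          have h9 : y (0, 0, 1) = z (0, 0, 1) := congrArg Subtype.val (Sum.inr_injective h3)
          refine ⟨h9, ?_⟩
          rw [h9] at h7
          exact mul_left_cancel₀ hz h7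
    apply Subtype.ext
    funext x
    by_cases a : x = (0, 0, 0)
    · rw [a]; exact h5
    by_cases b : x = (0, 0, 1)
    · rw [b]; exact h8.1
    by_cases c : x = (0, 1, 0)
    · rw [c]; exact h8.2
    exact h4 x a b c
  have h1 := Nat.card_le_card_of_injective f hf
  refine h1.trans (le_of_eq ?_)
  have h2 : Nat.card {u : F // u ≠ 0} = Nat.card F - 1 := by
    rw [Nat.card_eq_fintype_card, Nat.card_eq_fintype_card, Fintype.card_subtype_compl, Fintype.card_subtype_eq]
  have hq : 2 ≤ Nat.card F := Finite.one_lt_card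
  rw [Nat.card_prod, Nat.card_fun, Nat.card_eq_fintype_card (α := Oth), card_oth, Nat.card_sum, h2]
  congr 1
  omega

theorem num_aux {q : ℕ} (hq : 2 ≤ q) : 4244832 * ((2 * q - 1) * (2 * q - 1)) < 3000000 * q ^ 4 := by
  obtain ⟨r, rfl⟩ : ∃ r, q = r + 2 := ⟨q - 2, by omega⟩
  have : 2 * (r + 2) - 1 = 2 * r + 3 := by omega
  rw [this]
  have e1 : 4244832 * ((2 * r + 3) * (2 * r + 3)) = 16979328 * r ^ 2 + 50937984 * r + 38203488 := by ring
  have e2 : 3000000 * (r + 2) ^ 4 = 3000000 * r ^ 4 + 24000000 * r ^ 3 + 72000000 * r ^ 2 + 96000000 * r + 48000000 := by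
    ring
  rw [e1, e2]
  linarith only [Nat.zero_le (r ^ 3), Nat.zero_le (r ^ 4), _root_.sq_nonneg (↑r : ℤ), _root_.Nat.cast_nonneg (α := ℤ) (r)]

theorem card_gt2 {F : Type u} [Field F] [Finite F] :
    Nat.card F ^ 24 * (2 * Nat.card F - 1) * (Nat.card F ^ 24 * (2 * Nat.card F - 1)) <
      Nat.card ↥(chevF4.group F) := by
  classical
  let _ : Fintype F := Fintype.ofFinite F
  have hq : 2 ≤ Nat.card F := Finite.one_lt_card
  rw [Cfsg.Agent.S1062.result (F := F) (q := Nat.card F) (Nat.card_eq_fintype_card).symm]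
  set q := Nat.card F with hqdef
  have e1 : 3 * q ^ 2 ≤ 4 * (q ^ 2 - 1) := by
    have : 4 ≤ q ^ 2 := by nlinarith
    omega
  have hp : ∀ k, 6 ≤ k → 100 * q ^ k ≤ 102 * (q ^ k - 1) := by
    intro k hk
    have h3 : 64 ≤ q ^ k := by
      calc 64 ≤ 2 ^ 6 := by norm_num
        _ ≤ 2 ^ k := Nat.pow_le_pow_right (by norm_num) hk
        _ ≤ q ^ k := Nat.pow_le_pow_left hq k
    omega
  have h6 := hp 6 le_rfl
  have h8 := hp 8 (by norm_num)
  have h12 := hp 12 (by norm_num)
  have key : (3 * q ^ 2) * (100 * q ^ 6) * (100 * q ^ 8) * (100 * q ^ 12) ≤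
      (4 * (q ^ 2 - 1)) * (102 * (q ^ 6 - 1)) * (102 * (q ^ 8 - 1)) * (102 * (q ^ 12 - 1)) :=
    Nat.mul_le_mul (Nat.mul_le_mul (Nat.mul_le_mul e1 h6) h8) h12
  set A := (q ^ 2 - 1) * (q ^ 6 - 1) * (q ^ 8 - 1) * (q ^ 12 - 1) with hA
  have key2 : 3000000 * q ^ 28 ≤ 4244832 * A := by
    calc 3000000 * q ^ 28 = (3 * q ^ 2) * (100 * q ^ 6) * (100 * q ^ 8) * (100 * q ^ 12) := by ring
      _ ≤ _ := key
      _ = 4244832 * A := by rw [hA]; ring
  have h5 := num_aux hq
  have h4 : q ^ 24 * ((2 * q - 1) * (2 * q - 1)) < A := by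
    have h7 : 4244832 * (q ^ 24 * ((2 * q - 1) * (2 * q - 1))) < 4244832 * A := by
      calc 4244832 * (q ^ 24 * ((2 * q - 1) * (2 * q - 1))) = q ^ 24 * (4244832 * ((2 * q - 1) * (2 * q - 1))) := by ring
        _ < q ^ 24 * (3000000 * q ^ 4) := Nat.mul_lt_mul_of_pos_left h5 (by positivity)
        _ = 3000000 * q ^ 28 := by ring
        _ ≤ _ := key2
    exact Nat.lt_of_mul_lt_mul_left h7
  calc q ^ 24 * (2 * q - 1) * (q ^ 24 * (2 * q - 1)) = q ^ 24 * (q ^ 24 * ((2 * q - 1) * (2 * q - 1))) := by ring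
    _ < q ^ 24 * A := Nat.mul_lt_mul_of_pos_left h4 (by positivity)
    _ = q ^ 24 * (q ^ 2 - 1) * (q ^ 6 - 1) * (q ^ 8 - 1) * (q ^ 12 - 1) := by rw [hA]; ring

/-- **(C2)** : any two vectors have a common nontrivial stabilizer -/
theorem common_stab {F : Type u} [Field F] [Finite F] (a b : I27 → F) :
    ∃ g : ↥(chevF4.group F), g ≠ 1 ∧ Jr F g a = a ∧ Jr F g b = b := by
  classical
  by_contra hcon
  push Not at hcon
  let f : ↥(chevF4.group F) → {y : I27 → F // tr1 y = tr1 a ∧ tr1 (sh y) = tr1 (sh a)} ×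
      {y : I27 → F // tr1 y = tr1 b ∧ tr1 (sh y) = tr1 (sh b)} := fun g =>
    (⟨Jr F g a, Jr_tr g a, by rw [Jr_sh, Jr_tr]⟩, ⟨Jr F g b, Jr_tr g b, by rw [Jr_sh, Jr_tr]⟩)
  have hf : Function.Injective f := by
    intro g g' h
    have h1 : Jr F g a = Jr F g' a := congrArg (fun z => (z.1 : I27 → F)) h
    have h3 : Jr F g b = Jr F g' b := congrArg (fun z => (z.2 : I27 → F)) h
    by_contra hne
    refine hcon (g'⁻¹ * g) (fun h0 => hne (inv_mul_eq_one.1 h0).symm) ?_ ?_
    · rw [Jr_mul, h1, Jr_inv_apply]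
    · rw [Jr_mul, h3, Jr_inv_apply]
  have h1 := Nat.card_le_card_of_injective f hf
  rw [Nat.card_prod] at h1
  have h3 := (h1.trans (Nat.mul_le_mul (card_le_sh _ _) (card_le_sh _ _)))
  exact absurd (card_gt2 (F := F)) (not_lt.2 h3)

end Cfsg.Agent.R2.F4P
end

-- part: R2/F4M/Cfg
section
set_option linter.all false
open scoped Cfsg.Agent.FastGrp

/-!
# S5931: the configuration (helper21)

* `Cfg p a b H φ` : `H` is a maximal subgroup of `F₄(p^b)`, `φ : PSL₂(p^a) →* F₄(p^b)` the embedding with image `F*(H)`,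
  `p^a ≥ 7`;
* `bound_f4` : the bound for `a` in terms of `b`;
* `of_core` : reduction of S5931 to `Cfg`.
-/

set_option autoImplicit false

namespace Cfsg.Agent.R2.F4M

open Cfsg Cfsg.Lie Module Matrix
open Cfsg.Agent.R2.H9.E6

universe u v

/-- **the configuration** -/
structure Cfg {F : Type u} [Field F] [Fintype F] {K : Type v} [Field K] [Fintype K] (p a b : ℕ)
    (H : Subgroup ↥(chevF4.group F)) (φ : ProjectiveSpecialLinearGroup (Fin 2) K →* ↥(chevF4.group F)) : Prop where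
  max : MaxSimp H φ
  prime : p.Prime
  ha : 1 ≤ a
  hb : 1 ≤ b
  charF : CharP F p
  charK : CharP K p
  cardF : Fintype.card F = p ^ b
  cardK : Fintype.card K = p ^ a
  seven : 7 ≤ Fintype.card K
  bound : a = 1 ∨ (p = 2 ∧ a = 3) ∨ ∃ d ∈ [2, 6, 8, 12], 2 * a ∣ b * d

theorem bound_f4 {F : Type u} [Field F] [Fintype F] {p b : ℕ} (hp : p.Prime) (hF : Fintype.card F = p ^ b)
    {K : Type v} [Field K] [Fintype K] {a : ℕ} (ha : 1 ≤ a) (hK : Fintype.card K = p ^ a)
    {φ : ProjectiveSpecialLinearGroup (Fin 2) K →* ↥(chevF4.group F)} (hφ : Function.Injective φ) :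
    a = 1 ∨ (p = 2 ∧ a = 3) ∨ ∃ d ∈ [2, 6, 8, 12], 2 * a ∣ b * d := by
  by_cases h1 : a = 1
  · exact Or.inl h1
  by_cases h3 : p = 2 ∧ a = 3
  · exact Or.inr (Or.inl h3)
  right; right
  obtain ⟨r, hr, hr2, hrp, hra, hrb, hrc⟩ := exists_prim p a hp ha h1 h3
  have h4 := (prime_dvd_psl hK hr hr2 hra).trans (Subgroup.card_dvd_of_injective φ hφ)
  have h5 := S1062.result (F := F) hF
  rw [h5] at h4
  have key : ∀ d, r ∣ (p ^ b) ^ d - 1 → 2 * a ∣ b * d := by
    intro d hd
    rw [← pow_mul] at hd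
    exact dvd_of_primitive hp.one_lt hr hrb hrc (by omega) hd
  have hq : ¬ r ∣ (p ^ b) ^ 24 := by
    intro h
    exact hrp ((Nat.prime_dvd_prime_iff_eq hr hp).1 (hr.dvd_of_dvd_pow (hr.dvd_of_dvd_pow h)))
  simp only [Nat.Prime.dvd_mul hr] at h4
  rcases h4 with (((h | h) | h) | h) | h
  · exact absurd h hq
  · exact ⟨2, by simp, key 2 h⟩
  · exact ⟨6, by simp, key 6 h⟩
  · exact ⟨8, by simp, key 8 h⟩
  · exact ⟨12, by simp, key 12 h⟩

/-- the order of `F₄(q)` -/
theorem card_f4_ge {F : Type u} [Field F] [Finite F] : Nat.card F ^ 52 ≤ 2 * Nat.card ↥(chevF4.group F) := by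
  have hfin := Fintype.ofFinite F
  have ho := S1062.result (F := F) Nat.card_eq_fintype_card.symm
  have hq : 2 ≤ Nat.card F := Finite.one_lt_card
  set q := Nat.card F with hqd
  set N := Nat.card ↥(chevF4.group F)
  have k2 := key_pow hq 2
  have k6 := key_pow hq 6
  have k8 := key_pow hq 8
  have k12 := key_pow hq 12
  have h2 : (2 ^ 2 - 1) * (2 ^ 6 - 1) * (2 ^ 8 - 1) * (2 ^ 12 - 1) * q ^ 52 ≤ 2 ^ 28 * N := by
    calc (2 ^ 2 - 1) * (2 ^ 6 - 1) * (2 ^ 8 - 1) * (2 ^ 12 - 1) * q ^ 52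
        = q ^ 24 * ((2 ^ 2 - 1) * q ^ 2) * ((2 ^ 6 - 1) * q ^ 6) * ((2 ^ 8 - 1) * q ^ 8) *
          ((2 ^ 12 - 1) * q ^ 12) := by ring
      _ ≤ q ^ 24 * (2 ^ 2 * (q ^ 2 - 1)) * (2 ^ 6 * (q ^ 6 - 1)) * (2 ^ 8 * (q ^ 8 - 1)) *
          (2 ^ 12 * (q ^ 12 - 1)) := by gcongr
      _ = 2 ^ 28 * (q ^ 24 * (q ^ 2 - 1) * (q ^ 6 - 1) * (q ^ 8 - 1) * (q ^ 12 - 1)) := by ring
      _ = _ := by rw [← ho]
  norm_num at h2
  omega

section

variable {F : Type u} [Field F] [Fintype F] {K : Type v} [Field K] [Fintype K] {p a b : ℕ}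
variable {H : Subgroup ↥(chevF4.group F)} {φ : ProjectiveSpecialLinearGroup (Fin 2) K →* ↥(chevF4.group F)}

theorem simple_f4 (F : Type u) [Field F] : IsSimpleGroup ↥(chevF4.group F) := (S1054.result chevF4 (by simp)).1

theorem Cfg.le (h : Cfg p a b H φ) : a ≤ 6 * b := by
  have hb := h.hb
  rcases h.bound with h1 | ⟨-, h1⟩ | ⟨d, hd, h1⟩
  · omega
  · omega
  · have h2 : 2 * a ≤ b * d := Nat.le_of_dvd (Nat.mul_pos (by omega) (by
      fin_cases hd <;> norm_num)) h1
    have h3 : d ≤ 12 := by fin_cases hd <;> norm_num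
    nlinarith

/-- the order of `H` -/
theorem Cfg.card_le (h : Cfg p a b H φ) : Nat.card ↥H ≤ a * (p ^ a) ^ 3 := by
  have : Fact p.Prime := ⟨h.prime⟩
  exact h.max.card_le.trans (card_aut_le h.ha h.cardK (by have := h.seven; omega))

/-- the order of `H` in terms of `q` -/
theorem Cfg.card_le' (h : Cfg p a b H φ) : Nat.card ↥H ≤ 3 * (p ^ b) ^ 19 := by
  have : Fact p.Prime := ⟨h.prime⟩
  have h1 := card_aut_le' (K := K) h.ha h.hb h.cardK (by have := h.seven; omega) h.le
  have h2 := h.max.card_le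
  have h3 : 2 * Nat.card (MulAut (ProjectiveSpecialLinearGroup (Fin 2) K)) ≤ 6 * (p ^ b) ^ 19 := h1
  omega

theorem exists_cfg (hp : p.Prime) (ha : 1 ≤ a) (hb : 1 ≤ b) (hF : Fintype.card F = p ^ b) (hK : Fintype.card K = p ^ a)
    (h7 : 7 ≤ Fintype.card K) (hH : IsCoatom H)
    (e : Nonempty (↥(generalizedFittingSubgroup ↥H) ≃* ProjectiveSpecialLinearGroup (Fin 2) K)) :
    ∃ φ : ProjectiveSpecialLinearGroup (Fin 2) K →* ↥(chevF4.group F), Cfg p a b H φ := by
  have hs := simple_f4 F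
  have hsA := psl_simple (K := K) (by omega)
  obtain ⟨φ, hM⟩ := exists_maxSimp hH (psl_noncomm (by omega)) e
  exact ⟨φ, hM, hp, ha, hb, charP_of_card hp hF, charP_of_card hp hK, hF, hK, h7, bound_f4 hp hF ha hK hM.inj⟩

/-- **reduction of S5931** -/
theorem of_core [Fact p.Prime] (ha : 1 ≤ a) (hb : 1 ≤ b) (hF : Fintype.card F = p ^ b) (hK : Fintype.card K = p ^ a)
    (hH : IsCoatom H)
    (hL : Nonempty (↥(generalizedFittingSubgroup ↥H) ≃* ProjectiveSpecialLinearGroup (Fin 2) K))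
    (core : ∀ φ : ProjectiveSpecialLinearGroup (Fin 2) K →* ↥(chevF4.group F), Cfg p a b H φ → 13 ≤ p ∧ a = b) :
    13 ≤ p ∧ a = b := by
  have hp : p.Prime := Fact.out
  obtain ⟨e⟩ := hL
  have h4 := four_le_of_genFitting e
  by_cases h7 : 7 ≤ Fintype.card K
  · obtain ⟨φ, hφ⟩ := exists_cfg hp ha hb hF hK h7 hH ⟨e⟩
    exact core φ hφ
  · exfalso
    have hCF : CharP F p := charP_of_card hp hF
    have hpd : p ∣ Fintype.card K := by rw [hK]; exact dvd_pow_self p (by omega)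
    have h6 : Fintype.card K ≠ 6 := by
      intro h6
      rw [h6] at hK hpd
      have h2 : 2 ∣ p ^ a := by rw [← hK]; norm_num
      have h3 : 3 ∣ p ^ a := by rw [← hK]; norm_num
      have h2' := (Nat.prime_dvd_prime_iff_eq Nat.prime_two hp).1 (Nat.prime_two.dvd_of_dvd_pow h2)
      have h3' := (Nat.prime_dvd_prime_iff_eq Nat.prime_three hp).1 (Nat.prime_three.dvd_of_dvd_pow h3)
      omega
    have h : Fintype.card K = 4 ∨ Fintype.card K = 5 := by omega
    rcases h with h | h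
    · obtain ⟨e'⟩ := S0252.result h
      have := (H952.F4.Final.final p H hH 5 le_rfl ⟨e.trans e'⟩).1
      omega
    · obtain ⟨e'⟩ := S0253.result h
      have := (H952.F4.Final.final p H hH 5 le_rfl ⟨e.trans e'⟩).1
      omega

end

end Cfsg.Agent.R2.F4M
end

-- part: R2/F4M/Kc
section
prune_inst 0x21006004028002000000058271001c5696000492000800008040014404c0ec6200022820b83001120000080460390048110000200208000002000000011900800800000091080108420088000000000000000000000000000000000000000004000000000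
set_option linter.all false
open scoped Cfsg.Agent.FastGrp

-- part: R2/F4M/Irr
section
/-!
# S5931: the `F₄(F)`-stable subspaces of `J`, every field (helper21)

`irr` : a stable subspace is contained in `F·1` or contains the space of trace zero vectors.
-/

set_option autoImplicit false

namespace Cfsg.Agent.R2.F4M.Irr

open Cfsg Cfsg.Lie Module
open Cfsg.Agent.ChevalleyStructure Cfsg.Agent.ChevalleyStructure.Elts
open Cfsg.Agent.ChevalleyStructure.E6Min.Tables Cfsg.Agent.ChevalleyStructure.E6Min.Basic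
open Cfsg.Agent.H952.F4 Cfsg.Agent.H952.F4.Jord
open Cfsg.Agent.H952.F4.FixV (yM_single yM_pair zw eq_smul_u0 W0 mem_W0 tr1_eq)
open scoped Matrix

universe u

/-- the coordinate `x` of `Nm a *ᵥ e_m` -/
def cM (a m x : ℕ) : ℤ := if srN a x = m then sgN a x else 0

/-- the coordinate `x` of `(yM r 1 - 1) *ᵥ e_m` -/
def stp (r m x : ℕ) : ℤ :=
  match dat.getD r [] with
  | [(a, e)] => e * cM a m x
  | [(a, e), (b, f)] => e * cM a m x + f * cM b m x + e * f * (sgN a x * cM b m (srN a x))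
  | _ => 0

/-- the shape of `dat` -/
def shp (r : ℕ) : Bool :=
  match dat.getD r [] with
  | [(a, _)] => Nat.blt a 72
  | [(a, _), (b, _)] => Nat.blt a 72 && Nat.blt b 72
  | _ => false

theorem shp_all : allLt 48 shp = true := by decide +kernel

/-- isolation of a coordinate by two long roots -/
def iso : List (ℕ × ℕ × ℕ) :=
  [(0, 0, 0), (2, 43, 3), (0, 17, 6), (4, 45, 1), (0, 0, 0), (0, 22, 7), (30, 47, 2), (25, 47, 5), (0, 0, 0),
   (15, 43, 18), (1, 26, 21), (0, 25, 24), (15, 45, 19), (1, 31, 22), (0, 30, 25), (41, 47, 20), (6, 47, 23),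
   (5, 46, 26), (4, 32, 9), (2, 32, 12), (0, 6, 15), (21, 46, 10), (16, 46, 13), (0, 41, 16), (22, 47, 11),
   (17, 47, 14), (1, 42, 17)]

def chkI (c : ℕ) : Bool :=
  match dat.getD (iso.getD c (0, 0, 0)).1 [], dat.getD (iso.getD c (0, 0, 0)).2.1 [] with
  | [(a, e)], [(b, f)] => Nat.blt (iso.getD c (0, 0, 0)).1 48 && Nat.blt (iso.getD c (0, 0, 0)).2.1 48 &&
      (e == 1 || e == -1) && (f == 1 || f == -1) && Nat.blt (iso.getD c (0, 0, 0)).2.2 27 &&
      ! zw (iso.getD c (0, 0, 0)).2.2 && Nat.blt a 72 &&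
      (srN b (srN a (iso.getD c (0, 0, 0)).2.2) == c) &&
      (sgN a (iso.getD c (0, 0, 0)).2.2 * sgN b (srN a (iso.getD c (0, 0, 0)).2.2) == 1 ||
        sgN a (iso.getD c (0, 0, 0)).2.2 * sgN b (srN a (iso.getD c (0, 0, 0)).2.2) == -1) &&
      allLt 27 fun x => (x == (iso.getD c (0, 0, 0)).2.2) || (sgN a x * sgN b (srN a x) == 0)
  | _, _ => false

theorem chkI_all : allLt 27 (fun c => zw c || chkI c) = true := by decide +kernel

/-- `(yM r 1 - 1) e_m = ± e_n` -/
def chkS (r m n : ℕ) : Bool :=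
  Nat.blt r 48 && Nat.blt m 27 && Nat.blt n 27 && (stp r m n == 1 || stp r m n == -1) &&
    allLt 27 fun x => (x == n) || (stp r m x == 0)

def up : List (ℕ × ℕ × ℕ) :=
  [(0, 0, 0), (0, 1, 0), (39, 2, 0), (2, 15, 43), (0, 0, 0), (13, 9, 43), (2, 15, 33), (7, 7, 0), (0, 0, 0),
   (13, 9, 0), (35, 10, 0), (36, 11, 0), (2, 15, 39), (9, 25, 43), (10, 22, 43), (2, 15, 0), (16, 16, 0), (17, 17, 0),
   (7, 7, 43), (33, 19, 0), (43, 20, 0), (2, 15, 36), (10, 22, 0), (26, 23, 0), (2, 15, 35), (9, 25, 0), (25, 26, 0)]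

def down : List (ℕ × ℕ × ℕ) :=
  [(0, 0, 0), (0, 1, 0), (8, 1, 0), (4, 15, 45), (0, 0, 0), (27, 2, 8), (27, 7, 40), (40, 1, 0), (0, 0, 0),
   (34, 1, 0), (12, 1, 0), (11, 1, 0), (45, 2, 8), (31, 2, 8), (30, 2, 8), (45, 1, 0), (31, 1, 0), (30, 1, 0),
   (4, 7, 40), (14, 1, 0), (4, 1, 0), (21, 7, 40), (37, 1, 0), (21, 1, 0), (22, 7, 40), (38, 1, 0), (22, 1, 0)]

def chkUp (c : ℕ) : Bool :=
  (c == 1) || (chkS (up.getD c (0, 0, 0)).1 1 (up.getD c (0, 0, 0)).2.1 &&
    ((up.getD c (0, 0, 0)).2.1 == c || chkS (up.getD c (0, 0, 0)).2.2 (up.getD c (0, 0, 0)).2.1 c))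

def chkDown (c : ℕ) : Bool :=
  (c == 1) || (chkS (down.getD c (0, 0, 0)).1 c (down.getD c (0, 0, 0)).2.1 &&
    ((down.getD c (0, 0, 0)).2.1 == 1 || chkS (down.getD c (0, 0, 0)).2.2 (down.getD c (0, 0, 0)).2.1 1))

theorem conn_all : allLt 27 (fun c => zw c || (chkUp c && chkDown c)) = true := by decide +kernel

variable {F : Type u} [Field F]

theorem single_dec {m : ℕ} (hm : m < 27) (x : I27) :
    (Pi.single (dec m) (1 : F) : I27 → F) x = ((if code x = m then (1 : ℤ) else 0 : ℤ) : F) := by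
  by_cases h : code x = m
  · rw [if_pos h, ← h, dec_code, Pi.single_eq_same, Int.cast_one]
  · have h1 : x ≠ dec m := by
      rintro rfl
      exact h (code_dec hm)
    rw [if_neg h, Pi.single_eq_of_ne h1, Int.cast_zero]

theorem stp_spec {r m : ℕ} (hr : r < 48) (hm : m < 27) (x : I27) :
    (yM r (1 : F) *ᵥ (Pi.single (dec m) (1 : F) : I27 → F)) x - (Pi.single (dec m) (1 : F) : I27 → F) x =
      ((stp r m (code x) : ℤ) : F) := by
  have h := allLt_spec shp_all r hr
  unfold shp at h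
  unfold stp
  split at h
  · rename_i a e he
    have ha : a < 72 := by simpa [Nat.blt_eq] using h
    rw [yM_single he, zM_mulVec, single_dec hm, single_dec hm, code_sr ha]
    unfold cM sg
    split_ifs <;> push_cast <;> ring
  · rename_i a e b f he
    have hab : a < 72 ∧ b < 72 := by simpa [Nat.blt_eq] using h
    rw [yM_pair he, ← Matrix.mulVec_mulVec, zM_mulVec, zM_mulVec, zM_mulVec, single_dec hm, single_dec hm,
      single_dec hm, single_dec hm, code_sr hab.1, code_sr hab.2, code_sr hab.2, code_sr hab.1]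
    unfold cM sg
    rw [code_sr hab.1]
    push_cast
    split_ifs <;> ring
  · exact absurd h (by decide)

section

variable {W : Submodule F (I27 → F)} (hW : ∀ g, ∀ w ∈ W, Jr F g w ∈ W)
include hW

theorem yM_mem {r : ℕ} (hr : r < 48) {w : I27 → F} (hw : w ∈ W) : yM r (1 : F) *ᵥ w ∈ W := by
  rw [← Jr_xg ⟨r, hr⟩ 1 w]
  exact hW _ _ hw

theorem step {r m n : ℕ} (h : chkS r m n = true) (hm : (Pi.single (dec m) 1 : I27 → F) ∈ W) :
    (Pi.single (dec n) 1 : I27 → F) ∈ W := by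
  unfold chkS at h
  simp only [Bool.and_eq_true, Bool.or_eq_true, Nat.blt_eq, beq_iff_eq] at h
  obtain ⟨⟨⟨⟨hr, hm27⟩, hn⟩, h1⟩, h2⟩ := h
  have h3 := W.sub_mem (yM_mem hW hr hm) hm
  have h4 : (yM r (1 : F) *ᵥ (Pi.single (dec m) 1 : I27 → F)) - (Pi.single (dec m) 1 : I27 → F) =
      ((stp r m n : ℤ) : F) • (Pi.single (dec n) 1 : I27 → F) := by
    funext x
    rw [Pi.sub_apply, stp_spec hr hm27, Pi.smul_apply, single_dec hn, smul_eq_mul]
    by_cases hx : code x = n
    · rw [if_pos hx, hx, Int.cast_one, mul_one]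
    · have h5 := allLt_spec h2 _ (code_lt x)
      simp only [Bool.or_eq_true, beq_iff_eq] at h5
      rw [if_neg hx, h5.resolve_left hx, Int.cast_zero, mul_zero]
  rw [h4] at h3
  rcases h1 with h1 | h1
  · rw [h1, Int.cast_one, one_smul] at h3
    exact h3
  · rw [h1, Int.cast_neg, Int.cast_one, neg_smul, one_smul] at h3
    simpa using W.neg_mem h3

theorem single_mem {c : ℕ} (hc : c < 27) (hz : zw c = false) (h : (Pi.single (dec 1) 1 : I27 → F) ∈ W) :
    (Pi.single (dec c) 1 : I27 → F) ∈ W := by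
  have h1 := allLt_spec conn_all c hc
  simp only [hz, Bool.false_or, Bool.and_eq_true, chkUp, Bool.or_eq_true, beq_iff_eq] at h1
  obtain ⟨h1 | ⟨h1, h2 | h2⟩, -⟩ := h1
  · rw [h1]; exact h
  · have := step hW h1 h
    rwa [h2] at this
  · exact step hW h2 (step hW h1 h)

theorem one_mem {c : ℕ} (hc : c < 27) (hz : zw c = false) (h : (Pi.single (dec c) 1 : I27 → F) ∈ W) :
    (Pi.single (dec 1) 1 : I27 → F) ∈ W := by
  have h1 := allLt_spec conn_all c hc
  simp only [hz, Bool.false_or, Bool.and_eq_true, chkDown, Bool.or_eq_true, beq_iff_eq] at h1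
  obtain ⟨-, h1 | ⟨h1, h2 | h2⟩⟩ := h1
  · rw [← h1]; exact h
  · have := step hW h1 h
    rwa [h2] at this
  · exact step hW h2 (step hW h1 h)

theorem Nm_mem {r a : ℕ} {e : ℤ} (hr : r < 48) (he : dat.getD r [] = [(a, e)]) (he1 : e = 1 ∨ e = -1) {w : I27 → F}
    (hw : w ∈ W) : Nm F a *ᵥ w ∈ W := by
  have h := W.sub_mem (yM_mem hW hr hw) hw
  rw [yM_single he, zM_def, Matrix.add_mulVec, Matrix.one_mulVec, add_sub_cancel_left, Matrix.smul_mulVec] at h
  rcases he1 with rfl | rfl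
  · simpa using h
  · simpa using W.neg_mem h

/-- isolation -/
theorem isolate {w : I27 → F} (hw : w ∈ W) {j : I27} (hj : zw (code j) = false) (hwj : w j ≠ 0) :
    (Pi.single (dec 1) 1 : I27 → F) ∈ W := by
  have h1 := allLt_spec chkI_all _ (code_lt j)
  simp only [hj, Bool.false_or] at h1
  unfold chkI at h1
  split at h1
  · rename_i a e b f he hf
    simp only [Bool.and_eq_true, Bool.or_eq_true, Nat.blt_eq, beq_iff_eq, Bool.not_eq_true'] at h1
    obtain ⟨⟨⟨⟨⟨⟨⟨⟨⟨hr, hq⟩, he1⟩, hf1⟩, hx⟩, hzx⟩, ha⟩, hc⟩, hs⟩, hall⟩ := h1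
    set x0 := (iso.getD (code j) (0, 0, 0)).2.2 with hx0
    have h2 := Nm_mem hW hr he he1 (Nm_mem hW hq hf hf1 hw)
    have h3 : Nm F a *ᵥ (Nm F b *ᵥ w) =
        (((sgN a x0 * sgN b (srN a x0) : ℤ) : F) * w j) • (Pi.single (dec x0) 1 : I27 → F) := by
      funext x
      rw [Nm_mulVec, Nm_mulVec, sg_sr ha, sr_sr ha, Pi.smul_apply, single_dec hx, smul_eq_mul]
      by_cases hxx : code x = x0
      · rw [if_pos hxx]
        unfold sg
        rw [hxx, hc, dec_code]
        push_cast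
        ring
      · have h5 := allLt_spec hall _ (code_lt x)
        simp only [Bool.or_eq_true, beq_iff_eq] at h5
        have h6 := h5.resolve_left hxx
        rw [if_neg hxx]
        unfold sg
        have h7 : ((sgN a (code x) : ℤ) : F) * ((sgN b (srN a (code x)) : ℤ) : F) = 0 := by
          rw [← Int.cast_mul, h6, Int.cast_zero]
        rw [Int.cast_zero, mul_zero, ← mul_assoc, h7, zero_mul]
    rw [h3] at h2
    have h4 : (((sgN a x0 * sgN b (srN a x0) : ℤ) : F) * w j) ≠ 0 := by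
      rcases hs with hs | hs <;> rw [hs] <;> simpa using hwj
    have h5 := (W.smul_mem_iff h4).1 h2
    exact one_mem hW hx hzx h5
  · exact absurd h1 (by decide)

end

theorem diag_one : stp 3 20 0 = -1 ∧ stp 3 20 4 = 1 ∧ stp 3 20 15 = -1 ∧
    allLt 27 (fun x => (x == 0) || (x == 4) || (x == 15) || (stp 3 20 x == 0)) = true := by decide +kernel

theorem diag_two : stp 7 2 0 = -1 ∧ stp 7 2 8 = 1 ∧ stp 7 2 6 = -1 ∧
    allLt 27 (fun x => (x == 0) || (x == 8) || (x == 6) || (stp 7 2 x == 0)) = true := by decide +kernel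

/-- **the stable subspaces of `J`** -/
theorem irr {W : Submodule F (I27 → F)} (hW : ∀ g, ∀ w ∈ W, Jr F g w ∈ W) :
    W ≤ Submodule.span F {u0 F} ∨ W0 F ≤ W := by
  rw [or_iff_not_imp_left]
  intro hnot
  have hex : ∃ w ∈ W, ∃ j : I27, zw (code j) = false ∧ w j ≠ 0 := by
    obtain ⟨w, hw, hw1⟩ := Set.not_subset.1 hnot
    by_contra hcon
    push Not at hcon
    refine hw1 ?_
    have h1 := eq_smul_u0 w fun r hr j hj => by
      rw [hcon _ (yM_mem hW hr hw) j hj, hcon w hw j hj]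
    rw [h1]
    exact Submodule.smul_mem _ _ (Submodule.mem_span_singleton_self _)
  obtain ⟨w, hw, j, hj, hwj⟩ := hex
  have h1 := isolate hW hw hj hwj
  have hs : ∀ j : I27, zw (code j) = false → (Pi.single j 1 : I27 → F) ∈ W := by
    intro j hj
    have := single_mem hW (code_lt j) hj h1
    rwa [dec_code] at this
  have hd : ∀ (r m c n : ℕ), r < 48 → m < 27 → zw m = false → c < 27 → c ≠ 0 → n < 27 → n ≠ 0 → n ≠ c → zw n = false →
      (stp r m 0 = -1 ∧ stp r m c = 1 ∧ stp r m n = -1 ∧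
        allLt 27 (fun x => (x == 0) || (x == c) || (x == n) || (stp r m x == 0)) = true) →
      (Pi.single (dec 0) 1 : I27 → F) - Pi.single (dec c) 1 ∈ W := by
    intro r m c n hr hm hmz hc hc0 hn hn0 hnc hz ⟨k1, k2, k3, k4⟩
    have h3 := hs (dec m) (by rw [code_dec hm]; exact hmz)
    have h4 := W.sub_mem h3 (yM_mem hW hr h3)
    have h5 : (Pi.single (dec m) 1 : I27 → F) - (yM r (1 : F) *ᵥ (Pi.single (dec m) 1 : I27 → F)) =
        (Pi.single (dec 0) 1 : I27 → F) - Pi.single (dec c) 1 + Pi.single (dec n) 1 := by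
      funext x
      have h6 := stp_spec (F := F) hr hm x
      simp only [Pi.sub_apply, Pi.add_apply]
      rw [← neg_sub, h6, single_dec (m := 0) (by norm_num), single_dec hc, single_dec hn]
      have h7 := allLt_spec k4 _ (code_lt x)
      simp only [Bool.or_eq_true, beq_iff_eq] at h7
      rcases h7 with ((h7 | h7) | h7) | h7
      · rw [h7, k1, if_pos rfl, if_neg (Ne.symm hc0), if_neg (Ne.symm hn0)]
        push_cast
        ring
      · rw [h7, k2, if_neg hc0, if_pos rfl, if_neg (Ne.symm hnc)]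
        push_cast
        ring
      · rw [h7, k3, if_neg hn0, if_neg hnc, if_pos rfl]
        push_cast
        ring
      · have e1 : code x ≠ 0 := fun e => by rw [e, k1] at h7; exact absurd h7 (by decide)
        have e2 : code x ≠ c := fun e => by rw [e, k2] at h7; exact absurd h7 (by decide)
        have e3 : code x ≠ n := fun e => by rw [e, k3] at h7; exact absurd h7 (by decide)
        rw [h7, if_neg e1, if_neg e2, if_neg e3]
        push_cast
        ring
    rw [h5] at h4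
    have h8 := W.sub_mem h4 (hs (dec n) (by rw [code_dec hn]; exact hz))
    rwa [add_sub_cancel_right] at h8
  have hd1 := hd 3 20 4 15 (by norm_num) (by norm_num) rfl (by norm_num) (by norm_num) (by norm_num) (by norm_num)
    (by norm_num) rfl diag_one
  have hd2 := hd 7 2 8 6 (by norm_num) (by norm_num) rfl (by norm_num) (by norm_num) (by norm_num) (by norm_num)
    (by norm_num) rfl diag_two
  have e0 : dec 0 = (0, 0, 0) := by decide
  have e4 : dec 4 = (0, 1, 1) := by decide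
  have e8 : dec 8 = (0, 2, 2) := by decide
  rw [e0, e4] at hd1
  rw [e0, e8] at hd2
  intro v hv
  rw [mem_W0, tr1_eq] at hv
  have h9 : v = (∑ j ∈ Finset.univ.filter (fun j : I27 => zw (code j) = false), v j • (Pi.single j 1 : I27 → F)) -
      v (0, 1, 1) • ((Pi.single (0, 0, 0) 1 : I27 → F) - Pi.single (0, 1, 1) 1) -
      v (0, 2, 2) • ((Pi.single (0, 0, 0) 1 : I27 → F) - Pi.single (0, 2, 2) 1) := by
    have h10 : ∀ x : I27, (∑ j ∈ Finset.univ.filter (fun j : I27 => zw (code j) = false),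
        v j • (Pi.single j 1 : I27 → F)) x = if zw (code x) = false then v x else 0 := by
      intro x
      rw [Finset.sum_apply]
      by_cases hx : zw (code x) = false
      · rw [if_pos hx, Finset.sum_eq_single_of_mem x (Finset.mem_filter.2 ⟨Finset.mem_univ _, hx⟩)]
        · simp
        · intro y _ hy
          rw [Pi.smul_apply, Pi.single_eq_of_ne (Ne.symm hy), smul_zero]
      · rw [if_neg hx]
        refine Finset.sum_eq_zero fun y hy => ?_
        have hy2 := (Finset.mem_filter.1 hy).2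
        have : x ≠ y := by rintro rfl; exact hx hy2
        rw [Pi.smul_apply, Pi.single_eq_of_ne this, smul_zero]
    funext x
    simp only [Pi.sub_apply, Pi.smul_apply, smul_eq_mul]
    rw [h10 x]
    by_cases hx : zw (code x) = true
    · have hx2 : x = (0, 0, 0) ∨ x = (0, 1, 1) ∨ x = (0, 2, 2) := by
        clear h10 hd hs h1 hnot
        revert hx
        revert x
        decide
      rw [if_neg (by rw [hx]; decide)]
      have n1 : ((0, 0, 0) : I27) ≠ (0, 1, 1) := by decide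
      have n2 : ((0, 0, 0) : I27) ≠ (0, 2, 2) := by decide
      have n3 : ((0, 1, 1) : I27) ≠ (0, 2, 2) := by decide
      rcases hx2 with rfl | rfl | rfl
      · rw [Pi.single_eq_same, Pi.single_eq_of_ne n1, Pi.single_eq_of_ne n2]
        linear_combination hv
      · rw [Pi.single_eq_same, Pi.single_eq_of_ne n1.symm, Pi.single_eq_of_ne n3]
        ring
      · rw [Pi.single_eq_same, Pi.single_eq_of_ne n2.symm, Pi.single_eq_of_ne n3.symm]
        ring
    · rw [Bool.not_eq_true] at hx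
      have n1 : x ≠ (0, 0, 0) := by rintro rfl; exact absurd hx (by decide)
      have n2 : x ≠ (0, 1, 1) := by rintro rfl; exact absurd hx (by decide)
      have n3 : x ≠ (0, 2, 2) := by rintro rfl; exact absurd hx (by decide)
      rw [if_pos hx, Pi.single_eq_of_ne n1, Pi.single_eq_of_ne n2, Pi.single_eq_of_ne n3]
      ring
  rw [h9]
  refine W.sub_mem (W.sub_mem (W.sum_mem fun j hj => W.smul_mem _ (hs j (Finset.mem_filter.1 hj).2)) ?_) ?_
  · exact W.smul_mem _ hd1
  · exact W.smul_mem _ hd2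

end Cfsg.Agent.R2.F4M.Irr
end

-- part: R2/F4M/Kc
section
/-!
# S5931: the consequences of the maximality of `H` for the subspaces of `J` (helper21)

* `Hst H U` : `U` is stable under `H`;  `Pr U` : `U` is neither contained in `F·1` nor contains `J₀`;
* `Cfg.gp` : an element of `G` which preserves a stable `U` with `Pr U` belongs to `H`;
* `Cfg.kc` : if `L` acts non-trivially on `U`, the pointwise stabilizer of `U` in `G` is trivial;
* `Cfg.kc_p` : no nontrivial `p`-subgroup of `H` is normalized by `L`;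
* `Cfg.count` : counting; `Cfg.fv` : no stable 2-dimensional subspace contains the unit.
-/

set_option autoImplicit false

namespace Cfsg.Agent.R2.F4M

open Cfsg Cfsg.Lie Module Matrix
open Cfsg.Agent.ChevalleyStructure.E6Min.Basic
open Cfsg.Agent.H952.F4 Cfsg.Agent.H952.F4.Jord
open Cfsg.Agent.H952.F4.FixV (W0 mem_W0 finrank_W0 u0_ne_zero)
open Cfsg.Agent.R2.H9.E6

universe u v w

/-- counting by the fibres of a map -/
theorem card_le_of_fiber {G : Type u} [Group G] [Finite G] (H : Subgroup G) {α : Type v} (o : G → α) (S : Set α)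
    [Finite S] (hS : ∀ g, o g ∈ S) (hH : ∀ g g', o g = o g' → g⁻¹ * g' ∈ H) :
    Nat.card G ≤ Nat.card ↥H * Nat.card S := by
  classical
  have hex : ∀ s : Set.range o, ∃ g, o g = s := fun s => s.2
  choose r hr using hex
  have h1 : Function.Injective (fun g : G => ((⟨(r ⟨o g, g, rfl⟩)⁻¹ * g, hH _ _ (hr ⟨o g, g, rfl⟩)⟩ : ↥H),
      (⟨o g, hS g⟩ : S))) := by
    intro g g' hgg
    have h2 : o g = o g' := congrArg Subtype.val (congrArg Prod.snd hgg)
    have h3 : (r ⟨o g, g, rfl⟩)⁻¹ * g = (r ⟨o g', g', rfl⟩)⁻¹ * g' := congrArg Subtype.val (congrArg Prod.fst hgg)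
    have h4 : (⟨o g, g, rfl⟩ : Set.range o) = ⟨o g', g', rfl⟩ := Subtype.ext h2
    rw [h4] at h3
    exact mul_left_cancel h3
  have h5 := Nat.card_le_card_of_injective _ h1
  rwa [Nat.card_prod] at h5

variable {F : Type u} [Field F]

/-- stable subspaces -/
def Hst (H : Subgroup ↥(chevF4.group F)) (U : Submodule F (I27 → F)) : Prop := ∀ h ∈ H, ∀ x ∈ U, Jr F h x ∈ U

/-- `U` is neither contained in `F·1` nor contains `J₀` -/
def Pr (U : Submodule F (I27 → F)) : Prop := ¬ U ≤ Submodule.span F {u0 F} ∧ ¬ W0 F ≤ U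

theorem pr_of_finrank {U : Submodule F (I27 → F)} (h2 : 2 ≤ finrank F ↥U) (h26 : finrank F ↥U < 26) : Pr U := by
  refine ⟨fun h => ?_, fun h => ?_⟩
  · have h3 := Submodule.finrank_mono h
    have h4 := finrank_span_le_card (R := F) ({u0 F} : Set (I27 → F))
    rw [Set.toFinset_singleton, Finset.card_singleton] at h4
    omega
  · have h3 := Submodule.finrank_mono h
    rw [finrank_W0] at h3
    omega

/-- the stabilizer -/
noncomputable def StU (U : Submodule F (I27 → F)) : Subgroup ↥(chevF4.group F) where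
  carrier := {g | ∀ x, Jr F g x ∈ U ↔ x ∈ U}
  mul_mem' := by
    intro g h hg hh x
    rw [Jr_mul]
    exact (hg _).trans (hh x)
  one_mem' := by
    intro x
    rw [Jr_one]
  inv_mem' := by
    intro g hg x
    rw [← hg, Jr_apply_inv]

/-- the pointwise stabilizer -/
noncomputable def FxU (U : Submodule F (I27 → F)) : Subgroup ↥(chevF4.group F) where
  carrier := {g | ∀ x ∈ U, Jr F g x = x}
  mul_mem' := by
    intro g h hg hh x hx
    rw [Jr_mul, hh x hx, hg x hx]
  one_mem' := by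
    intro x _
    exact Jr_one x
  inv_mem' := by
    intro g hg x hx
    have h1 := Jr_inv_apply g x
    rwa [hg x hx] at h1

theorem mem_StU_of {U : Submodule F (I27 → F)} {g : ↥(chevF4.group F)} (hg : ∀ x ∈ U, Jr F g x ∈ U) : g ∈ StU U := by
  have h1 : U.map (Jr F g) = U := by
    refine Submodule.eq_of_le_of_finrank_eq ?_ ?_
    · rintro _ ⟨x, hx, rfl⟩
      exact hg x hx
    · exact (Submodule.equivMapOfInjective (Jr F g) (Jr_inj g) U).symm.finrank_eq
  intro x
  refine ⟨fun hx => ?_, hg x⟩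
  rw [← h1] at hx
  obtain ⟨y, hy, hxy⟩ := hx
  rw [← Jr_inj g hxy]
  exact hy

theorem FxU_le_StU (U : Submodule F (I27 → F)) : FxU U ≤ StU U := by
  intro g hg
  refine mem_StU_of fun x hx => ?_
  rw [hg x hx]
  exact hx

theorem FxU_normal {U : Submodule F (I27 → F)} {g h : ↥(chevF4.group F)} (hg : g ∈ StU U) (hh : h ∈ FxU U) :
    g * h * g⁻¹ ∈ FxU U := by
  intro x hx
  have h1 : Jr F g⁻¹ x ∈ U := (inv_mem hg x).2 hx
  rw [Jr_mul, Jr_mul, hh _ h1, Jr_apply_inv]

theorem Hst.le_StU {H : Subgroup ↥(chevF4.group F)} {U : Submodule F (I27 → F)} (hU : Hst H U) : H ≤ StU U :=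
  fun h hh => mem_StU_of (hU h hh)

section cfg

variable [Fintype F] {K : Type v} [Field K] [Fintype K] {p a b : ℕ}
variable {H : Subgroup ↥(chevF4.group F)} {φ : ProjectiveSpecialLinearGroup (Fin 2) K →* ↥(chevF4.group F)}

theorem Cfg.mem (h : Cfg p a b H φ) (s : ProjectiveSpecialLinearGroup (Fin 2) K) : φ s ∈ H := h.max.le ⟨s, rfl⟩

theorem Cfg.simple (h : Cfg p a b H φ) : IsSimpleGroup (ProjectiveSpecialLinearGroup (Fin 2) K) :=
  psl_simple (by have := h.seven; omega)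

theorem Cfg.noncomm (h : Cfg p a b H φ) : ∃ s t : ProjectiveSpecialLinearGroup (Fin 2) K, s * t ≠ t * s :=
  psl_noncomm (by have := h.seven; omega)

/-- **stabilizer of a stable subspace** -/
theorem Cfg.StU_eq (h : Cfg p a b H φ) {U : Submodule F (I27 → F)} (hU : Hst H U) (hp : Pr U) : StU U = H := by
  rcases h.max.coatom.le_iff.1 hU.le_StU with h1 | h1
  · exfalso
    have h2 : ∀ g, ∀ w ∈ U, Jr F g w ∈ U := by
      intro g w hw
      have h3 : g ∈ StU U := by rw [h1]; trivial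
      exact (h3 w).2 hw
    rcases Irr.irr h2 with h3 | h3
    · exact hp.1 h3
    · exact hp.2 h3
  · exact h1

/-- **GP** -/
theorem Cfg.gp (h : Cfg p a b H φ) {U : Submodule F (I27 → F)} (hU : Hst H U) (hp : Pr U) {g : ↥(chevF4.group F)}
    (hg : ∀ x ∈ U, Jr F g x ∈ U) : g ∈ H := by
  rw [← h.StU_eq hU hp]
  exact mem_StU_of hg

theorem Cfg.FxU_le (h : Cfg p a b H φ) {U : Submodule F (I27 → F)} (hU : Hst H U) (hp : Pr U) : FxU U ≤ H := by
  rw [← h.StU_eq hU hp]
  exact FxU_le_StU U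

theorem Cfg.FxU_cases (h : Cfg p a b H φ) {U : Submodule F (I27 → F)} (hU : Hst H U) (hp : Pr U) :
    FxU U = ⊥ ∨ φ.range ≤ FxU U := by
  rw [or_iff_not_imp_left]
  intro hne
  refine h.max.min _ (h.FxU_le hU hp) (fun g hg x hx => ?_) hne
  exact FxU_normal (by rw [h.StU_eq hU hp]; exact hg) hx

/-- **KC** -/
theorem Cfg.kc (h : Cfg p a b H φ) {U : Submodule F (I27 → F)} (hU : Hst H U) (hp : Pr U)
    (hact : ∃ s, ∃ x ∈ U, Jr F (φ s) x ≠ x) {g : ↥(chevF4.group F)} (hg : ∀ x ∈ U, Jr F g x = x) : g = 1 := by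
  rcases h.FxU_cases hU hp with h1 | h1
  · have h2 : g ∈ FxU U := hg
    rwa [h1, Subgroup.mem_bot] at h2
  · obtain ⟨s, x, hx, hne⟩ := hact
    exact absurd (h1 ⟨s, rfl⟩ x hx) hne

/-- the simple group is not a `p`-group -/
theorem Cfg.not_pgroup (h : Cfg p a b H φ) : ¬ IsPGroup p (ProjectiveSpecialLinearGroup (Fin 2) K) := by
  intro hP
  have : Fact p.Prime := ⟨h.prime⟩
  have hs := h.simple
  have h1 := hP.center_nontrivial
  obtain ⟨x, hx⟩ := exists_ne (1 : ↥(Subgroup.center (ProjectiveSpecialLinearGroup (Fin 2) K)))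
  have h2 := psl_center (K := K)
  have h3 := h2.le x.2
  exact hx (Subtype.ext (Subgroup.mem_bot.1 h3))

/-- **no nontrivial `p`-subgroup of `H` is normalized by `L`** -/
theorem Cfg.kc_p (h : Cfg p a b H φ) {B : Subgroup ↥(chevF4.group F)} (hB : IsPGroup p ↥B) (hBH : B ≤ H)
    (hn : ∀ s, ∀ x ∈ B, φ s * x * (φ s)⁻¹ ∈ B) : B = ⊥ := by
  have hs := h.simple
  rw [eq_bot_iff]
  intro x hx
  rw [Subgroup.mem_bot]
  refine h.max.cent x fun s => ?_
  have hN : (B.comap φ).Normal := ⟨fun s hs t => by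
    rw [Subgroup.mem_comap, map_mul, map_mul, map_inv]
    exact hn t _ hs⟩
  have hbot : B.comap φ = ⊥ := by
    rcases hN.eq_bot_or_eq_top with h2 | h2
    · exact h2
    · exfalso
      refine h.not_pgroup ?_
      refine hB.of_injective (φ.codRestrict B (fun s => ?_)) ?_
      · have h3 : s ∈ B.comap φ := by rw [h2]; trivial
        exact h3
      · intro s t hst
        exact h.max.inj (congrArg Subtype.val hst)
  obtain ⟨s', hs'⟩ := h.max.norm x (hBH hx) (φ s) ⟨s, rfl⟩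
  have h3 : φ (s' * s⁻¹) ∈ B := by
    rw [map_mul, map_inv, hs']
    have h4 := hn s _ (inv_mem hx)
    have h5 := mul_mem hx h4
    rwa [show x * (φ s * x⁻¹ * (φ s)⁻¹) = x * φ s * x⁻¹ * (φ s)⁻¹ by group] at h5
  have h4 : s' * s⁻¹ ∈ B.comap φ := h3
  rw [hbot, Subgroup.mem_bot, mul_inv_eq_one] at h4
  rw [h4] at hs'
  calc φ s * x = x * φ s * x⁻¹ * x := by rw [← hs']
    _ = x * φ s := by group

/-- **counting** -/
theorem Cfg.count (h : Cfg p a b H φ) {α : Type w} (o : ↥(chevF4.group F) → α) (S : Set α) [Finite S]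
    (hS : ∀ g, o g ∈ S) (hH : ∀ g g', o g = o g' → g⁻¹ * g' ∈ H) : Fintype.card F ^ 33 ≤ 6 * Nat.card S := by
  have h1 := card_le_of_fiber H o S hS hH
  have h2 := card_f4_ge (F := F)
  have h3 := h.card_le'
  rw [Nat.card_eq_fintype_card, h.cardF] at h2
  rw [h.cardF]
  set q := p ^ b
  have hq : 0 < q := Nat.pow_pos h.prime.pos
  have h4 : q ^ 19 * q ^ 33 ≤ q ^ 19 * (6 * Nat.card S) := by
    calc q ^ 19 * q ^ 33 = q ^ 52 := by ring
      _ ≤ 2 * Nat.card ↥(chevF4.group F) := h2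
      _ ≤ 2 * (Nat.card ↥H * Nat.card S) := Nat.mul_le_mul_left _ h1
      _ ≤ 2 * (3 * q ^ 19 * Nat.card S) := Nat.mul_le_mul_left _ (Nat.mul_le_mul_right _ h3)
      _ = q ^ 19 * (6 * Nat.card S) := by ring
  exact Nat.le_of_mul_le_mul_left h4 (Nat.pow_pos hq)

theorem Cfg.two_le (_h : Cfg p a b H φ) : 2 ≤ Fintype.card F := Fintype.one_lt_card

/-- the stabilizer of a vector is not contained in `H` -/
theorem Cfg.vec (h : Cfg p a b H φ) (w : I27 → F) : ∃ g, Jr F g w = w ∧ g ∉ H := by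
  by_contra hcon
  push Not at hcon
  have h1 := h.count (fun g => Jr F g w) Set.univ (fun _ => trivial) (fun g g' hgg => by
    refine hcon _ ?_
    rw [Jr_mul, ← (show Jr F g w = Jr F g' w from hgg), Jr_inv_apply])
  rw [Nat.card_congr (Equiv.Set.univ _), Nat.card_fun, Nat.card_eq_fintype_card (α := F),
    Nat.card_eq_fintype_card (α := I27), show Fintype.card I27 = 27 by decide] at h1
  have hq := h.two_le
  set q := Fintype.card F
  have h8 : q ^ 33 = q ^ 6 * q ^ 27 := by ring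
  rw [h8] at h1
  have h9 : 0 < q ^ 27 := by positivity
  have h10 := Nat.le_of_mul_le_mul_right h1 h9
  have h11 : 2 ^ 6 ≤ q ^ 6 := Nat.pow_le_pow_left hq 6
  norm_num at h11
  omega

/-- **FV**: no stable subspace of dimension 2 contains the unit -/
theorem Cfg.fv (h : Cfg p a b H φ) {P : Submodule F (I27 → F)} (hP : Hst H P) (h0 : u0 F ∈ P)
    (h2 : finrank F ↥P = 2) : False := by
  have hpr : Pr P := pr_of_finrank (by omega) (by omega)
  obtain ⟨w, hw, hwu⟩ := Set.not_subset.1 hpr.1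
  obtain ⟨g, hg, hgH⟩ := h.vec w
  have hli : LinearIndependent F ![u0 F, w] := by
    rw [LinearIndependent.pair_iff]
    intro s t hst
    have ht : t = 0 := by
      by_contra ht
      apply hwu
      refine Submodule.mem_span_singleton.2 ⟨-(t⁻¹ * s), ?_⟩
      have h3 : t • w = -(s • u0 F) := by
        rw [eq_neg_iff_add_eq_zero, add_comm]
        exact hst
      have h4 : w = t⁻¹ • (t • w) := by rw [smul_smul, inv_mul_cancel₀ ht, one_smul]
      rw [h4, h3, smul_neg, smul_smul, neg_smul]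
    rw [ht, zero_smul, add_zero] at hst
    exact ⟨(smul_eq_zero.1 hst).resolve_right u0_ne_zero, ht⟩
  have hsp : Submodule.span F (Set.range ![u0 F, w]) = P := by
    refine Submodule.eq_of_le_of_finrank_eq ?_ ?_
    · rw [Submodule.span_le]
      rintro _ ⟨i, rfl⟩
      fin_cases i
      · exact h0
      · exact hw
    · rw [finrank_span_eq_card hli, h2, Fintype.card_fin]
  apply hgH
  refine h.gp hP hpr fun x hx => ?_
  rw [← hsp] at hx ⊢
  have h3 : Submodule.span F (Set.range ![u0 F, w]) ≤ (Submodule.span F (Set.range ![u0 F, w])).comap (Jr F g) := by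
    rw [Submodule.span_le]
    rintro _ ⟨i, rfl⟩
    show Jr F g _ ∈ Submodule.span F (Set.range ![u0 F, w])
    fin_cases i
    · show Jr F g (u0 F) ∈ _
      rw [Jr_u0]
      exact Submodule.subset_span ⟨0, rfl⟩
    · show Jr F g w ∈ _
      rw [hg]
      exact Submodule.subset_span ⟨1, rfl⟩
  exact h3 hx

/-- **FV**: the only stable line is `F·1` -/
theorem Cfg.fv_line (h : Cfg p a b H φ) {w : I27 → F} (hw : ∀ g ∈ H, ∃ c : F, Jr F g w = c • w) :
    w ∈ Submodule.span F {u0 F} := by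
  by_contra hwu
  have hli : LinearIndependent F ![u0 F, w] := by
    rw [LinearIndependent.pair_iff]
    intro s t hst
    have ht : t = 0 := by
      by_contra ht
      apply hwu
      refine Submodule.mem_span_singleton.2 ⟨-(t⁻¹ * s), ?_⟩
      have h3 : t • w = -(s • u0 F) := by
        rw [eq_neg_iff_add_eq_zero, add_comm]
        exact hst
      have h4 : w = t⁻¹ • (t • w) := by rw [smul_smul, inv_mul_cancel₀ ht, one_smul]
      rw [h4, h3, smul_neg, smul_smul, neg_smul]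
    rw [ht, zero_smul, add_zero] at hst
    exact ⟨(smul_eq_zero.1 hst).resolve_right u0_ne_zero, ht⟩
  refine h.fv (P := Submodule.span F (Set.range ![u0 F, w])) ?_ (Submodule.subset_span ⟨0, rfl⟩)
    (by rw [finrank_span_eq_card hli, Fintype.card_fin])
  intro g hg x hx
  have h3 : Submodule.span F (Set.range ![u0 F, w]) ≤ (Submodule.span F (Set.range ![u0 F, w])).comap (Jr F g) := by
    rw [Submodule.span_le]
    rintro _ ⟨i, rfl⟩
    show Jr F g _ ∈ Submodule.span F (Set.range ![u0 F, w])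
    fin_cases i
    · show Jr F g (u0 F) ∈ _
      rw [Jr_u0]
      exact Submodule.subset_span ⟨0, rfl⟩
    · show Jr F g w ∈ _
      obtain ⟨c, hc⟩ := hw g hg
      rw [hc]
      exact Submodule.smul_mem _ _ (Submodule.subset_span ⟨1, rfl⟩)
  exact h3 hx

end cfg

end Cfsg.Agent.R2.F4M
end

private theorem dce_50b8795dc4a5 : _root_.True := by
  try have : _root_.True := by simp only [_root_.Cfsg.Agent.R2.F4M.Irr.chkDown.eq_1]
  try have : _root_.True := by simp only [_root_.Cfsg.Agent.R2.F4M.Irr.chkUp.eq_1]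
  try have : _root_.True := by simp only [_root_.Cfsg.Agent.R2.F4M.Irr.stp._sparseCasesOn_2.else_eq]
  try have : _root_.True := by simp only [_root_.Cfsg.Agent.R2.F4M.Irr.stp._sparseCasesOn_1.else_eq]
  exact _root_.True.intro
end

-- part: R2/F4N/NR
section
prune_inst 0x11100140062200000000051060001c72aa00000200080800008000460c800c4200020120b03000100082000440300008110000200200000002000400011d00800880000420000000000080000080000000000000000000000000000000000000000000000
set_option linter.all false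
open scoped Cfsg.Agent.FastGrp

-- part: R2/F4N/Black
section
/-!
# The group of type `E₆` is transitive on the vectors with `cubicT x = 1`, every field (lead, box F4N)

* `exists_u0` : `cubicT x = 1 → ∃ z ∈ Zgrp F, z x = u0`.
-/

set_option autoImplicit false
set_option linter.unusedSectionVars false

namespace Cfsg.Agent.R2.F4N

open Cfsg Cfsg.Lie Module
open Cfsg.Agent.ChevalleyStructure.E6Min.Tables Cfsg.Agent.ChevalleyStructure.E6Min.Basic
  Cfsg.Agent.ChevalleyStructure.E6Min.Inv Cfsg.Agent.ChevalleyStructure.E6Min.Forms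
  Cfsg.Agent.ChevalleyStructure.E6Min.Elim Cfsg.Agent.ChevalleyStructure.E6Min.Torus
open Cfsg.Agent.H952.F4 (u0)
open scoped Matrix

universe u

/-- the three weights of the unit -/
abbrev c0 : I27 := (0, 0, 0)
abbrev c4 : I27 := (0, 1, 1)
abbrev c8 : I27 := (0, 2, 2)

def chkN (i j : ℕ) : Bool := !((relN 0 i == 2) && (relN 0 j == 2) && (relN i j == 1)) ||
  ((sgN (rtN i j) 0 == 0) && allLt 27 fun x => !(relN 0 x == 1) || (sgN (rtN i j) x == 0) ||
    (relN 0 (srN (rtN i j) x) == 1))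

theorem chk_all : allLt 27 (fun i => allLt 27 fun j => chkN i j) = true := by decide +kernel

theorem chk_spec {i j : I27} (h1 : rel c0 i = 2) (h2 : rel c0 j = 2) (h3 : rel i j = 1) :
    sg (rt i j) c0 = 0 ∧ ∀ x, rel c0 x = 1 → sg (rt i j) x = 0 ∨ rel c0 (sr (rt i j) x) = 1 := by
  have h := allLt_spec (allLt_spec chk_all _ (code_lt i)) _ (code_lt j)
  unfold chkN at h
  simp only [Bool.or_eq_true, Bool.and_eq_true, Bool.not_eq_true', beq_iff_eq, Bool.and_eq_false_iff,
    beq_eq_false_iff_ne] at h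
  have hc : code c0 = 0 := rfl
  have e1 : relN 0 (code i) = 2 := h1
  have e2 : relN 0 (code j) = 2 := h2
  have e3 : relN (code i) (code j) = 1 := h3
  rcases h with h | ⟨h4, h5⟩
  · rcases h with (h | h) | h
    · exact absurd e1 h
    · exact absurd e2 h
    · exact absurd e3 h
  · refine ⟨h4, fun x hx => ?_⟩
    have h6 := allLt_spec h5 _ (code_lt x)
    simp only [Bool.or_eq_true, Bool.not_eq_true', beq_iff_eq, beq_eq_false_iff_ne] at h6
    rcases h6 with (h6 | h6) | h6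
    · exact absurd hx h6
    · exact Or.inl h6
    · right
      have h7 := code_sr (rt_spec h3).1 x
      unfold rel
      rw [h7]
      exact h6

/-- the ten weights opposite to `c0` -/
noncomputable def neigh : List I27 := (Finset.univ.filter fun j => rel c4 j = 1 ∧ rel c0 j = 2).toList

theorem mem_neigh {j : I27} : j ∈ neigh ↔ rel c4 j = 1 ∧ rel c0 j = 2 := by
  unfold neigh
  simp

theorem cases_all : ∀ j : I27, j = c0 ∨ j = c4 ∨ j = c8 ∨ rel c0 j = 1 ∨ (rel c4 j = 1 ∧ rel c0 j = 2) := by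
  decide +kernel

section

variable {F : Type u} [Field F]

/-- supported on `c0` and the weights opposite to `c0` -/
def P0 (w : I27 → F) : Prop := w c0 ≠ 0 ∧ ∀ x, rel c0 x = 1 → w x = 0

theorem keep {w : I27 → F} (hw : P0 w) {i j : I27} (h1 : rel c0 i = 2) (h2 : rel c0 j = 2) (h3 : rel i j = 1) (t : F) :
    P0 (zM (rt i j) t *ᵥ w) := by
  obtain ⟨h4, h5⟩ := chk_spec h1 h2 h3
  refine ⟨?_, fun x hx => ?_⟩
  · rw [zM_mulVec, h4]
    simpa using hw.1
  · rw [zM_mulVec]
    rcases h5 x hx with h6 | h6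
    · rw [h6, hw.2 x hx]; simp
    · rw [hw.2 x hx, hw.2 _ h6]; simp

theorem clear8 {w : I27 → F} (hw : P0 w) (h4 : w c4 ≠ 0) :
    ∀ l : List I27, (∀ j ∈ l, rel c4 j = 1 ∧ rel c0 j = 2) → ∃ z ∈ Zgrp F,
      P0 ((z : Matrix I27 I27 F) *ᵥ w) ∧ ((z : Matrix I27 I27 F) *ᵥ w) c4 = w c4 ∧
      (∀ j ∈ l, ((z : Matrix I27 I27 F) *ᵥ w) j = 0) ∧
      (∀ j, rel c4 j = 1 → j ∉ l → ((z : Matrix I27 I27 F) *ᵥ w) j = w j) := by
  intro l
  induction l with
  | nil =>
    intro _
    refine ⟨1, one_mem _, ?_, ?_, ?_, ?_⟩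
    · rw [Units.val_one, Matrix.one_mulVec]; exact hw
    · rw [Units.val_one, Matrix.one_mulVec]
    · intro j hj; simp at hj
    · intro j _ _; rw [Units.val_one, Matrix.one_mulVec]
  | cons j l ih =>
    intro hl
    obtain ⟨z, hz, hz1, hz2, hz3, hz4⟩ := ih fun k hk => hl k (List.mem_cons_of_mem _ hk)
    obtain ⟨hj, hj0⟩ := hl j List.mem_cons_self
    by_cases hjl : j ∈ l
    · refine ⟨z, hz, hz1, hz2, ?_, ?_⟩
      · intro k hk
        rcases List.mem_cons.mp hk with rfl | hk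
        · exact hz3 _ hjl
        · exact hz3 _ hk
      · intro k hk hkl
        exact hz4 k hk fun h => hkl (List.mem_cons_of_mem _ h)
    · obtain ⟨hr, hsg, hsr, hsi⟩ := rt_spec hj
      have ha : ((sg (rt c4 j) j : ℤ) : F) ≠ 0 := sg_cast_ne_zero hsg
      set t : F := -(w j) / (((sg (rt c4 j) j : ℤ) : F) * w c4) with ht
      refine ⟨zU (rt c4 j) t * z, mul_mem (zU_mem _ _) hz, ?_, ?_, ?_, ?_⟩
      · rw [coe_mul_mulVec, coe_zU hr]
        exact keep hz1 (by decide +kernel) hj0 hj t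
      · rw [coe_mul_mulVec, coe_zU hr, zM_mulVec, hsi, hz2]; simp
      · intro k hk
        rw [coe_mul_mulVec, coe_zU hr, zM_mulVec]
        by_cases hkj : k = j
        · subst hkj
          rw [hsr, hz2, hz4 k hj hjl, ht]
          field_simp
          ring
        · rcases List.mem_cons.mp hk with h | hk
          · exact absurd h hkj
          · rw [Cfsg.Agent.ChevalleyStructure.E6Min.Elim.c4 hj (hl k (List.mem_cons_of_mem _ hk)).1 hkj, hz3 k hk]; simp
      · intro k hk hkl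
        rw [coe_mul_mulVec, coe_zU hr, zM_mulVec]
        have hkj : k ≠ j := fun h => hkl (h ▸ List.mem_cons_self)
        rw [Cfsg.Agent.ChevalleyStructure.E6Min.Elim.c4 hj hk hkj, hz4 k hk fun h => hkl (List.mem_cons_of_mem _ h)]; simp

theorem cubicT_act {z : GL I27 F} (hz : z ∈ Zgrp F) (v : I27 → F) : cubicT ((z : Matrix I27 I27 F) *ᵥ v) = cubicT v :=
  Zgrp_le F hz v

/-- a vector supported on `c0, c4, c8` -/
theorem cubicT_diag {w : I27 → F} (h : ∀ j, j ≠ c0 → j ≠ c4 → j ≠ c8 → w j = 0) : cubicT w = w c0 * w c4 * w c8 := by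
  rw [Cfsg.Agent.ChevalleyStructure.E6Min.Expand.cubicT_expand]
  have e1 := h (0, 0, 1) (by decide) (by decide) (by decide)
  have e2 := h (0, 0, 2) (by decide) (by decide) (by decide)
  have e3 := h (0, 1, 0) (by decide) (by decide) (by decide)
  have e4 := h (0, 1, 2) (by decide) (by decide) (by decide)
  have e5 := h (0, 2, 0) (by decide) (by decide) (by decide)
  have e6 := h (0, 2, 1) (by decide) (by decide) (by decide)
  have f1 : ∀ i j, w (1, i, j) = 0 := fun i j => h _ (by simp) (by simp) (by simp)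
  have f2 : ∀ i j, w (2, i, j) = 0 := fun i j => h _ (by simp) (by simp) (by simp)
  simp only [e1, e2, e3, e4, e5, e6, f1, f2]
  ring

/-- the diagonal element -/
theorem exists_torus {a b c : F} (h : a * b * c = 1) : ∃ z ∈ Zgrp F, ∀ w : I27 → F,
    (∀ j, j ≠ c0 → j ≠ c4 → j ≠ c8 → w j = 0) → w c0 = a → w c4 = b → w c8 = c → (z : Matrix I27 I27 F) *ᵥ w = u0 F := by
  have ha : a ≠ 0 := by rintro rfl; simp at h
  have hb : b ≠ 0 := by rintro rfl; simp at h
  have hc : c ≠ 0 := by rintro rfl; simp at h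
  let d : Fin 3 → F := ![a, b, c]
  have hd : ∀ i, d i ≠ 0 := by
    intro i
    fin_cases i
    · exact ha
    · exact hb
    · exact hc
  let f : I27 → F := fun x => if x.1 = 0 then (d x.2.1)⁻¹ else if x.1 = 1 then 1 else d x.2.2
  have hf : ∀ x, f x ≠ 0 := by
    intro x
    show (if x.1 = 0 then (d x.2.1)⁻¹ else if x.1 = 1 then 1 else d x.2.2) ≠ 0
    split_ifs
    · exact inv_ne_zero (hd _)
    · exact one_ne_zero
    · exact hd _
  have hdet : IsUnit (Matrix.diagonal f).det := by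
    rw [Matrix.det_diagonal, isUnit_iff_ne_zero]
    exact Finset.prod_ne_zero_iff.2 fun x _ => hf x
  let g : GL I27 F := Matrix.GeneralLinearGroup.mk'' (Matrix.diagonal f) hdet
  have hg : ∀ (v : I27 → F) x, ((g : Matrix I27 I27 F) *ᵥ v) x = f x * v x := fun v x => by
    show (Matrix.diagonal f *ᵥ v) x = _
    rw [Matrix.mulVec_diagonal]
  have hmem : g ∈ E6univ F := by
    rw [mem_E6univ_iff]
    intro v
    have m0 : mat3 ((g : Matrix I27 I27 F) *ᵥ v) 0 = Matrix.diagonal (fun i => (d i)⁻¹) * mat3 v 0 := by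
      ext i j
      rw [Matrix.diagonal_mul]
      exact hg v (0, i, j)
    have m1 : mat3 ((g : Matrix I27 I27 F) *ᵥ v) 1 = mat3 v 1 := by
      ext i j
      show ((g : Matrix I27 I27 F) *ᵥ v) (1, i, j) = v (1, i, j)
      rw [hg]
      show 1 * v (1, i, j) = _
      rw [one_mul]
    have m2 : mat3 ((g : Matrix I27 I27 F) *ᵥ v) 2 = mat3 v 2 * Matrix.diagonal d := by
      ext i j
      rw [Matrix.mul_diagonal]
      show ((g : Matrix I27 I27 F) *ᵥ v) (2, i, j) = v (2, i, j) * d j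
      rw [hg, mul_comm]
      rfl
    have d1 : (Matrix.diagonal d).det = 1 := by
      rw [Matrix.det_diagonal, Fin.prod_univ_three]
      exact h
    have d2 : (Matrix.diagonal fun i => (d i)⁻¹).det = 1 := by
      rw [Matrix.det_diagonal, Fin.prod_univ_three]
      show a⁻¹ * b⁻¹ * c⁻¹ = 1
      rw [← mul_inv, ← mul_inv, h, inv_one]
    have d3 : Matrix.diagonal d * (Matrix.diagonal fun i => (d i)⁻¹) = (1 : Matrix (Fin 3) (Fin 3) F) := by
      rw [Matrix.diagonal_mul_diagonal, ← Matrix.diagonal_one]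
      congr 1
      funext i
      exact mul_inv_cancel₀ (hd i)
    unfold cubicT
    rw [m0, m1, m2, Matrix.det_mul, Matrix.det_mul, d1, d2, one_mul, mul_one]
    congr 1
    rw [← mul_assoc, Matrix.trace_mul_comm, ← mul_assoc, ← mul_assoc, ← mul_assoc, d3, one_mul]
  have hsc : ∀ m, Scales g m := by
    intro m
    refine ⟨f m, hf m, ?_⟩
    funext x
    rw [hg, Pi.smul_apply, smul_eq_mul, e_apply]
    split_ifs with hx
    · rw [hx]
    · rw [mul_zero, mul_zero]
  refine ⟨g, diag_mem hmem hsc, fun w hw ha' hb' hc' => ?_⟩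
  funext x
  rw [hg]
  by_cases h0 : x = c0
  · subst h0
    rw [ha']
    show a⁻¹ * a = _
    rw [inv_mul_cancel₀ ha]
    simp [u0]
  by_cases h4 : x = c4
  · subst h4
    rw [hb']
    show b⁻¹ * b = _
    rw [inv_mul_cancel₀ hb]
    simp [u0]
  by_cases h8 : x = c8
  · subst h8
    rw [hc']
    show c⁻¹ * c = _
    rw [inv_mul_cancel₀ hc]
    simp [u0]
  rw [hw x h0 h4 h8, mul_zero]
  unfold u0
  rw [if_neg]
  revert x
  decide

/-- **transitivity** -/
theorem exists_u0 {v : I27 → F} (hv : cubicT v = 1) : ∃ z ∈ Zgrp F, (z : Matrix I27 I27 F) *ᵥ v = u0 F := by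
  -- the coordinate `c0`
  obtain ⟨j, hj⟩ : ∃ j, v j ≠ 0 := by
    by_contra hcon
    push Not at hcon
    rw [cubicT_diag fun j _ _ _ => hcon j, hcon c0] at hv
    simp at hv
  have hp : ∀ j : I27, pathN [] 0 (code j) = true := by decide +kernel
  obtain ⟨z1, hz1, -, h1⟩ := path_spec (M := []) (i := c0) (hp j) v hj
  obtain ⟨z2, hz2, -, h2, h3, -⟩ := clear_aux ((z1 : Matrix I27 I27 F) *ᵥ v) h1 [] (by simp) (by simp)
    ((Finset.univ.filter fun j => rel c0 j = 1).toList) (by intro j hj; simpa using hj)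
  rw [← coe_mul_mulVec] at h2 h3
  set w := ((z2 * z1 : GL I27 F) : Matrix I27 I27 F) *ᵥ v with hw
  have hw0 : P0 w := ⟨by rw [h2]; exact h1, fun x hx => h3 x (by simpa using hx)⟩
  have hwc : cubicT w = 1 := by rw [hw, cubicT_act (mul_mem hz2 hz1), hv]
  -- the coordinate `c4`
  obtain ⟨z3, hz3, hP3, h4⟩ : ∃ z3 ∈ Zgrp F, P0 ((z3 : Matrix I27 I27 F) *ᵥ w) ∧
      ((z3 : Matrix I27 I27 F) *ᵥ w) c4 ≠ 0 := by
    by_cases h40 : w c4 = 0
    · obtain ⟨j, hj1, hj2, hj⟩ : ∃ j, rel c4 j = 1 ∧ rel c0 j = 2 ∧ w j ≠ 0 := by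
        by_contra hcon
        push Not at hcon
        have h5 : ∀ j, j ≠ c0 → j ≠ c4 → j ≠ c8 → w j = 0 := by
          intro j ha hb hc
          rcases cases_all j with h | h | h | h | h
          · exact absurd h ha
          · exact absurd h hb
          · exact absurd h hc
          · exact hw0.2 j h
          · exact hcon j h.1 h.2
        rw [cubicT_diag h5, h40] at hwc
        simp at hwc
      have hj3 : rel j c4 = 1 := by rw [rel_symm]; exact hj1
      obtain ⟨hr, hsg, hsr, hsi⟩ := rt_spec hj3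
      refine ⟨zU (rt j c4) 1, zU_mem _ _, ?_, ?_⟩
      · rw [coe_zU hr]
        exact keep hw0 hj2 (by decide +kernel) hj3 1
      · rw [coe_zU hr, zM_mulVec, h40, hsr, one_mul, zero_add]
        exact mul_ne_zero (sg_cast_ne_zero hsg) hj
    · exact ⟨1, one_mem _, by rw [Units.val_one, Matrix.one_mulVec]; exact hw0, by
        rw [Units.val_one, Matrix.one_mulVec]; exact h40⟩
  obtain ⟨z4, hz4, hP4, h5, h6, -⟩ := clear8 hP3 h4 neigh fun j hj => mem_neigh.1 hj
  rw [← coe_mul_mulVec] at hP4 h5 h6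
  set w' := ((z4 * z3 : GL I27 F) : Matrix I27 I27 F) *ᵥ w with hw'
  have hwc' : cubicT w' = 1 := by rw [hw', cubicT_act (mul_mem hz4 hz3), hwc]
  have hsupp : ∀ j, j ≠ c0 → j ≠ c4 → j ≠ c8 → w' j = 0 := by
    intro j ha hb hc
    rcases cases_all j with h | h | h | h | h
    · exact absurd h ha
    · exact absurd h hb
    · exact absurd h hc
    · exact hP4.2 j h
    · exact h6 j (mem_neigh.2 h)
  rw [cubicT_diag hsupp] at hwc'
  obtain ⟨z5, hz5, h7⟩ := exists_torus hwc'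
  refine ⟨z5 * (z4 * z3) * (z2 * z1), mul_mem (mul_mem hz5 (mul_mem hz4 hz3)) (mul_mem hz2 hz1), ?_⟩
  rw [coe_mul_mulVec, coe_mul_mulVec]
  exact h7 w' hsupp rfl rfl rfl

end

end Cfsg.Agent.R2.F4N
end

-- part: R2/F4N/Cnt
section
/-!
# A lower bound for the number of vectors with `cubicT x = 1` (lead, box F4N)

* `card_ge` : `q ^ 20 (q ^ 3 - 1) ^ 2 ≤ #{x | cubicT x = 1}`.
-/

set_option autoImplicit false
set_option linter.unusedSectionVars false

namespace Cfsg.Agent.R2.F4N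

open Cfsg Cfsg.Lie Module
open Cfsg.Agent.H952.F4 (ofM)
open Finset
open scoped Matrix

universe u v w

section fib

theorem card_fib {V : Type v} {W : Type w} [AddCommGroup V] [AddCommGroup W] [Fintype V] [Fintype W] [DecidableEq W]
    (f : V →+ W) (hf : Function.Surjective f) (y : W) :
    (univ.filter fun x => f x = y).card * Fintype.card W = Fintype.card V := by
  classical
  have h1 : ∀ y' : W, (univ.filter fun x => f x = y').card = (univ.filter fun x => f x = y).card := by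
    intro y'
    obtain ⟨a, ha⟩ := hf (y - y')
    refine Finset.card_bij (fun x _ => x + a) ?_ ?_ ?_
    · intro x hx
      rw [mem_filter] at hx ⊢
      refine ⟨mem_univ _, ?_⟩
      rw [map_add, ha, hx.2]
      abel
    · intro x _ x' _ h
      exact add_right_cancel h
    · intro x hx
      rw [mem_filter] at hx
      refine ⟨x - a, ?_, by abel⟩
      rw [mem_filter]
      refine ⟨mem_univ _, ?_⟩
      rw [map_sub, ha, hx.2]
      abel
  have h2 := Finset.card_eq_sum_card_fiberwise (s := (univ : Finset V)) (t := (univ : Finset W)) (f := f)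
    (fun x _ => mem_coe.2 (mem_univ _))
  rw [Finset.card_univ] at h2
  rw [h2, Finset.sum_congr rfl fun y' _ => h1 y', Finset.sum_const, Finset.card_univ, smul_eq_mul, mul_comm]

end fib

variable {F : Type u} [Field F] [Fintype F] [DecidableEq F]

local notation "q" => Fintype.card F

theorem card_dot {l : Fin 3 → F} (hl : l ≠ 0) (s : F) : (univ.filter fun r : Fin 3 → F => r ⬝ᵥ l = s).card = q ^ 2 := by
  classical
  let f : (Fin 3 → F) →+ F :=
    { toFun := fun r => r ⬝ᵥ l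
      map_zero' := by simp
      map_add' := fun a b => by simp [add_dotProduct] }
  have hf : Function.Surjective f := by
    intro y
    obtain ⟨i, hi⟩ := Function.ne_iff.1 hl
    refine ⟨Pi.single i (y * (l i)⁻¹), ?_⟩
    show Pi.single i (y * (l i)⁻¹) ⬝ᵥ l = y
    rw [single_dotProduct, mul_assoc, inv_mul_cancel₀ hi, mul_one]
  have h1 := card_fib f hf s
  have h2 : Fintype.card (Fin 3 → F) = q ^ 3 := by rw [Fintype.card_fun, Fintype.card_fin]
  rw [h2] at h1
  have hq : 0 < q := Fintype.card_pos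
  have h3 : (univ.filter fun r : Fin 3 → F => r ⬝ᵥ l = s).card * q = q ^ 2 * q := by
    rw [← pow_succ]
    exact h1
  exact Nat.eq_of_mul_eq_mul_right hq h3

theorem card_mat : Fintype.card (Matrix (Fin 3) (Fin 3) F) = q ^ 9 := by
  rw [Fintype.card_congr (Matrix.of (m := Fin 3) (n := Fin 3) (α := F)).symm, Fintype.card_fun, Fintype.card_fun,
    Fintype.card_fin, ← pow_mul]

theorem card_mulVec {c : Fin 3 → F} (hc : c ≠ 0) (y : Fin 3 → F) :
    (univ.filter fun B : Matrix (Fin 3) (Fin 3) F => B *ᵥ c = y).card = q ^ 6 := by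
  classical
  let f : Matrix (Fin 3) (Fin 3) F →+ (Fin 3 → F) :=
    { toFun := fun B => B *ᵥ c
      map_zero' := by simp
      map_add' := fun a b => by simp [Matrix.add_mulVec] }
  have hf : Function.Surjective f := by
    intro y
    obtain ⟨i, hi⟩ := Function.ne_iff.1 hc
    refine ⟨Matrix.of fun a b => if b = i then y a * (c i)⁻¹ else 0, ?_⟩
    show (Matrix.of fun a b => if b = i then y a * (c i)⁻¹ else 0) *ᵥ c = y
    funext a
    simp only [Matrix.mulVec, dotProduct, Matrix.of_apply, ite_mul, zero_mul, Finset.sum_ite_eq', Finset.mem_univ, if_true]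
    rw [mul_assoc, inv_mul_cancel₀ hi, mul_one]
  have h1 := card_fib f hf y
  have h2 : Fintype.card (Fin 3 → F) = q ^ 3 := by rw [Fintype.card_fun, Fintype.card_fin]
  rw [h2, card_mat] at h1
  have hq : 0 < q ^ 3 := pow_pos Fintype.card_pos _
  have h3 : (univ.filter fun B : Matrix (Fin 3) (Fin 3) F => B *ᵥ c = y).card * q ^ 3 = q ^ 6 * q ^ 3 := by
    rw [← pow_add]
    exact h1
  exact Nat.eq_of_mul_eq_mul_right hq h3

theorem card_col (y : Fin 3 → F) :
    (univ.filter fun C : Matrix (Fin 3) (Fin 3) F => (fun j => C j 2) = y).card = q ^ 6 := by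
  classical
  let f : Matrix (Fin 3) (Fin 3) F →+ (Fin 3 → F) :=
    { toFun := fun B => fun j => B j 2
      map_zero' := by funext j; simp
      map_add' := fun a b => by funext j; simp }
  have hf : Function.Surjective f := by
    intro y
    exact ⟨Matrix.of fun a b => y a, rfl⟩
  have h1 := card_fib f hf y
  have h2 : Fintype.card (Fin 3 → F) = q ^ 3 := by rw [Fintype.card_fun, Fintype.card_fin]
  rw [h2, card_mat] at h1
  have hq : 0 < q ^ 3 := pow_pos Fintype.card_pos _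
  have h3 : (univ.filter fun C : Matrix (Fin 3) (Fin 3) F => (fun j => C j 2) = y).card * q ^ 3 = q ^ 6 * q ^ 3 := by
    rw [← pow_add]
    exact h1
  exact Nat.eq_of_mul_eq_mul_right hq h3

/-- the matrix with rows `u 0, u 1, r` -/
def rowM (u : Fin 2 → Fin 3 → F) (r : Fin 3 → F) : Matrix (Fin 3) (Fin 3) F := Matrix.of ![u 0, u 1, r]

/-- the linear coefficient -/
def Lc (u : Fin 2 → Fin 3 → F) (C B : Matrix (Fin 3) (Fin 3) F) : Fin 3 → F :=
  ![u 0 1 * u 1 2 - u 0 2 * u 1 1, u 0 2 * u 1 0 - u 0 0 * u 1 2, u 0 0 * u 1 1 - u 0 1 * u 1 0] - B *ᵥ fun j => C j 2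

theorem cubicT_ofM (A B C : Matrix (Fin 3) (Fin 3) F) :
    cubicT (ofM A B C) = A.det + B.det + C.det - (A * B * C).trace := by
  have h0 : mat3 (ofM A B C) 0 = A := by
    ext i j
    simp [mat3, ofM]
  have h1 : mat3 (ofM A B C) 1 = B := by
    ext i j
    simp [mat3, ofM]
  have h2 : mat3 (ofM A B C) 2 = C := by
    ext i j
    simp [mat3, ofM]
  unfold cubicT
  rw [h0, h1, h2]

theorem cubicT_row (u : Fin 2 → Fin 3 → F) (C B : Matrix (Fin 3) (Fin 3) F) (r : Fin 3 → F) :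
    cubicT (ofM (rowM u r) B C) = r ⬝ᵥ Lc u C B + cubicT (ofM (rowM u 0) B C) := by
  rw [cubicT_ofM, cubicT_ofM]
  simp only [rowM, Lc, Matrix.det_fin_three, Matrix.trace, Matrix.diag, Fin.sum_univ_three, Matrix.mul_apply,
    dotProduct, Matrix.mulVec, Matrix.of_apply, Matrix.cons_val', Matrix.cons_val_zero, Matrix.cons_val_one,
    Matrix.cons_val, Pi.sub_apply, Pi.zero_apply]
  ring

theorem card_ge : q ^ 20 * (q ^ 3 - 1) ^ 2 ≤ (univ.filter fun x : I27 → F => cubicT x = 1).card := by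
  classical
  -- the parameters
  let P : Type u := (Fin 2 → Fin 3 → F) × Matrix (Fin 3) (Fin 3) F × Matrix (Fin 3) (Fin 3) F × (Fin 3 → F)
  let N : P → F := fun p => cubicT (ofM (rowM p.1 p.2.2.2) p.2.2.1 p.2.1)
  have h1 : (univ.filter fun p : P => N p = 1).card ≤ (univ.filter fun x : I27 → F => cubicT x = 1).card := by
    refine Finset.card_le_card_of_injOn (fun p => ofM (rowM p.1 p.2.2.2) p.2.2.1 p.2.1) ?_ ?_
    · intro p hp
      rw [mem_coe, mem_filter] at hp ⊢
      exact ⟨mem_univ _, hp.2⟩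
    · rintro ⟨a, c, b, r⟩ _ ⟨a', c', b', r'⟩ _ h
      have h' : ofM (rowM a r) b c = ofM (rowM a' r') b' c' := h
      have k0 : ∀ i j, rowM a r i j = rowM a' r' i j := fun i j => by
        have := congrFun h' (0, i, j)
        simpa [ofM] using this
      have k1 : ∀ i j, b i j = b' i j := fun i j => by
        have := congrFun h' (1, i, j)
        simpa [ofM] using this
      have k2 : ∀ i j, c i j = c' i j := fun i j => by
        have := congrFun h' (2, i, j)
        simpa [ofM] using this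
      have e1 : b = b' := Matrix.ext k1
      have e2 : c = c' := Matrix.ext k2
      have e3 : r = r' := by
        funext j
        exact k0 2 j
      have e4 : a = a' := by
        funext i j
        fin_cases i
        · exact k0 0 j
        · exact k0 1 j
      rw [e1, e2, e3, e4]
  refine le_trans ?_ h1
  rw [Finset.card_filter, Fintype.sum_prod_type]
  -- the fibres
  have h2 : ∀ (a : Fin 2 → Fin 3 → F) (c b : Matrix (Fin 3) (Fin 3) F), Lc a c b ≠ 0 →
      (∑ r : Fin 3 → F, if N (a, c, b, r) = 1 then 1 else 0) = q ^ 2 := by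
    intro a c b hL
    rw [← Finset.card_filter]
    have h3 : (univ.filter fun r : Fin 3 → F => N (a, c, b, r) = 1) =
        univ.filter fun r : Fin 3 → F => r ⬝ᵥ Lc a c b = 1 - cubicT (ofM (rowM a 0) b c) := by
      ext r
      rw [mem_filter, mem_filter]
      have h4 : N (a, c, b, r) = r ⬝ᵥ Lc a c b + cubicT (ofM (rowM a 0) b c) := cubicT_row a c b r
      rw [h4, eq_sub_iff_add_eq]
    rw [h3, card_dot hL]
  have h3 : ∀ (a : Fin 2 → Fin 3 → F) (c : Matrix (Fin 3) (Fin 3) F), (fun j => c j 2) ≠ 0 →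
      (q ^ 9 - q ^ 6) * q ^ 2 ≤ ∑ b : Matrix (Fin 3) (Fin 3) F, ∑ r : Fin 3 → F, if N (a, c, b, r) = 1 then 1 else 0 := by
    intro a c hc
    have h4 : (univ.filter fun b : Matrix (Fin 3) (Fin 3) F => Lc a c b ≠ 0).card = q ^ 9 - q ^ 6 := by
      have h5 := card_mulVec hc ![a 0 1 * a 1 2 - a 0 2 * a 1 1, a 0 2 * a 1 0 - a 0 0 * a 1 2,
        a 0 0 * a 1 1 - a 0 1 * a 1 0]
      have h6 : (univ.filter fun b : Matrix (Fin 3) (Fin 3) F => Lc a c b ≠ 0) =
          univ \ (univ.filter fun b : Matrix (Fin 3) (Fin 3) F => (b *ᵥ fun j => c j 2) =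
            ![a 0 1 * a 1 2 - a 0 2 * a 1 1, a 0 2 * a 1 0 - a 0 0 * a 1 2, a 0 0 * a 1 1 - a 0 1 * a 1 0]) := by
        ext b
        simp only [mem_filter, mem_sdiff, mem_univ, true_and]
        unfold Lc
        rw [Ne, sub_eq_zero, eq_comm]
      rw [h6, Finset.card_sdiff_of_subset (Finset.subset_univ _), h5, Finset.card_univ, card_mat]
    calc (q ^ 9 - q ^ 6) * q ^ 2 = ∑ b ∈ (univ.filter fun b : Matrix (Fin 3) (Fin 3) F => Lc a c b ≠ 0), q ^ 2 := by
          rw [Finset.sum_const, smul_eq_mul, h4]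
      _ = ∑ b ∈ (univ.filter fun b : Matrix (Fin 3) (Fin 3) F => Lc a c b ≠ 0),
          ∑ r : Fin 3 → F, (if N (a, c, b, r) = 1 then 1 else 0) :=
          Finset.sum_congr rfl fun b hb => (h2 a c b (mem_filter.1 hb).2).symm
      _ ≤ _ := Finset.sum_le_sum_of_subset (Finset.subset_univ _)
  have h4 : (univ.filter fun c : Matrix (Fin 3) (Fin 3) F => (fun j => c j 2) ≠ 0).card = q ^ 9 - q ^ 6 := by
    have h5 := card_col (F := F) 0
    have h6 : (univ.filter fun c : Matrix (Fin 3) (Fin 3) F => (fun j => c j 2) ≠ 0) =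
        univ \ (univ.filter fun c : Matrix (Fin 3) (Fin 3) F => (fun j => c j 2) = 0) := by
      ext b
      simp only [mem_filter, mem_sdiff, mem_univ, true_and, ne_eq]
    rw [h6, Finset.card_sdiff_of_subset (Finset.subset_univ _), h5, Finset.card_univ, card_mat]
  have h5 : ∀ a : Fin 2 → Fin 3 → F, (q ^ 9 - q ^ 6) * ((q ^ 9 - q ^ 6) * q ^ 2) ≤
      ∑ x : Matrix (Fin 3) (Fin 3) F × Matrix (Fin 3) (Fin 3) F × (Fin 3 → F), if N (a, x) = 1 then 1 else 0 := by
    intro a
    rw [Fintype.sum_prod_type]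
    calc (q ^ 9 - q ^ 6) * ((q ^ 9 - q ^ 6) * q ^ 2) =
        ∑ c ∈ (univ.filter fun c : Matrix (Fin 3) (Fin 3) F => (fun j => c j 2) ≠ 0), (q ^ 9 - q ^ 6) * q ^ 2 := by
          rw [Finset.sum_const, smul_eq_mul, h4]
      _ ≤ ∑ c ∈ (univ.filter fun c : Matrix (Fin 3) (Fin 3) F => (fun j => c j 2) ≠ 0),
          ∑ y : Matrix (Fin 3) (Fin 3) F × (Fin 3 → F), (if N (a, c, y) = 1 then 1 else 0) := by
          refine Finset.sum_le_sum fun c hc => ?_
          rw [Fintype.sum_prod_type]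
          exact h3 a c (mem_filter.1 hc).2
      _ ≤ _ := Finset.sum_le_sum_of_subset (Finset.subset_univ _)
  have h6 : Fintype.card (Fin 2 → Fin 3 → F) = q ^ 6 := by
    rw [Fintype.card_fun, Fintype.card_fun, Fintype.card_fin, Fintype.card_fin, ← pow_mul]
  have h7 : q ^ 9 - q ^ 6 = q ^ 6 * (q ^ 3 - 1) := by
    rw [Nat.mul_sub, ← pow_add, mul_one]
  calc q ^ 20 * (q ^ 3 - 1) ^ 2 = ∑ _a : Fin 2 → Fin 3 → F, (q ^ 9 - q ^ 6) * ((q ^ 9 - q ^ 6) * q ^ 2) := by
        rw [Finset.sum_const, Finset.card_univ, smul_eq_mul, h6, h7]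
        ring
    _ ≤ _ := Finset.sum_le_sum fun a _ => h5 a

end Cfsg.Agent.R2.F4N
end

-- part: R2/F4N/Full
section
/-!
# The stabilizer of the unit in the simply connected group of type `E₆` is `F₄` (lead, box F4N)

* `full` : `F` finite, `z ∈ Zgrp F`, `z u0 = u0` → `z = zt g`.
-/

set_option autoImplicit false
set_option linter.unusedSectionVars false

namespace Cfsg.Agent.R2.F4N

open Cfsg Cfsg.Lie Module
open Cfsg.Agent.ChevalleyStructure.E6Min.Tables Cfsg.Agent.ChevalleyStructure.E6Min.Basic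
  Cfsg.Agent.ChevalleyStructure.E6Min.Adjoint
open Cfsg.Agent.H952.F4 (u0)
open Cfsg.Agent.H163.E6 (V V')
open Cfsg.Agent.R2.F4M
open scoped Matrix

universe u

variable {F : Type u} [Field F] [Finite F]

theorem card_ker : Nat.card ↥(ad F).ker ≤ Nat.gcd 3 (Nat.card F - 1) := by
  classical
  have hf : Fintype F := Fintype.ofFinite F
  have h1 : ∀ z : ↥(ad F).ker, ∃ c : F, c ^ 3 = 1 ∧ (((z : ↥(Zgrp F)) : GL I27 F) : Matrix I27 I27 F) = c • 1 :=
    fun z => Cfsg.Agent.H65.E6Ext.ker_scalar (MonoidHom.mem_ker.1 z.2)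
  choose c hc hc' using h1
  have hg : 0 < Nat.gcd 3 (Nat.card F - 1) := Nat.gcd_pos_of_pos_left _ (by norm_num)
  have h2 : ∀ z, c z ∈ (Polynomial.nthRoots (Nat.gcd 3 (Nat.card F - 1)) (1 : F)).toFinset := by
    intro z
    rw [Multiset.mem_toFinset, Polynomial.mem_nthRoots hg]
    have h3 : c z ≠ 0 := by
      intro h0
      have := hc z
      rw [h0] at this
      simp at this
    have h4 : c z ^ (Nat.card F - 1) = 1 := by
      rw [Nat.card_eq_fintype_card]
      exact FiniteField.pow_card_sub_one_eq_one _ h3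
    exact pow_gcd_eq_one.2 ⟨hc z, h4⟩
  have h3 : Nat.card ↥(ad F).ker ≤ (Polynomial.nthRoots (Nat.gcd 3 (Nat.card F - 1)) (1 : F)).toFinset.card := by
    have h4 := Nat.card_le_card_of_injective
      (fun z => (⟨c z, h2 z⟩ : ↥(Polynomial.nthRoots (Nat.gcd 3 (Nat.card F - 1)) (1 : F)).toFinset)) (by
        intro z z' h
        have h5 : c z = c z' := congrArg Subtype.val h
        apply Subtype.ext
        apply Subtype.ext
        apply Units.ext
        rw [hc', hc', h5])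
    rwa [Nat.card_eq_fintype_card (α := ↥(Polynomial.nthRoots (Nat.gcd 3 (Nat.card F - 1)) (1 : F)).toFinset),
      Fintype.card_coe] at h4
  exact h3.trans ((Multiset.toFinset_card_le _).trans (Polynomial.card_nthRoots _ _))

/-- the order of the simply connected group -/
theorem card_Zgrp_le : Nat.card ↥(Zgrp F) ≤ Nat.card F ^ 36 * (Nat.card F ^ 2 - 1) *
    (Nat.card F ^ 5 - 1) * (Nat.card F ^ 6 - 1) * (Nat.card F ^ 8 - 1) * (Nat.card F ^ 9 - 1) * (Nat.card F ^ 12 - 1) := by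
  have hf : Fintype F := Fintype.ofFinite F
  rw [← S1063.result (F := F) Nat.card_eq_fintype_card.symm]
  have h1 := Subgroup.card_mul_index (ad F).ker
  rw [Subgroup.index_ker, MonoidHom.range_eq_top.2 ad_surjective, Subgroup.card_top] at h1
  rw [← h1]
  exact Nat.mul_le_mul_right _ card_ker

/-- the stabilizer of the unit -/
noncomputable def St (F : Type u) [Field F] : Subgroup ↥(Zgrp F) where
  carrier := {z | V F z (u0 F) = u0 F}
  mul_mem' := by
    intro a b ha hb
    show V F (a * b) (u0 F) = u0 F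
    rw [map_mul, Module.End.mul_apply, hb, ha]
  one_mem' := by
    show V F 1 (u0 F) = u0 F
    rw [map_one]
    rfl
  inv_mem' := by
    intro a ha
    show V F a⁻¹ (u0 F) = u0 F
    have h1 : V F a (u0 F) = u0 F := ha
    conv_lhs => rw [← h1]
    rw [← Module.End.mul_apply, ← map_mul, inv_mul_cancel, map_one]
    rfl

theorem mem_St {z : ↥(Zgrp F)} : z ∈ St F ↔ V F z (u0 F) = u0 F := Iff.rfl

theorem card_orbit_le : Nat.card {x : I27 → F // cubicT x = 1} ≤ (St F).index := by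
  classical
  choose z hz hz' using fun x : {x : I27 → F // cubicT x = 1} => exists_u0 x.2
  have hV : ∀ x : {x : I27 → F // cubicT x = 1}, V F ⟨z x, hz x⟩ x = u0 F := hz'
  have hfin : Finite (↥(Zgrp F) ⧸ St F) := inferInstance
  refine Nat.card_le_card_of_injective (fun x => (QuotientGroup.mk (⟨z x, hz x⟩ : ↥(Zgrp F))⁻¹ : ↥(Zgrp F) ⧸ St F)) ?_
  intro x y h
  rw [QuotientGroup.eq, inv_inv, mem_St] at h
  apply Subtype.ext
  have h2 : V F (⟨z x, hz x⟩ * (⟨z y, hz y⟩ : ↥(Zgrp F))⁻¹) (V F ⟨z y, hz y⟩ y) = V F ⟨z x, hz x⟩ y := by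
    rw [← Module.End.mul_apply, ← map_mul, inv_mul_cancel_right]
  rw [hV, h] at h2
  have h3 := (hV x).trans h2
  have h4 := congrArg (V F (⟨z x, hz x⟩ : ↥(Zgrp F))⁻¹) h3
  rwa [← Module.End.mul_apply, ← Module.End.mul_apply, ← map_mul, inv_mul_cancel, map_one, Module.End.one_apply,
    Module.End.one_apply] at h4

theorem range_le : (zt F).range ≤ St F := by
  rintro _ ⟨g, rfl⟩
  exact Jr_u0 g

/-- **the stabilizer of the unit is `F₄`** -/
theorem range_eq : (zt F).range = St F := by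
  classical
  have hf : Fintype F := Fintype.ofFinite F
  by_contra hne
  have hlt : (zt F).range < St F := lt_of_le_of_ne range_le hne
  have hq : 2 ≤ Nat.card F := Finite.one_lt_card
  -- orders
  have h1 : Nat.card ↥(zt F).range = Nat.card ↥(chevF4.group F) :=
    (Nat.card_congr (MonoidHom.ofInjective zt_injective).toEquiv).symm
  have h2 := S1062.result (F := F) (q := Nat.card F) Nat.card_eq_fintype_card.symm
  have h3 : 2 * Nat.card ↥(zt F).range ≤ Nat.card ↥(St F) := by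
    obtain ⟨k, hk⟩ := Subgroup.card_dvd_of_le hlt.le
    have hk0 : k ≠ 0 := by
      rintro rfl
      rw [mul_zero] at hk
      exact Nat.card_pos.ne' hk
    have hk1 : k ≠ 1 := by
      rintro rfl
      rw [mul_one] at hk
      exact hne (Subgroup.eq_of_le_of_card_ge hlt.le hk.le)
    rw [hk, mul_comm]
    exact Nat.mul_le_mul_left _ (by omega)
  have h4 := Subgroup.card_mul_index (St F)
  have h5 := card_orbit_le (F := F)
  have h6 : Nat.card F ^ 20 * (Nat.card F ^ 3 - 1) ^ 2 ≤ Nat.card {x : I27 → F // cubicT x = 1} := by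
    have := card_ge (F := F)
    rw [Nat.card_eq_fintype_card, Nat.card_eq_fintype_card, Fintype.card_subtype]
    exact this
  have h7 := card_Zgrp_le (F := F)
  set q := Nat.card F with hqdef
  have h8 : 2 * (q ^ 24 * (q ^ 2 - 1) * (q ^ 6 - 1) * (q ^ 8 - 1) * (q ^ 12 - 1)) * (q ^ 20 * (q ^ 3 - 1) ^ 2) ≤
      q ^ 36 * (q ^ 2 - 1) * (q ^ 5 - 1) * (q ^ 6 - 1) * (q ^ 8 - 1) * (q ^ 9 - 1) * (q ^ 12 - 1) := by
    rw [← h2, ← h1]
    exact (Nat.mul_le_mul h3 (h6.trans h5)).trans (h4.le.trans h7)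
  have hpos : ∀ k, 1 ≤ k → 0 < q ^ k - 1 := by
    intro k hk
    have : 2 ^ k ≤ q ^ k := Nat.pow_le_pow_left hq k
    have : 2 ^ 1 ≤ 2 ^ k := Nat.pow_le_pow_right (by norm_num) hk
    omega
  set A := q ^ 36 * ((q ^ 2 - 1) * (q ^ 6 - 1) * (q ^ 8 - 1) * (q ^ 12 - 1)) with hA
  have hApos : 0 < A := by
    have := hpos 2 (by norm_num)
    have := hpos 6 (by norm_num)
    have := hpos 8 (by norm_num)
    have := hpos 12 (by norm_num)
    positivity
  have h9 : A * (2 * q ^ 8 * (q ^ 3 - 1) ^ 2) ≤ A * ((q ^ 5 - 1) * (q ^ 9 - 1)) := by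
    calc A * (2 * q ^ 8 * (q ^ 3 - 1) ^ 2) =
        2 * (q ^ 24 * (q ^ 2 - 1) * (q ^ 6 - 1) * (q ^ 8 - 1) * (q ^ 12 - 1)) * (q ^ 20 * (q ^ 3 - 1) ^ 2) := by
          rw [hA]; ring
      _ ≤ _ := h8
      _ = _ := by rw [hA]; ring
  have h10 := Nat.le_of_mul_le_mul_left h9 hApos
  have h11 : (q ^ 5 - 1) * (q ^ 9 - 1) ≤ q ^ 14 := by
    calc (q ^ 5 - 1) * (q ^ 9 - 1) ≤ q ^ 5 * q ^ 9 := Nat.mul_le_mul (Nat.sub_le _ _) (Nat.sub_le _ _)
      _ = q ^ 14 := by ring
  have h12 : 7 * q ^ 3 ≤ 8 * (q ^ 3 - 1) := by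
    have : 2 ^ 3 ≤ q ^ 3 := Nat.pow_le_pow_left hq 3
    omega
  have h13 : 49 * q ^ 6 ≤ 64 * (q ^ 3 - 1) ^ 2 := by
    calc 49 * q ^ 6 = (7 * q ^ 3) * (7 * q ^ 3) := by ring
      _ ≤ (8 * (q ^ 3 - 1)) * (8 * (q ^ 3 - 1)) := Nat.mul_le_mul h12 h12
      _ = _ := by ring
  have h14 : 2 * q ^ 8 * (49 * q ^ 6) ≤ 64 * q ^ 14 := by
    calc 2 * q ^ 8 * (49 * q ^ 6) ≤ 2 * q ^ 8 * (64 * (q ^ 3 - 1) ^ 2) := Nat.mul_le_mul_left _ h13
      _ = 64 * (2 * q ^ 8 * (q ^ 3 - 1) ^ 2) := by ring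
      _ ≤ 64 * q ^ 14 := Nat.mul_le_mul_left _ (h10.trans h11)
  have h15 : 0 < q ^ 14 := by positivity
  have h16 : 2 * q ^ 8 * (49 * q ^ 6) = 98 * q ^ 14 := by ring
  omega

/-- **FULL** -/
theorem full {z : ↥(Zgrp F)} (h : V F z (u0 F) = u0 F) : ∃ g, zt F g = z := by
  have h1 : z ∈ St F := h
  rw [← range_eq] at h1
  exact h1

end Cfsg.Agent.R2.F4N
end

-- part: R2/F4N/NR
section
/-!
# S5931: automorphisms commuting with `L`; no root elements, no white subspaces (lead, box F4N)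

* `full_sh` : a linear automorphism of `J` preserving `sh` and `u0` belongs to `F₄` (finite field);
* `aut1` : if it commutes with `L`, it is trivial;
* `nrF4`, `nrF4_closed` : no one-parameter group `1 + t N` of `Aut(J_k)` commutes with `L`;
* `white_six`, `white_four` : no white `L`-stable subspaces of dimension 6, 4 over an algebraic extension field;
* `white` : no white `L`-stable subspaces (`p` odd).
-/

set_option autoImplicit false
set_option linter.unusedSectionVars false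

namespace Cfsg.Agent.R2.F4N

open Cfsg Cfsg.Lie Module Matrix
open Cfsg.Agent.ChevalleyStructure
open Cfsg.Agent.ChevalleyStructure.E6Min.Basic Cfsg.Agent.ChevalleyStructure.E6Min.Forms
open Cfsg.Agent.H163.E6 Cfsg.Agent.H65.E6Emb Cfsg.Agent.R2.H22.Norm Cfsg.Agent.R2.H22.Root Cfsg.Agent.H163.E6.Act
open Cfsg.Agent.H952.F4 (u0 tr1 tf sh cr)
open Cfsg.Agent.H952.F4.Jord
open Cfsg.Agent.H65.E6Full (IsFull mem_Zgrp_iff)
open Cfsg.Agent.R2.F4M
open Cfsg.Agent.R2.H9.E6
open Finset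
open scoped Matrix

universe u v w

/-! ### automorphisms -/

section aut

variable {F : Type u} [Field F]

open Polynomial in
theorem D_eq_tf (v w : I27 → F) : D v w = tf (sh v) w := by
  have h1 := cubicT_add_smul (fun i => (C (v i) : F[X])) (fun i => (C (w i) : F[X])) (X : F[X])
  rw [N_add, sh_smul, tf_smul_right, tf_smul_right, N_smul, Cfsg.Agent.H65.E6Full.cubicT_map' C,
    Cfsg.Agent.H65.E6Full.cubicT_map' C, Cfsg.Agent.H65.E6Full.D_map C, Cfsg.Agent.H65.E6Full.D_map C] at h1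
  have e4 : tf (sh fun i => (C (v i) : F[X])) (fun i => (C (w i) : F[X])) = C (tf (sh v) w) := by
    have h2 := cst_sh (R := F) v
    have h3 := cst_tf (R := F) (sh v) w
    rw [← h2] at h3
    exact h3
  have e5 : tf (fun i => (C (v i) : F[X])) (sh fun i => (C (w i) : F[X])) = C (tf v (sh w)) := by
    have h2 := cst_sh (R := F) w
    have h3 := cst_tf (R := F) v (sh w)
    rw [← h2] at h3
    exact h3
  rw [e4, e5] at h1
  have h2 := congrArg (fun p : F[X] => p.coeff 1) h1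
  simp only [coeff_add] at h2
  have e1 : ∀ a : F, (C a : F[X]).coeff 1 = 0 := fun a => coeff_C_of_ne_zero one_ne_zero
  have e2 : ∀ a : F, ((X : F[X]) * C a).coeff 1 = a := fun a => by
    rw [show (1 : ℕ) = 0 + 1 from rfl, coeff_X_mul, coeff_C_zero]
  have e3 : ∀ a : F, ((X : F[X]) ^ 2 * C a).coeff 1 = 0 := fun a => by
    rw [coeff_X_pow_mul', if_neg (by norm_num)]
  have e6 : ∀ a : F, ((X : F[X]) ^ 3 * C a).coeff 1 = 0 := fun a => by
    rw [coeff_X_pow_mul', if_neg (by norm_num)]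
  rw [e1, e2, e2, e3, e3, e6] at h2
  simpa using h2.symm

variable {g : (I27 → F) ≃ₗ[F] (I27 → F)} (hsh : ∀ x, sh (g x) = g (sh x)) (hu : g (u0 F) = u0 F)

include hsh in
theorem cr_of_sh (x y : I27 → F) : cr (g x) (g y) = g (cr x y) := by
  unfold Cfsg.Agent.H952.F4.cr
  rw [← map_add, hsh, hsh, hsh, ← map_sub, ← map_sub]

include hsh hu in
theorem tr_of_sh (x : I27 → F) : tr1 (g x) = tr1 x := by
  have h1 := cr_of_sh hsh (u0 F) x
  rw [hu, cr_u0, cr_u0, map_sub, map_smul, hu] at h1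
  have h2 := sub_left_injective h1
  have h3 := congrFun h2 (0, 0, 0)
  simpa [u0] using h3

include hsh hu in
theorem tf_of_sh (x y : I27 → F) : tf (g x) (g y) = tf x y := by
  have h1 := tr1_cr (g x) (g y)
  rw [cr_of_sh hsh, tr_of_sh hsh hu, tr_of_sh hsh hu, tr_of_sh hsh hu] at h1
  have h2 := tr1_cr x y
  linear_combination h1 - h2

include hsh in
theorem N_of_sh (x : I27 → F) : cubicT (g x) = cubicT x := by
  by_cases hx : x = 0
  · rw [hx, map_zero]
  · have h1 := sh_sh (g x)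
    rw [hsh, hsh, sh_sh, map_smul] at h1
    have h2 : g x ≠ 0 := fun h => hx (g.map_eq_zero_iff.1 h)
    exact (smul_left_injective F h2 h1).symm

include hsh hu in
/-- **automorphisms of `J` belong to `F₄`** -/
theorem full_sh [Finite F] : ∃ z : ↥(chevF4.group F), ∀ x, g x = Jr F z x := by
  have hdet : IsUnit (LinearMap.toMatrix' (g : (I27 → F) →ₗ[F] (I27 → F))).det := by
    rw [LinearMap.det_toMatrix']
    exact LinearEquiv.isUnit_det' g
  let G : GL I27 F := Matrix.GeneralLinearGroup.mk'' (LinearMap.toMatrix' (g : (I27 → F) →ₗ[F] (I27 → F))) hdet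
  have hG : ∀ x, (G : Matrix I27 I27 F) *ᵥ x = g x := fun x => LinearMap.toMatrix'_mulVec _ x
  have hmem : G ∈ Zgrp F := by
    rw [mem_Zgrp_iff]
    refine ⟨?_, fun v w => ?_⟩
    · rw [mem_E6univ_iff]
      intro v
      rw [hG]
      exact N_of_sh hsh v
    · rw [hG, hG, D_eq_tf, D_eq_tf, hsh, tf_of_sh hsh hu]
  obtain ⟨z, hz⟩ := full (z := ⟨G, hmem⟩) (by
    show (G : Matrix I27 I27 F) *ᵥ u0 F = u0 F
    rw [hG, hu])
  refine ⟨z, fun x => ?_⟩
  rw [← V_zt, hz]
  exact (hG x).symm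

end aut

section cfg

variable {F : Type u} [Field F] [Fintype F] {K : Type w} [Field K] [Fintype K] {p a b : ℕ}
  {H : Subgroup ↥(chevF4.group F)} {φ : ProjectiveSpecialLinearGroup (Fin 2) K →* ↥(chevF4.group F)}

/-- **AUT1** -/
theorem aut1 (h : Cfg p a b H φ) {g : (I27 → F) ≃ₗ[F] (I27 → F)} (hsh : ∀ x, sh (g x) = g (sh x))
    (hu : g (u0 F) = u0 F) (hc : ∀ a x, g (Jr F (φ a) x) = Jr F (φ a) (g x)) (x : I27 → F) : g x = x := by
  obtain ⟨z, hz⟩ := full_sh hsh hu
  have h1 : z = 1 := by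
    refine h.max.cent z fun a => Jr_faithful fun x => ?_
    rw [Jr_mul, Jr_mul, ← hz, ← hz, hc]
  rw [hz, h1, Jr_one]

/-- **no root elements commute with `L`**, over every finite extension field -/
theorem nrF4 (h : Cfg p a b H φ) {E : Type v} [Field E] [Finite E] (i : F →+* E)
    {N : Matrix I27 I27 E} (hN : N * N = 0) (z : E → ↥(Zgrp E)) (hz : ∀ t, mt (z t) = 1 + t • N)
    (hu : N *ᵥ u0 E = 0) (hc : ∀ t x, emb i (zt F (φ x)) * z t = z t * emb i (zt F (φ x))) : N = 0 := by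
  classical
  have hfE : Fintype E := Fintype.ofFinite E
  have hq : 2 ≤ Fintype.card F := Fintype.one_lt_card
  obtain ⟨d, hd0, hd⟩ : ∃ d, 1 ≤ d ∧ Fintype.card E = Fintype.card F ^ d := by
    let _ := i.toAlgebra
    have hfin : Module.Finite F E := Module.Finite.of_finite
    exact ⟨Module.finrank F E, Module.finrank_pos, Module.card_eq_pow_finrank⟩
  have hfp : Fact p.Prime := ⟨h.prime⟩
  have hcF := h.charF
  have hcE : CharP E p := charP_of_injective_ringHom i.injective p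
  let s : E →+* E := iterateFrobenius E p b
  have hs : ∀ x, s x = x ^ Fintype.card F := fun x => by
    rw [h.cardF]
    exact iterateFrobenius_def p b x
  have hspow : ∀ (n : ℕ) (x : E), (s ^ n) x = x ^ (Fintype.card F ^ n) := by
    intro n x
    induction n with
    | zero => rw [pow_zero, pow_zero, pow_one]; rfl
    | succ n ih =>
      rw [pow_succ']
      show s ((s ^ n) x) = _
      rw [ih, hs, ← pow_mul, ← pow_succ]
  have hsu : (fun j => s (u0 E j)) = u0 E := by
    funext j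
    unfold u0
    rw [apply_ite s, map_one, map_zero]
  have hiu : (fun j => i (u0 F j)) = u0 E := by
    funext j
    unfold u0
    rw [apply_ite i, map_one, map_zero]
  let C : Subgroup ↥(Zgrp E) := Subgroup.centralizer (Set.range fun x => emb i (zt F (φ x))) ⊓ St E
  have hmem : ∀ y, y ∈ C ↔ (∀ x, emb i (zt F (φ x)) * y = y * emb i (zt F (φ x))) ∧ V E y (u0 E) = u0 E := by
    intro y
    rw [Subgroup.mem_inf, Subgroup.mem_centralizer_iff, mem_St]
    refine and_congr_left fun _ => ?_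
    constructor
    · intro h x
      exact h _ ⟨x, rfl⟩
    · rintro h _ ⟨x, rfl⟩
      exact h x
  refine core C (emb s) ?_ d (Fintype.card F) 1 hd0 hq ?_ ?_ ?_ (emb_root s hs) hN z hz ?_
  · intro y hy
    rw [hmem] at hy ⊢
    refine ⟨fun x => ?_, ?_⟩
    · have h3 : emb s (emb i (zt F (φ x))) = emb i (zt F (φ x)) := emb_frob i s hs _
      rw [← h3, ← map_mul, hy.1, map_mul]
    · have h3 := V_emb s y (u0 E)
      rw [hsu, hy.2, hsu] at h3
      exact h3
  · intro x
    rw [emb_iter]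
    have h3 : s ^ d = RingHom.id E := by
      ext y
      rw [hspow, ← hd, FiniteField.pow_card]
      rfl
    rw [h3, emb_id]
  · refine (Set.ncard_le_ncard (t := {1}) ?_ (Set.finite_singleton _)).trans (Set.ncard_singleton _).le
    rintro x ⟨hxC, hx⟩
    obtain ⟨z0, rfl⟩ := Cfsg.Agent.H65.E6Full.exists_of_emb_eq_all i s hs x hx
    rw [hmem] at hxC
    have h3 : V F z0 (u0 F) = u0 F := by
      have h4 := V_emb i z0 (u0 F)
      rw [hiu, hxC.2, ← hiu] at h4
      funext j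
      exact i.injective (congrFun h4 j).symm
    obtain ⟨g, rfl⟩ := full h3
    have h4 : g = 1 := by
      refine h.max.cent g fun a => ?_
      apply zt_injective
      rw [map_mul, map_mul]
      apply emb_injective i
      rw [map_mul, map_mul]
      exact hxC.1 a
    rw [h4, map_one, map_one]
    rfl
  · rw [one_mul, hd]
    have := geom_le hq d
    omega
  · intro t
    rw [hmem]
    refine ⟨hc t, ?_⟩
    show mt (z t) *ᵥ u0 E = u0 E
    rw [hz, Matrix.add_mulVec, Matrix.one_mulVec, Matrix.smul_mulVec, hu, smul_zero, add_zero]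

end cfg

end Cfsg.Agent.R2.F4N
end

private theorem dce_00ea5199ff6f : _root_.True := by
  try have : _root_.True := by simp only [_root_.Cfsg.Agent.R2.F4N.Lc.eq_1]
  try have : _root_.True := by simp only [_root_.Cfsg.Agent.R2.F4N.rowM.eq_1]
  exact _root_.True.intro
end
end
end
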