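import Cfsg.Agent.R2.F4P.Id_m3
import Cfsg.Agent.R2.H28.SL2.ExtY_m3
import Cfsg.Agent.H944.E6TwE_m3
import Cfsg.Agent.R2.H22.NR_m3
import Cfsg.Agent.TwoFusion.SLTwoFacts
import Cfsg.Agent.H952.F4.Jord
import Cfsg.Agent.FastGrp
import Cfsg.Agent.Prune
set_option linter.all false

section
prune_inst 0x7f00000000000000000000000000000000000000000000000000000000000000000000000000000000000000000000000000000000000000000000000000000000000000000000000000000000000000003fffffffffffffffffffffffffffaeffbdffffffff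

section
prune_inst 0xffbdffbbfefddfffff7e7fffdffffdffbb3fffa6fffdcbbfe82dff2bdff3988de56bad8feab2fe1fe3e21d18b87b43fdffeeffea6bde7ffffd5df41ffbee4ff5f7b508719f8cb40fbc2ff783f0778e7f000000000000000000000000000000000200000000

-- part: R2/F4P/Zx2_mg
section
prune_inst 0x400000000000000000000000040000000000000000000000000000000000000000000000000000000000000000000000000000000000000000000000000000000000000000000
set_option linter.all false
open scoped Cfsg.Agent.FastGrp

-- part: R2/F4P/Full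
section
/-!
# The statement `Full F` (helper20)

`Full F` : the stabilizer of the unit in `Zgrp F` is `F₄(F)`. (To be proved by the owner of FULL; hypothesis elsewhere.)
-/

set_option autoImplicit false

namespace Cfsg.Agent.R2.F4P

open Cfsg Cfsg.Lie Module
open Cfsg.Agent.ChevalleyStructure.E6Min.Tables Cfsg.Agent.ChevalleyStructure.E6Min.Basic
open Cfsg.Agent.H952.F4
open Cfsg.Agent.H163.E6 (V V')
open Cfsg.Agent.R2.F4M

/-- the stabilizer of the unit in `Zgrp F` is `F₄(F)` -/
def Full (F : Type*) [Field F] : Prop := ∀ z : ↥(Zgrp F), V F z (u0 F) = u0 F → ∃ g : ↥(chevF4.group F), zt F g = z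

end Cfsg.Agent.R2.F4P
end

-- part: R2/F4P/Zx
section
/-!
# The automorphisms `z_{x,y}` of the 27-dimensional algebra (helper20)

`x` white (`x^# = 0`, trace zero), `y` of trace zero, `x × y = 0`:
`z_{x,y}(v) = v + x × (y × v) - T(x,v) y + s(y) T(x,v) x` is an automorphism.
-/

set_option autoImplicit false
set_option linter.unusedSimpArgs false
set_option linter.unusedSectionVars false

namespace Cfsg.Agent.R2.F4P

open Cfsg Cfsg.Lie Module
open Cfsg.Agent.ChevalleyStructure.E6Min.Tables Cfsg.Agent.ChevalleyStructure.E6Min.Basic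
open Cfsg.Agent.H952.F4 Cfsg.Agent.H952.F4.Jord

universe u

section ring

variable {R : Type u} [CommRing R]

theorem sh_zero' : sh (0 : I27 → R) = 0 := by
  have := sh_smul (0 : R) (0 : I27 → R)
  simpa using this

theorem tf_zero_left' (y : I27 → R) : tf (0 : I27 → R) y = 0 := by
  have := tf_smul_left (0 : R) (0 : I27 → R) y
  simpa using this

theorem tf_zero_right' (y : I27 → R) : tf y (0 : I27 → R) = 0 := by rw [tf_comm, tf_zero_left']

theorem cr_zero_left' (y : I27 → R) : cr (0 : I27 → R) y = 0 := by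
  have := cr_smul_left (0 : R) (0 : I27 → R) y
  simpa using this

theorem cr_zero_right' (y : I27 → R) : cr y (0 : I27 → R) = 0 := by rw [cr_comm, cr_zero_left']

theorem tr1_zero' : tr1 (0 : I27 → R) = 0 := by
  have := tr1_smul (0 : R) (0 : I27 → R)
  simpa using this

theorem three_N_cr (x y : I27 → R) : 3 * cubicT (cr x y) =
    3 * (tf (sh x) y * tf x (sh y) - cubicT x * cubicT y) := by
  have h1 := tf_sh_self (cr x y)
  have h2 := sh_cr x y
  have h3 : sh (cr x y) = tf (sh x) y • y + tf x (sh y) • x + (-1 : R) • cr (sh x) (sh y) := by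
    rw [← h2]
    module
  have h4 : tf y (cr x y) = 2 * tf x (sh y) := by
    rw [cr_comm, ← tf_cr, cr_self, tf_smul_left, tf_comm]
  have h5 : tf x (cr x y) = 2 * tf (sh x) y := by
    rw [← tf_cr, cr_self, tf_smul_left]
  have h6 : tf (cr (sh x) (sh y)) (cr x y) = cubicT x * (3 * cubicT y) + tf (sh x) y * tf x (sh y) := by
    rw [cr_comm (sh x), tf_cr, cr_sh_cr, tf_add_right, tf_smul_right, tf_smul_right, tf_sh_self, tf_comm (sh y) x]
  rw [h3, tf_add_left, tf_add_left, tf_smul_left, tf_smul_left, tf_smul_left, h4, h5, h6] at h1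
  linear_combination -h1

theorem cr_map' {S : Type*} {T : Type*} [CommRing S] [CommRing T] (f : S →+* T) (x y : I27 → S) :
    cr (fun i => f (x i)) (fun i => f (y i)) = fun i => f (cr x y i) := by
  have : (fun i => f (x i)) + (fun i => f (y i)) = fun i => f ((x + y) i) := by
    funext i
    simp
  funext i
  unfold cr
  rw [this, H163.E6.Act.sh_map, H163.E6.Act.sh_map, H163.E6.Act.sh_map]
  simp only [_root_.Pi.sub_apply, _root_.map_sub]

/-- `N(x × y) = T(x^#, y) T(x, y^#) - N(x) N(y)` -/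
theorem N_cr (x y : I27 → R) : cubicT (cr x y) = tf (sh x) y * tf x (sh y) - cubicT x * cubicT y := by
  set X : I27 → MvPolynomial (I27 ⊕ I27) ℤ := fun i => MvPolynomial.X (Sum.inl i) with hXd
  set Y : I27 → MvPolynomial (I27 ⊕ I27) ℤ := fun i => MvPolynomial.X (Sum.inr i) with hYd
  have h : cubicT (cr X Y) = tf (sh X) Y * tf X (sh Y) - cubicT X * cubicT Y := by
    have h3 : (3 : MvPolynomial (I27 ⊕ I27) ℤ) ≠ 0 := by
      have : (3 : MvPolynomial (I27 ⊕ I27) ℤ) = MvPolynomial.C 3 := by simp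
      rw [this]
      exact (MvPolynomial.C_ne_zero (σ := I27 ⊕ I27)).2 (by norm_num)
    exact mul_left_cancel₀ h3 (three_N_cr X Y)
  set f : MvPolynomial (I27 ⊕ I27) ℤ →+* R := MvPolynomial.eval₂Hom (Int.castRingHom R) (Sum.elim x y) with hf
  have hX : (fun i => f (X i)) = x := by
    funext i
    rw [hXd, hf, MvPolynomial.eval₂Hom_X', Sum.elim_inl]
  have hY : (fun i => f (Y i)) = y := by
    funext i
    rw [hYd, hf, MvPolynomial.eval₂Hom_X', Sum.elim_inr]
  have h1 := congrArg f h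
  rw [map_sub, map_mul, map_mul, ← H163.E6.Act.cubicT_map, ← H163.E6.Act.cubicT_map, ← H163.E6.Act.cubicT_map,
    ← H163.E6.Act.tf_map, ← H163.E6.Act.tf_map, ← cr_map', ← H163.E6.Act.sh_map, ← H163.E6.Act.sh_map, hX, hY] at h1
  exact h1

/-- the relations between `x` and `y` -/
structure Wh (x y : I27 → R) : Prop where
  sx : sh x = 0
  tx : tr1 x = 0
  Nx : cubicT x = 0
  ty : tr1 y = 0
  xy : cr x y = 0
  D : tf (sh y) x = 0
  Ny : cubicT y = 0
  T : tf x y = 0
  xx : tf x x = 0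
  xs : cr x (sh y) = (-tr1 (sh y)) • x

/-- the automorphism `z_{x,y}` -/
def zf (x y v : I27 → R) : I27 → R := v + cr x (cr y v) - tf x v • y + (tr1 (sh y) * tf x v) • x

theorem Wh.yx {x y : I27 → R} (h : Wh x y) : cr y x = 0 := by rw [cr_comm, h.xy]

theorem Wh.crx {x y : I27 → R} (h : Wh x y) (w : I27 → R) : cr x (cr x w) = tf x w • x := by
  have h1 := cr_cr_self x w
  rw [h.sx, cr_zero_right', h.tx, tf_zero_left', tr1_zero', tr1_cr, h.tx] at h1
  linear_combination (norm := module) h1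

theorem Wh.crxy {x y : I27 → R} (h : Wh x y) (w : I27 → R) :
    cr y (cr x w) = tf x w • y + tf y w • x - cr x (cr y w) := by
  have h1 := cr3 x y w
  rw [h.xy, cr_zero_right', h.tx, h.ty, tf_zero_left', tr1_zero', tr1_cr, tr1_cr, h.tx, h.ty] at h1
  linear_combination (norm := module) h1

theorem Wh.sh_cr {x y : I27 → R} (h : Wh x y) (w : I27 → R) : sh (cr x w) = tf x (sh w) • x := by
  have h1 := Jord.sh_cr x w
  rw [h.sx, cr_zero_left', tf_zero_left'] at h1
  linear_combination (norm := module) h1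

theorem Wh.tfb {x y : I27 → R} (h : Wh x y) (v : I27 → R) : tf x (cr y v) = 0 := by
  rw [← tf_cr, h.xy, tf_zero_left']

/-- `T(x × v, v × y^#) = T(x, v) T(v, y^#)` -/
theorem Wh.tfw {x y : I27 → R} (h : Wh x y) (v : I27 → R) :
    tf (cr v x) (cr v (sh y)) = tf x v * tf v (sh y) := by
  have h1 := congrArg tr1 (cr_cr v x (sh y))
  rw [h.xs] at h1
  simp only [tr1_add, tr1_smul, tr1_cr, h.tx, cr_smul_right, tf_smul_right] at h1
  rw [tf_comm v x] at h1
  linear_combination -h1

theorem Wh.tfyy {x y : I27 → R} (h : Wh x y) (v : I27 → R) :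
    tf v (cr x (cr y (cr y v))) = -2 * tr1 (sh y) * tf (sh v) x := by
  have h1 := cr_cr_self y v
  have h2 : cr y (cr y v) = (tr1 v * tr1 (sh y) - tf (sh y) v) • u0 R + (-1 : R) • cr v (sh y) +
      (-tr1 (sh y)) • v + tf y v • y + (-tr1 v) • sh y := by
    rw [tr1_cr, h.ty] at h1
    linear_combination (norm := module) h1
  have h3 : tf (cr v x) v = 2 * tf (sh v) x := by
    rw [tf_cr, cr_comm, ← tf_cr, cr_self, tf_smul_left]
  rw [← tf_cr, h2]
  simp only [tf_add_right, tf_smul_right]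
  rw [h.tfw v, h3, tf_comm _ (u0 R), tf_u0, tr1_cr, h.tx, tf_cr v x y, h.xy, tf_zero_right', tf_cr v x (sh y), h.xs,
    tf_smul_right, tf_comm v x, tf_comm v (sh y)]
  ring

/-- **`z_{x,y}` preserves the cubic form** -/
theorem Wh.N_zf {x y : I27 → R} (h : Wh x y) (v : I27 → R) : cubicT (zf x y v) = cubicT v := by
  set s := tr1 (sh y) with hs
  set τ := tf x v with hτ
  set b := cr y v with hb
  set p := cr x b with hp
  set q := (-τ) • y + (s * τ) • x with hq
  have hz : zf x y v = v + (p + q) := by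
    rw [zf, hp, hq, hb]
    module
  have hxb : tf x b = 0 := h.tfb v
  have hshp : sh p = tf x (sh b) • x := h.sh_cr b
  have hshq : sh q = τ ^ 2 • sh y := by
    rw [hq, sh_add, sh_smul, sh_smul, h.sx, cr_smul_left, cr_smul_right, h.yx]
    module
  have hcpy : cr y p = (tf y b) • x - cr x (cr y b) := by
    rw [hp, h.crxy b, hxb]
    module
  have hcpx : cr x p = 0 := by rw [hp, h.crx, hxb, zero_smul]
  have hcpq : cr p q = τ • cr x (cr y b) - (τ * tf y b) • x := by
    rw [hq, cr_add_right, cr_smul_right, cr_smul_right, cr_comm p x, cr_comm p y, hcpx, hcpy]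
    module
  have hsb : sh b = tf (sh y) v • v + tf y (sh v) • y + (-1 : R) • cr (sh y) (sh v) := by
    have := Jord.sh_cr y v
    linear_combination (norm := module) this
  have hxsb : tf x (sh b) = τ * tf (sh y) v + s * tf (sh v) x := by
    rw [hsb]
    simp only [tf_add_right, tf_smul_right]
    rw [← tf_cr x (sh y) (sh v), h.xs, h.T, tf_smul_left, tf_comm x (sh v)]
    ring
  have hyb : tf y b = 2 * tf (sh y) v := by rw [hb, ← tf_cr, cr_self, tf_smul_left]
  have h8 : tf v (cr x (cr y b)) = -2 * s * tf (sh v) x := h.tfyy v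
  have hvp : tf (sh v) p = τ * tf (sh v) y := by
    rw [hp, ← tf_cr, cr_comm, tf_cr, hb, cr_comm y v, cr_sh_cr, tf_add_right, tf_smul_right, tf_smul_right, h.T]
    ring
  have hva : tf (sh v) (p + q) = s * τ * tf (sh v) x := by
    rw [hq]
    simp only [tf_add_right, tf_smul_right, hvp]
    ring
  have hvs : tf v (sh (p + q)) = -(s * τ * tf (sh v) x) := by
    rw [sh_add, hshp, hshq, hcpq]
    have e : tf x (sh b) • x + τ ^ 2 • sh y + (τ • cr x (cr y b) - (τ * tf y b) • x) =
        tf x (sh b) • x + τ ^ 2 • sh y + τ • cr x (cr y b) + (-(τ * tf y b)) • x := by module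
    rw [e]
    simp only [tf_add_right, tf_smul_right]
    rw [h8, hxsb, hyb, tf_comm v x, tf_comm v (sh y)]
    ring
  have hNp : cubicT p = 0 := by
    rw [hp, N_cr, h.sx, tf_zero_left', h.Nx]
    ring
  have hNq : cubicT q = 0 := by
    rw [hq, N_add, N_smul, N_smul, h.Ny, h.Nx, sh_smul, sh_smul, h.sx, smul_zero, tf_zero_right', tf_smul_left,
      tf_smul_right, h.D]
    ring
  have hNa : cubicT (p + q) = 0 := by
    rw [N_add, hNp, hNq, hshp, hshq, hq]
    simp only [tf_add_right, tf_smul_right, tf_smul_left, h.T, h.xx]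
    rw [hp, tf_cr, cr_comm b, ← tf_cr x, h.xs, tf_smul_left, hxb]
    ring
  rw [hz, N_add, hva, hvs, hNa]
  ring

end ring

end Cfsg.Agent.R2.F4P
end

-- part: R2/F4P/Zx2
section
/-!
# The group `Z_x` of a white vector `x` (helper20)

* `Wh.of` : the relations over a field;
* `exists_zx` : `z_{x,y}` is an element of `F₄(F)`, if `Full F`;
* `Zx` : the abelian group of the `z_{x,y}`; `Zx_conj`, `Zx_pow`;
* `exists_fix` : every space `U ∋ x` of dimension at most 7 in `{y ∈ J₀ : x × y ∈ F x}` is fixed pointwise by an element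
  `z ≠ 1` of `Zx`.
-/

set_option autoImplicit false
set_option linter.unusedSimpArgs false
set_option linter.unusedSectionVars false

namespace Cfsg.Agent.R2.F4P

open Cfsg Cfsg.Lie Module
open Cfsg.Agent.ChevalleyStructure.E6Min.Tables Cfsg.Agent.ChevalleyStructure.E6Min.Basic
open Cfsg.Agent.H952.F4 Cfsg.Agent.H952.F4.Jord Cfsg.Agent.H952.F4.FixV
open Cfsg.Agent.H163.E6 (V V')
open Cfsg.Agent.R2.F4M Cfsg.Agent.R2.GEO
open Cfsg.Agent.H65.E6Full (mem_Zgrp_iff IsFull)
open scoped Matrix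

universe u

section ring

variable {R : Type u} [CommRing R]

theorem zf_add (x y v w : I27 → R) : zf x y (v + w) = zf x y v + zf x y w := by
  simp only [zf, cr_add_right, tf_add_right]
  module

theorem zf_smul (x y : I27 → R) (c : R) (v : I27 → R) : zf x y (c • v) = c • zf x y v := by
  simp only [zf, cr_smul_right, tf_smul_right]
  module

theorem Wh.tfz {x y : I27 → R} (h : Wh x y) (v : I27 → R) : tf x (zf x y v) = tf x v := by
  have hxx : cr x x = 0 := by rw [cr_self, h.sx, smul_zero]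
  have h1 : tf x (cr x (cr y v)) = 0 := by rw [← tf_cr, hxx, tf_zero_left']
  have e : zf x y v = v + cr x (cr y v) + (-tf x v) • y + (tr1 (sh y) * tf x v) • x := by rw [zf]; module
  rw [e]
  simp only [tf_add_right, tf_smul_right, h1, h.T, h.xx]
  ring

theorem Wh.cr_cr_zero {x y : I27 → R} (h : Wh x y) {y' : I27 → R} (h' : Wh x y') : cr x (cr y y') = tf y y' • x := by
  have h1 := h.crxy y'
  rw [h'.xy, cr_zero_right', h'.T] at h1
  linear_combination (norm := module) h1

/-- composition -/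
theorem Wh.zf_zf {x y y' : I27 → R} (h : Wh x y) (h' : Wh x y') (v : I27 → R) :
    zf x y (zf x y' v) = zf x (y + y') v := by
  have hxx : cr x x = 0 := by rw [cr_self, h.sx, smul_zero]
  set τ := tf x v with hτ
  have e : zf x y' v = v + cr x (cr y' v) + (-τ) • y' + (tr1 (sh y') * τ) • x := by rw [zf]; module
  have h1 : cr y (cr x (cr y' v)) = (tf y (cr y' v)) • x - cr x (cr y (cr y' v)) := by
    rw [h.crxy, h'.tfb]; module
  have h2 : cr x (cr x (cr y (cr y' v))) = 0 := by rw [h.crx, h.tfb, zero_smul]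
  have h3 : cr x (cr y (zf x y' v)) = cr x (cr y v) + (-(τ * tf y y')) • x := by
    rw [e]
    simp only [cr_add_right, cr_smul_right, h.yx, cr_zero_right']
    have h4 : cr x (cr y (cr x (cr y' v))) = 0 := by
      rw [h1, sub_eq_add_neg, ← neg_one_smul R, cr_add_right, cr_smul_right, cr_smul_right, hxx, h2]
      module
    rw [h4, h.cr_cr_zero h']
    module
  have h5 : zf x y (zf x y' v) = zf x y' v + cr x (cr y (zf x y' v)) - tf x (zf x y' v) • y +
      (tr1 (sh y) * tf x (zf x y' v)) • x := rfl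
  rw [h5, h'.tfz, h3, e]
  have h6 : zf x (y + y') v = v + cr x (cr (y + y') v) - tf x v • (y + y') + (tr1 (sh (y + y')) * tf x v) • x := rfl
  rw [h6, sh_add, tr1_add, tr1_add, tr1_cr, h.ty, cr_add_left, cr_add_right, ← hτ]
  module

theorem zf_zero (x v : I27 → R) : zf x 0 v = v := by
  simp only [zf, cr_zero_left', cr_zero_right', sh_zero', tr1_zero']
  module

end ring

section field

variable {F : Type u} [Field F]

theorem sx_N {x : I27 → F} (hx : sh x = 0) : cubicT x = 0 := by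
  by_cases h0 : x = 0
  · have := N_smul (0 : F) (0 : I27 → F)
    rw [zero_smul] at this
    rw [h0, this]
    ring
  · have h1 := sh_sh x
    rw [hx, sh_zero'] at h1
    rcases smul_eq_zero.1 h1.symm with h | h
    · exact h
    · exact absurd h h0

theorem Wh.of {x y : I27 → F} (h0 : x ≠ 0) (hx : sh x = 0) (htx : tr1 x = 0) (hty : tr1 y = 0) (hxy : cr x y = 0) :
    Wh x y := by
  have hT : tf x y = 0 := by
    have := tr1_cr x y
    rw [hxy, tr1_zero', htx] at this
    linear_combination this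
  have hD : tf (sh y) x = 0 := by
    have := Jord.sh_cr x y
    rw [hxy, hx, sh_zero', cr_zero_left', tf_zero_left', zero_smul, zero_add, zero_add] at this
    rcases smul_eq_zero.1 this.symm with h | h
    · rw [tf_comm]; exact h
    · exact absurd h h0
  have hyx : cr y x = 0 := by rw [cr_comm, hxy]
  refine ⟨hx, htx, sx_N hx, hty, hxy, hD, ?_, hT, ?_, ?_⟩
  · have := cr_sh_cr y x
    rw [hyx, cr_zero_right', hD, zero_smul, add_zero] at this
    rcases smul_eq_zero.1 this.symm with h | h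
    · exact h
    · exact absurd h h0
  · have := tr1_sh x
    rw [hx, tr1_zero', htx] at this
    linear_combination this
  · have := cr_cr_self y x
    rw [hyx, cr_zero_right', htx, hty, tr1_zero', hD] at this
    linear_combination (norm := module) this

/-- the linearized cubic form -/
theorem Wh.D_zf {x y : I27 → F} (h : Wh x y) (v w : I27 → F) : tf (sh (zf x y v)) (zf x y w) = tf (sh v) w := by
  have hc : Wh (cst x) (cst y) := by
    refine ⟨?_, ?_, ?_, ?_, ?_, ?_, ?_, ?_, ?_, ?_⟩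
    · rw [cst_sh, h.sx]; funext a; simp [cst_apply]
    · rw [cst_tr1, h.tx, map_zero]
    · rw [cst_N, h.Nx, map_zero]
    · rw [cst_tr1, h.ty, map_zero]
    · rw [cst_cr, h.xy]; funext a; simp [cst_apply]
    · rw [cst_sh, cst_tf, h.D, map_zero]
    · rw [cst_N, h.Ny, map_zero]
    · rw [cst_tf, h.T, map_zero]
    · rw [cst_tf, h.xx, map_zero]
    · rw [cst_sh, cst_cr, h.xs, cst_tr1]
      funext a
      simp only [cst_apply, Pi.smul_apply, smul_eq_mul, map_mul, map_neg]
  have hz : ∀ v : I27 → F, zf (cst x) (cst y) (cst v) = cst (zf x y v) := by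
    intro v
    simp only [zf, cst_cr, cst_sh, cst_tf, cst_tr1]
    funext a
    simp only [cst_apply, Pi.add_apply, Pi.sub_apply, Pi.smul_apply, smul_eq_mul, map_add, map_sub, map_mul]
  have h1 := hc.N_zf (cst v + (Polynomial.X : Polynomial F) • cst w)
  rw [zf_add, zf_smul, hz, hz] at h1
  simp only [N_add, sh_smul, cst_sh, cst_N, N_smul, tf_smul_right, tf_smul_left, cst_tf, h.N_zf] at h1
  have h2 := congrArg (fun q : Polynomial F => q.coeff 1) h1
  have e1 : ∀ a : F, ((Polynomial.X : Polynomial F) * Polynomial.C a).coeff 1 = a := fun a => by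
    rw [show (1 : ℕ) = 0 + 1 from rfl, Polynomial.coeff_X_mul, Polynomial.coeff_C_zero]
  have e2 : ∀ a : F, ((Polynomial.X : Polynomial F) ^ 2 * Polynomial.C a).coeff 1 = 0 := fun a => by
    rw [Polynomial.coeff_X_pow_mul', if_neg (by norm_num)]
  have e3 : ∀ a : F, ((Polynomial.X : Polynomial F) ^ 3 * Polynomial.C a).coeff 1 = 0 := fun a => by
    rw [Polynomial.coeff_X_pow_mul', if_neg (by norm_num)]
  have e4 : ∀ a : F, (Polynomial.C a).coeff 1 = 0 := fun a => by
    rw [Polynomial.coeff_C, if_neg (by norm_num)]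
  simp only [Polynomial.coeff_add, e1, e2, e3, e4] at h2
  linear_combination h2

theorem Wh.neg {x y : I27 → F} (h0 : x ≠ 0) (h : Wh x y) : Wh x ((-1 : F) • y) :=
  Wh.of h0 h.sx h.tx (by rw [tr1_smul, h.ty, mul_zero]) (by rw [cr_smul_right, h.xy, smul_zero])

/-- `z_{x,y}` as a linear automorphism -/
noncomputable def ze (x y : I27 → F) (h0 : x ≠ 0) (h : Wh x y) : (I27 → F) ≃ₗ[F] (I27 → F) where
  toFun := zf x y
  map_add' := zf_add x y
  map_smul' c v := zf_smul x y c v
  invFun := zf x ((-1 : F) • y)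
  left_inv v := by
    rw [(h.neg h0).zf_zf h, show (-1 : F) • y + y = 0 by module, zf_zero]
  right_inv v := by
    rw [h.zf_zf (h.neg h0), show y + (-1 : F) • y = 0 by module, zf_zero]

theorem zf_u0 {x y : I27 → F} (h : Wh x y) : zf x y (u0 F) = u0 F := by
  have h1 : cr y (u0 F) = (-1 : F) • y := by
    rw [cr_comm y, cr_u0, h.ty]
    module
  have h2 : tf x (u0 F) = 0 := by rw [tf_comm, tf_u0, h.tx]
  rw [zf, h1, h2, cr_smul_right, h.xy]
  module

/-- **`z_{x,y}` belongs to `F₄(F)`** -/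
theorem exists_zx (hF : Full F) {x y : I27 → F} (h0 : x ≠ 0) (h : Wh x y) :
    ∃ g : ↥(chevF4.group F), ∀ v, Jr F g v = zf x y v := by
  set g0 : GL I27 F := Matrix.GeneralLinearGroup.mk'' (LinearMap.toMatrix' (ze x y h0 h : (I27 → F) →ₗ[F] (I27 → F)))
    (by
      rw [LinearMap.det_toMatrix']
      exact LinearEquiv.isUnit_det' _) with hg0
  have hv : ∀ v, (g0 : Matrix I27 I27 F) *ᵥ v = zf x y v := by
    intro v
    change LinearMap.toMatrix' (ze x y h0 h : (I27 → F) →ₗ[F] (I27 → F)) *ᵥ v = _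
    rw [LinearMap.toMatrix'_mulVec]
    rfl
  have hm : g0 ∈ Zgrp F := by
    rw [mem_Zgrp_iff]
    refine ⟨fun v => ?_, fun v w => ?_⟩
    · change cubicT ((g0 : Matrix I27 I27 F).mulVec v) = cubicT v
      rw [hv, h.N_zf]
    · rw [Cfsg.Agent.H163.E6.Der.DF_eq, Cfsg.Agent.H163.E6.Der.DF_eq, hv, hv, h.D_zf]
  obtain ⟨g, hg⟩ := hF ⟨g0, hm⟩ (by
    change (g0 : Matrix I27 I27 F) *ᵥ u0 F = u0 F
    rw [hv, zf_u0 h])
  refine ⟨g, fun v => ?_⟩
  rw [← V_zt, hg]
  exact hv v

/-- equivariance -/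
theorem zf_act (g : ↥(chevF4.group F)) (x y v : I27 → F) : zf (Jr F g x) (Jr F g y) (Jr F g v) = Jr F g (zf x y v) := by
  simp only [zf, Jr_cr, Jr_tf, Jr_sh, Jr_tr, map_add, map_sub, map_smul]

/-- the group `Z_x` -/
def Zx (x : I27 → F) (h0 : x ≠ 0) (hx : sh x = 0) (htx : tr1 x = 0) : Subgroup ↥(chevF4.group F) where
  carrier := {g | ∃ y, tr1 y = 0 ∧ cr x y = 0 ∧ ∀ v, Jr F g v = zf x y v}
  one_mem' := ⟨0, tr1_zero', cr_zero_right' x, fun v => by rw [Jr_one, zf_zero]⟩
  mul_mem' := by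
    rintro g g' ⟨y, h1, h2, h3⟩ ⟨y', h1', h2', h3'⟩
    refine ⟨y + y', by rw [tr1_add, h1, h1', add_zero], by rw [cr_add_right, h2, h2', add_zero], fun v => ?_⟩
    rw [Jr_mul, h3', h3, (Wh.of h0 hx htx h1 h2).zf_zf (Wh.of h0 hx htx h1' h2')]
  inv_mem' := by
    rintro g ⟨y, h1, h2, h3⟩
    have h := Wh.of h0 hx htx h1 h2
    refine ⟨(-1 : F) • y, by rw [tr1_smul, h1, mul_zero], by rw [cr_smul_right, h2, smul_zero], fun v => ?_⟩
    apply Jr_inj g
    rw [Jr_apply_inv, h3, h.zf_zf (h.neg h0), show y + (-1 : F) • y = 0 by module, zf_zero]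

/-- the stabilizer of `x` normalizes `Z_x` -/
theorem Zx_conj {x : I27 → F} {h0 : x ≠ 0} {hx : sh x = 0} {htx : tr1 x = 0} {g z : ↥(chevF4.group F)}
    (hg : Jr F g x = x) (hz : z ∈ Zx x h0 hx htx) : g * z * g⁻¹ ∈ Zx x h0 hx htx := by
  obtain ⟨y, h1, h2, h3⟩ := hz
  refine ⟨Jr F g y, by rw [Jr_tr, h1], ?_, fun v => ?_⟩
  · rw [← hg, Jr_cr, h2, map_zero]
  · rw [Jr_mul, Jr_mul, h3, ← zf_act, hg, Jr_apply_inv]

/-- `Z_x` has exponent `p` -/
theorem Zx_pow {x : I27 → F} {h0 : x ≠ 0} {hx : sh x = 0} {htx : tr1 x = 0} (p : ℕ) [CharP F p]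
    {z : ↥(chevF4.group F)} (hz : z ∈ Zx x h0 hx htx) : z ^ p = 1 := by
  obtain ⟨y, h1, h2, h3⟩ := hz
  have key : ∀ n : ℕ, ∀ v, Jr F (z ^ n) v = zf x ((n : F) • y) v := by
    intro n
    induction n with
    | zero => intro v; rw [pow_zero, Jr_one, Nat.cast_zero, zero_smul, zf_zero]
    | succ n ih =>
      intro v
      have hn : Wh x ((n : F) • y) :=
        Wh.of h0 hx htx (by rw [tr1_smul, h1, mul_zero]) (by rw [cr_smul_right, h2, smul_zero])
      rw [pow_succ, Jr_mul, h3, ih, hn.zf_zf (Wh.of h0 hx htx h1 h2)]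
      congr 1
      push_cast
      module
  refine Jr_faithful fun v => ?_
  rw [key, Jr_one, CharP.cast_eq_zero, zero_smul, zf_zero]

/-- the action on the vectors `v` with `x × v ∈ F x` -/
theorem Wh.zf_eq {x y : I27 → F} (h : Wh x y) {v : I27 → F} {c : F} (hv : cr x v = c • x) (htv : tr1 v = 0) :
    zf x y v = v + tf y v • x := by
  have hxv : tf x v = 0 := by
    have := tr1_cr x v
    rw [hv, tr1_smul, h.tx, htv] at this
    linear_combination this
  have h1 := h.crxy v
  rw [hv, cr_smul_right, h.yx, hxv] at h1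
  rw [zf, hxv]
  linear_combination (norm := module) h1

theorem finrank_inf_ker_le {W : Submodule F (I27 → F)} (l : (I27 → F) →ₗ[F] F) :
    finrank F W ≤ finrank F (W ⊓ LinearMap.ker l : Submodule F (I27 → F)) + 1 := by
  have h1 := Submodule.finrank_sup_add_finrank_inf_eq W (LinearMap.ker l)
  have h2 := LinearMap.finrank_range_add_finrank_ker l
  have h3 : finrank F (LinearMap.range l) ≤ 1 := (Submodule.finrank_le _).trans (by rw [finrank_self])
  have h4 : finrank F (W ⊔ LinearMap.ker l : Submodule F (I27 → F)) ≤ finrank F (I27 → F) := Submodule.finrank_le _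
  omega

theorem Wh.eq_cr {x y v : I27 → F} (h : Wh x y) (hv : tf x v ≠ 0)
    (h4 : tf x v • y = cr x (cr y v) + (tr1 (sh y) * tf x v) • x) :
    crB F x ((tf x v)⁻¹ • cr y v + (tr1 (sh y) * (tf x v)⁻¹) • cr x v) = y := by
  have h5 : (tf x v)⁻¹ • (tf x v • y) = y := by rw [smul_smul, inv_mul_cancel₀ hv, one_smul]
  rw [crB_apply, cr_add_right, cr_smul_right, cr_smul_right, h.crx]
  refine Eq.trans ?_ h5
  rw [h4]
  module

/-- **(Z')** : a space `U ∋ x` of dimension at most 7 in `{y ∈ J₀ : x × y ∈ F x}` is fixed pointwise by an element `≠ 1` of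
`Z_x` -/
theorem exists_fix (hF : Full F) {x : I27 → F} (h0 : x ≠ 0) (hx : sh x = 0) (htx : tr1 x = 0) {U : Submodule F (I27 → F)}
    (hxU : x ∈ U) (hU : ∀ y ∈ U, tr1 y = 0 ∧ ∃ c : F, cr x y = c • x) (h7 : finrank F U ≤ 7) :
    ∃ z ∈ Zx x h0 hx htx, z ≠ 1 ∧ ∀ y ∈ U, Jr F z y = y := by
  -- a complement of `x` in `U`
  obtain ⟨U', hU'⟩ := Submodule.exists_isCompl (Submodule.span F {x} : Submodule F (I27 → F))
  set U1 := U ⊓ U' with hU1
  have hsum : ∀ u ∈ U, ∃ c : F, ∃ w ∈ U1, u = c • x + w := by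
    intro u hu
    have : u ∈ Submodule.span F {x} ⊔ U' := by rw [hU'.sup_eq_top]; trivial
    obtain ⟨a, ha, w, hw, rfl⟩ := Submodule.mem_sup.1 this
    obtain ⟨c, rfl⟩ := Submodule.mem_span_singleton.1 ha
    refine ⟨c, w, ⟨?_, hw⟩, rfl⟩
    have := U.sub_mem hu (U.smul_mem c hxU)
    simpa using this
  have hU1d : finrank F U1 ≤ 6 := by
    have h1 : U1 < U := by
      refine lt_of_le_of_ne inf_le_left fun h => ?_
      have h2 : x ∈ U' := (h ▸ hxU : x ∈ U1).2
      have h3 : x ∈ Submodule.span F {x} ⊓ U' := ⟨Submodule.mem_span_singleton_self x, h2⟩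
      rw [hU'.inf_eq_bot] at h3
      exact h0 h3
    have := Submodule.finrank_lt_finrank_of_lt h1
    omega
  -- the vectors `y`
  set Y : Submodule F (I27 → F) := (kr x ⊓ LinearMap.ker (trL F)) ⊓ perp U1 with hY
  have hYd : 10 ≤ finrank F Y := by
    have h1 := finrank_kr_white h0 hx
    have h2 := finrank_inf_ker_le (W := kr x) (trL F)
    have h3 := finrank_perp U1
    have h4 := Submodule.finrank_sup_add_finrank_inf_eq (kr x ⊓ LinearMap.ker (trL F)) (perp U1)
    have h5 : finrank F ((kr x ⊓ LinearMap.ker (trL F)) ⊔ perp U1 : Submodule F (I27 → F)) ≤ 27 := by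
      refine (Submodule.finrank_le _).trans ?_
      rw [finrank_fintype_fun_eq_card]
      decide
    rw [hY]
    omega
  set K : Submodule F (I27 → F) := LinearMap.range (crB F x) ⊓ LinearMap.ker (trL F) with hK
  have hKd : finrank F K ≤ 9 := by
    have h1 := LinearMap.finrank_range_add_finrank_ker (crB F x)
    have h2 : finrank F (LinearMap.ker (crB F x)) = 17 := finrank_kr_white h0 hx
    rw [finrank_fintype_fun_eq_card] at h1
    have h3 : Fintype.card I27 = 27 := by decide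
    have h4 : K < LinearMap.range (crB F x) := by
      refine lt_of_le_of_ne inf_le_left fun h => ?_
      -- a vector with `T(x, v) ≠ 0`
      apply h0
      refine tf_nondeg fun v => ?_
      have h5 : crB F x v ∈ K := by rw [h]; exact LinearMap.mem_range_self _ v
      have h6 : tr1 (cr x v) = 0 := h5.2
      rw [tr1_cr, htx] at h6
      linear_combination -h6
    have := Submodule.finrank_lt_finrank_of_lt h4
    omega
  obtain ⟨y, hyY, hyK⟩ : ∃ y ∈ Y, y ∉ K := by
    by_contra hc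
    push Not at hc
    have := Submodule.finrank_mono (show Y ≤ K from hc)
    omega
  have hty : tr1 y = 0 := hyY.1.2
  have hxy : cr x y = 0 := mem_kr.1 hyY.1.1
  have hW := Wh.of h0 hx htx hty hxy
  obtain ⟨g, hg⟩ := exists_zx hF h0 hW
  refine ⟨g, ⟨y, hty, hxy, hg⟩, fun h1 => ?_, fun u hu => ?_⟩
  · -- `z ≠ 1`
    obtain ⟨v, hv⟩ : ∃ v, tf x v ≠ 0 := by
      by_contra hc
      push Not at hc
      exact h0 (tf_nondeg hc)
    have h2 := hg v
    rw [h1, Jr_one, zf] at h2
    apply hyK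
    refine ⟨?_, hty⟩
    have h4 : tf x v • y = cr x (cr y v) + (tr1 (sh y) * tf x v) • x := by
      linear_combination (norm := module) h2
    have h3 := hW.eq_cr hv h4
    exact ⟨_, h3⟩
  · obtain ⟨c, w, hw, rfl⟩ := hsum u hu
    obtain ⟨htu, d, hd⟩ := hU _ hu
    rw [hg, hW.zf_eq hd htu, tf_add_right, tf_smul_right, tf_comm y x, hW.T, tf_comm y w, (hyY.2 : y ∈ perp U1) w hw]
    module

end field

end Cfsg.Agent.R2.F4P
end

-- part: R2/F4N/White
section
/-!
# S5931: no root elements, no white subspaces over algebraic extension fields (lead, box F4N)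

* `nrF4_closed` : no one-parameter group `1 + t N` of `Aut(J_k)` commutes with `L`;
* `white_six`, `white_four` : no white `L`-stable subspaces of dimension 6, 4 (every characteristic), if `J_k^L = k u0`;
* `white` : no white `L`-stable subspaces (`p` odd).
-/

set_option autoImplicit false
set_option linter.unusedSectionVars false

namespace Cfsg.Agent.R2.F4N

open Cfsg Cfsg.Lie Module Matrix
open Cfsg.Agent.ChevalleyStructure
open Cfsg.Agent.ChevalleyStructure.E6Min.Basic
open Cfsg.Agent.H163.E6 Cfsg.Agent.H65.E6Emb Cfsg.Agent.R2.H22.Norm Cfsg.Agent.R2.H22.Root Cfsg.Agent.H163.E6.Act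
open Cfsg.Agent.H952.F4 (u0 tr1 tf sh cr)
open Cfsg.Agent.H952.F4.Jord
open Cfsg.Agent.R2.F4M
open Cfsg.Agent.R2.H9.E6
open Finset
open scoped Matrix

universe u v w

section cfg

variable {F : Type u} [Field F] [Fintype F] {K : Type w} [Field K] [Fintype K] {p a b : ℕ}
  {H : Subgroup ↥(chevF4.group F)} {φ : ProjectiveSpecialLinearGroup (Fin 2) K →* ↥(chevF4.group F)}

/-- **no root elements commute with `L`**, over every algebraic extension field -/
theorem nrF4_closed (h : _root_.Cfsg.Agent.R2.F4M.Cfg p a b H φ) {k : Type v} [Field k] [Algebra F k]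
    [Algebra.IsAlgebraic F k] {N : Matrix I27 I27 k} (hN : N * N = 0)
    (hz : ∀ t : k, ∃ z : ↥(Zgrp k), _root_.Cfsg.Agent.R2.H22.Root.mt z = 1 + t • N) (hu : N *ᵥ u0 k = 0)
    (hc : ∀ x, _root_.Cfsg.Agent.R2.H22.Root.mt (emb (algebraMap F k) (zt F (φ x))) * N = N * _root_.Cfsg.Agent.R2.H22.Root.mt (emb (algebraMap F k) (zt F (φ x)))) : N = 0 := by
  classical
  choose z hz using hz
  let S : Set k := Set.range fun q : I27 × I27 => N q.1 q.2
  have hS : S.Finite := Set.finite_range _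
  let L : IntermediateField F k := IntermediateField.adjoin F S
  have hfd : FiniteDimensional F L := by
    have : Finite S := hS
    exact IntermediateField.finiteDimensional_adjoin fun x _ => (Algebra.IsAlgebraic.isAlgebraic x).isIntegral
  have hfin : Finite L := Module.finite_of_finite F
  have hmem : ∀ i j, N i j ∈ L := fun i j => IntermediateField.subset_adjoin F S ⟨(i, j), rfl⟩
  let N0 : Matrix I27 I27 L := Matrix.of fun i j => ⟨N i j, hmem i j⟩
  let j : L →+* k := algebraMap L k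
  have hj : N0.map j = N := by
    ext i l
    rfl
  have hju : (fun i => j (u0 L i)) = u0 k := by
    funext i
    unfold u0
    rw [apply_ite j, map_one, map_zero]
  have hN0 : N0 * N0 = 0 := by
    apply Matrix.map_injective j.injective
    show (N0 * N0).map j = (0 : Matrix I27 I27 L).map j
    rw [Matrix.map_mul, hj, hN, Matrix.map_zero j (map_zero j)]
  have hu0 : N0 *ᵥ u0 L = 0 := by
    have h1 := map_mulVec j N0 (u0 L)
    rw [hj, hju, hu] at h1
    funext i
    exact j.injective (by rw [Pi.zero_apply, map_zero]; exact (congrFun h1 i).symm)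
  have hz0 : ∀ t : L, ∃ z0 : ↥(Zgrp L), emb j z0 = z (j t) ∧ _root_.Cfsg.Agent.R2.H22.Root.mt z0 = 1 + t • N0 := by
    intro t
    refine Cfsg.Agent.H65.E6Full.exists_of_map_all j (z (j t)) (1 + t • N0) ?_
    change _root_.Cfsg.Agent.R2.H22.Root.mt (z (j t)) = _
    rw [hz, ← hj]
    ext i l
    simp only [Matrix.map_apply, Matrix.add_apply, Matrix.smul_apply, smul_eq_mul, map_add, map_mul,
      Matrix.one_apply, apply_ite j, map_one, map_zero]
  choose z0 hz0 hz0' using hz0
  have h0 : N0 = 0 := by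
    refine nrF4 h (algebraMap F L) hN0 z0 hz0' hu0 fun t x => ?_
    apply emb_injective j
    rw [map_mul, map_mul, hz0, emb_emb]
    have h1 : j.comp (algebraMap F L) = algebraMap F k := rfl
    rw [h1]
    apply mt_inj
    rw [mt_mul, mt_mul, hz, mul_add, add_mul, mul_one, one_mul, mul_smul_comm, smul_mul_assoc, hc]
  rw [← hj, h0, Matrix.map_zero j (map_zero j)]

/-- the embedding of `L` into the big group -/
noncomputable abbrev ψk (k : Type v) [Field k] [Algebra F k]
    (φ : ProjectiveSpecialLinearGroup (Fin 2) K →* ↥(chevF4.group F)) :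
    ProjectiveSpecialLinearGroup (Fin 2) K →* ↥(Zgrp k) := (emb (algebraMap F k)).comp ((zt F).comp φ)

/-- `J_k^L = k u0` -/
def FixU (k : Type v) [Field k] [Algebra F k]
    (φ : ProjectiveSpecialLinearGroup (Fin 2) K →* ↥(chevF4.group F)) : Prop :=
  ∀ x : I27 → k, (∀ a, V k (ψk k φ a) x = x) → ∃ c : k, x = c • u0 k

variable {k : Type u} [Field k] [Algebra F k]

theorem ψk_u0 (φ : ProjectiveSpecialLinearGroup (Fin 2) K →* ↥(chevF4.group F)) (a : ProjectiveSpecialLinearGroup (Fin 2) K) :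
    V k (ψk k φ a) (u0 k) = u0 k := by
  have h1 := V_emb (algebraMap F k) (zt F (φ a)) (u0 F)
  have h2 : (fun i => algebraMap F k (u0 F i)) = u0 k := by
    funext i
    unfold u0
    rw [apply_ite (algebraMap F k), map_one, map_zero]
  rw [h2, V_zt, Jr_u0, h2] at h1
  exact h1

theorem u0_ne : u0 k ≠ 0 := by
  intro h
  have := congrFun h (0, 0, 0)
  simp [u0] at this

/-- a nilpotent operator commuting with `L` kills `u0` -/
theorem N_u0_eq (hfix : FixU k φ) {N : Matrix I27 I27 k} (hN : N * N = 0)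
    (hc : ∀ x, _root_.Cfsg.Agent.R2.H22.Root.mt (ψk k φ x) * N = N * _root_.Cfsg.Agent.R2.H22.Root.mt (ψk k φ x)) : N *ᵥ u0 k = 0 := by
  obtain ⟨c, hc'⟩ := hfix (N *ᵥ u0 k) fun a => by
    show _root_.Cfsg.Agent.R2.H22.Root.mt (ψk k φ a) *ᵥ (N *ᵥ u0 k) = _
    rw [Matrix.mulVec_mulVec, hc, ← Matrix.mulVec_mulVec]
    congr 1
    exact ψk_u0 φ a
  have h1 : N *ᵥ (N *ᵥ u0 k) = 0 := by
    rw [Matrix.mulVec_mulVec, hN, Matrix.zero_mulVec]
  rw [hc', Matrix.mulVec_smul, hc', smul_smul] at h1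
  have h2 : c * c = 0 := (smul_eq_zero.1 h1).resolve_right u0_ne
  have h3 : c = 0 := mul_self_eq_zero.1 h2
  rw [hc', h3, zero_smul]

/-- **no white stable subspaces of dimension 6** -/
theorem white_six [Algebra.IsAlgebraic F k] (h : _root_.Cfsg.Agent.R2.F4M.Cfg p a b H φ) (hfix : FixU k φ) {W : Submodule k (I27 → k)}
    (h6 : finrank k W = 6) (hW : ∀ x ∈ W, sh x = 0) (hst : ∀ x, ∀ w ∈ W, V k (ψk k φ x) w ∈ W) : False := by
  obtain ⟨N, hN, hNc⟩ := Cfsg.Agent.H65.E6Root.root6 (V k) (Or.inl rfl) (B := (ψk k φ).range) (by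
      have h1 := psl_perfect (K := K) (by have := h.seven; omega)
      rw [commutator_def] at h1
      rw [MonoidHom.range_eq_map, ← Subgroup.map_commutator, h1])
    h6 (ts_of hW) (by
      rintro _ ⟨x, rfl⟩ w hw
      exact hst x w hw)
  have hNc' : ∀ x, _root_.Cfsg.Agent.R2.H22.Root.mt (ψk k φ x) * N = N * _root_.Cfsg.Agent.R2.H22.Root.mt (ψk k φ x) := fun x => hNc _ ⟨x, rfl⟩
  refine hN.ne (nrF4_closed h hN.sq (fun t => ?_) (N_u0_eq hfix hN.sq hNc') hNc')
  obtain ⟨g, hg, e⟩ := hN.mem t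
  exact ⟨⟨g, hg⟩, e⟩

/-- **no white stable subspaces of dimension 4** -/
theorem white_four [Algebra.IsAlgebraic F k] (h : _root_.Cfsg.Agent.R2.F4M.Cfg p a b H φ) (hfix : FixU k φ) {W : Submodule k (I27 → k)}
    (h4 : finrank k W = 4) (hW : ∀ x ∈ W, sh x = 0) (hst : ∀ x, ∀ w ∈ W, V k (ψk k φ x) w ∈ W) : False := by
  obtain ⟨Y, n, n', hWY, HY⟩ := Cfsg.Agent.R2.GEO.exists_hull_four (psl_perfect (K := K) (by have := h.seven; omega))
    (ψk k φ) (Or.inl ⟨rfl, rfl⟩) hst h4 hW
  exact white_six h hfix HY.dim HY.ts HY.stab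

theorem two_ne (h : _root_.Cfsg.Agent.R2.F4M.Cfg p a b H φ) (hp : p ≠ 2) : (2 : K) ≠ 0 ∧ (2 : k) ≠ 0 := by
  have hcF := h.charF
  have hck : CharP k p := charP_of_injective_ringHom (algebraMap F k).injective p
  have hcK := h.charK
  refine ⟨fun h0 => ?_, fun h0 => ?_⟩
  · have h1 : ((2 : ℕ) : K) = 0 := by exact_mod_cast h0
    rw [CharP.cast_eq_zero_iff K p] at h1
    exact hp ((Nat.prime_dvd_prime_iff_eq h.prime Nat.prime_two).1 h1)
  · have h1 : ((2 : ℕ) : k) = 0 := by exact_mod_cast h0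
    rw [CharP.cast_eq_zero_iff k p] at h1
    exact hp ((Nat.prime_dvd_prime_iff_eq h.prime Nat.prime_two).1 h1)

theorem white_three [Algebra.IsAlgebraic F k] (h : _root_.Cfsg.Agent.R2.F4M.Cfg p a b H φ) (hp : p ≠ 2) (hfix : FixU k φ)
    {W : Submodule k (I27 → k)}
    (h3 : finrank k W = 3) (hW : ∀ x ∈ W, sh x = 0) (hst : ∀ x, ∀ w ∈ W, V k (ψk k φ x) w ∈ W) : False := by
  obtain ⟨h2, h2'⟩ := two_ne (k := k) h hp
  obtain ⟨N, hN, hNc⟩ := Cfsg.Agent.H65.E6Root.root3 (V k) (Or.inl rfl) (B := (ψk k φ).range) (by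
      rintro θ ⟨_, x, rfl⟩
      exact psl_no_two (by have := h.seven; omega) h2 h2' (θ.comp (ψk k φ).rangeRestrict) x)
    h3 (ts_of hW) (by
      rintro _ ⟨x, rfl⟩ w hw
      exact hst x w hw)
  have hNc' : ∀ x, _root_.Cfsg.Agent.R2.H22.Root.mt (ψk k φ x) * N = N * _root_.Cfsg.Agent.R2.H22.Root.mt (ψk k φ x) := fun x => hNc _ ⟨x, rfl⟩
  refine hN.ne (nrF4_closed h hN.sq (fun t => ?_) (N_u0_eq hfix hN.sq hNc') hNc')
  obtain ⟨g, hg, e⟩ := hN.mem t
  exact ⟨⟨g, hg⟩, e⟩

/-- the two embeddings agree -/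
theorem zt_emb (f : F →+* k) (g : ↥(chevF4.group F)) :
    zt k (Cfsg.Agent.GpExc.Field.emb Cfsg.Agent.H952.F4.hF4 f g) = emb f (zt F g) := by
  apply Subtype.ext
  apply Units.ext
  rw [coe_emb]
  exact Cfsg.Agent.H952.F4.JMod.map_isJ f isJ_rJ isJ_rJ g

theorem V_ψk (φ : ProjectiveSpecialLinearGroup (Fin 2) K →* ↥(chevF4.group F)) (a : ProjectiveSpecialLinearGroup (Fin 2) K)
    (x : I27 → k) : V k (ψk k φ a) x =
      Jr k (Cfsg.Agent.GpExc.Field.emb Cfsg.Agent.H952.F4.hF4 (algebraMap F k) (φ a)) x := by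
  rw [← V_zt, zt_emb]
  rfl

theorem V'_ψk (φ : ProjectiveSpecialLinearGroup (Fin 2) K →* ↥(chevF4.group F)) (a : ProjectiveSpecialLinearGroup (Fin 2) K)
    (x : I27 → k) : V' k (ψk k φ a) x = V k (ψk k φ a) x := by
  rw [V_ψk, ← V'_zt, zt_emb]
  rfl

/-- a white vector is not fixed by `L` -/
theorem white_fixed (hfix : FixU k φ) {x : I27 → k} (hx : sh x = 0) (h : ∀ a, V k (ψk k φ a) x = x) : x = 0 := by
  obtain ⟨c, rfl⟩ := hfix x h
  rw [sh_smul, sh_u0, smul_eq_zero] at hx
  rcases hx with hx | hx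
  · rw [pow_eq_zero_iff two_ne_zero] at hx
    rw [hx, zero_smul]
  · exact absurd hx u0_ne

theorem white_le_two (h : _root_.Cfsg.Agent.R2.F4M.Cfg p a b H φ) (hp : p ≠ 2) (hfix : FixU k φ) {W : Submodule k (I27 → k)}
    (h2 : finrank k W = 1 ∨ finrank k W = 2) (hW : ∀ x ∈ W, sh x = 0) (hst : ∀ x, ∀ w ∈ W, V k (ψk k φ x) w ∈ W) :
    False := by
  obtain ⟨e2, e2'⟩ := two_ne (k := k) h hp
  have h7 := h.seven
  have h3 := Cfsg.Agent.R2.GEO.trivial_of_dim (psl_perfect (K := K) (by omega)) (fun θ => psl_no_two (by omega) e2 e2' θ)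
    ((V k).comp (ψk k φ)) hst h2
  have h4 : W ≠ ⊥ := by
    rintro rfl
    rw [finrank_bot] at h2
    omega
  obtain ⟨u, hu, hu0⟩ := Submodule.exists_mem_ne_zero_of_ne_bot h4
  exact hu0 (white_fixed hfix (hW u hu) fun a => h3 a u hu)

open Cfsg.Agent.R2.GEO Cfsg.Agent.H203.E6 in
theorem white_five [Algebra.IsAlgebraic F k] (h : _root_.Cfsg.Agent.R2.F4M.Cfg p a b H φ) (hp : p ≠ 2) (hfix : FixU k φ)
    {W : Submodule k (I27 → k)}
    (h5 : finrank k W = 5) (hW : ∀ x ∈ W, sh x = 0) (hst : ∀ x, ∀ w ∈ W, V k (ψk k φ x) w ∈ W) : False := by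
  obtain ⟨e2, e2'⟩ := two_ne (k := k) h hp
  have h7 := h.seven
  have hA := psl_perfect (K := K) (by omega)
  have hTS : Cfsg.Agent.H203.E6.TS W := fun w hw => (singular_iff w).2 (hW w hw)
  obtain ⟨g, hg, he⟩ := exists_four hTS (by rw [h5]; norm_num)
  rcases le_or_le (hTS.mp hg) he with hle | hle
  · -- inside a six-space
    have hH := hull_of hA (ψk k φ) hg fun a => hull_stab hg he hle (ψk k φ a).2 (stab_mp (ψk k φ) hst a)
    exact white_six h hfix hH.dim hH.ts hH.stab
  · -- maximal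
    have h6 : Cfsg.Agent.H203.E6.mp g W = _root_.Cfsg.Agent.R2.GEO.sup k L5 :=
      Submodule.eq_of_le_of_finrank_eq hle (by rw [finrank_mp, h5, finrank_L5])
    have h8 : finrank k (Uc W) = 2 := by
      have h9 := finrank_Uc (F := k) ⟨g, hg⟩ W
      change finrank k (Uc (Cfsg.Agent.H203.E6.mp g W)) = _ at h9
      rw [← h9, h6, Uc_L5, finrank_M2]
    have hst' : ∀ a, ∀ u ∈ Uc W, V' k (ψk k φ a) u ∈ Uc W := by
      intro a u hu
      have h9 := (Uc_act (ψk k φ a)).2 hu
      rwa [stab_mp (ψk k φ) hst a] at h9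
    have h9 := trivial_of_dim hA (fun θ => psl_no_two (by omega) e2 e2' θ) ((V' k).comp (ψk k φ)) hst' (Or.inr h8)
    have h10 : Uc W ≤ k ∙ u0 k := by
      intro u hu
      obtain ⟨c, hc⟩ := hfix u fun a => by
        rw [← V'_ψk]
        exact h9 a u hu
      rw [hc]
      exact Submodule.smul_mem _ _ (Submodule.mem_span_singleton_self _)
    have h11 := Submodule.finrank_mono h10
    rw [finrank_span_singleton u0_ne, h8] at h11
    omega

/-- **WHITE** : no white stable subspaces, `p` odd -/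
theorem white [Algebra.IsAlgebraic F k] (h : _root_.Cfsg.Agent.R2.F4M.Cfg p a b H φ) (hp : p ≠ 2) (hfix : FixU k φ)
    {W : Submodule k (I27 → k)} (hW : ∀ x ∈ W, sh x = 0) (hst : ∀ x, ∀ w ∈ W, V k (ψk k φ x) w ∈ W) : W = ⊥ := by
  by_contra hne
  have h0 : finrank k W ≠ 0 := fun h0 => hne (Submodule.finrank_eq_zero.1 h0)
  have h6 := Cfsg.Agent.R2.GEO.finrank_le_six hW
  have h7 : finrank k W = 1 ∨ finrank k W = 2 ∨ finrank k W = 3 ∨ finrank k W = 4 ∨ finrank k W = 5 ∨
      finrank k W = 6 := by omega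
  rcases h7 with h7 | h7 | h7 | h7 | h7 | h7
  · exact white_le_two h hp hfix (Or.inl h7) hW hst
  · exact white_le_two h hp hfix (Or.inr h7) hW hst
  · exact white_three h hp hfix h7 hW hst
  · exact white_four h hfix h7 hW hst
  · exact white_five h hp hfix h7 hW hst
  · exact white_six h hfix h7 hW hst

end cfg

end Cfsg.Agent.R2.F4N
end

private theorem dce_4fec6dec7d7f : _root_.True := by
  try have : _root_.True := by simp only [_root_.Cfsg.Agent.R2.F4P.zf.eq_1]
  exact _root_.True.intro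
end

-- part: R2/F4P/Mn
section
prune_inst 0x420044010220000081800000000000400000490000044006c20010200c06620a94420010410000140880c543001002001100010420800000a203800011b00a0800110060110ac04140081800080000000000000000000000000000000010004000000000
set_option linter.all false
open scoped Cfsg.Agent.FastGrp

/-!
# S5931, p = 2: a white submodule of minimal dimension (helper20)

`χ : SL₂(K) →* Zgrp k` preserving the unit; `JL χ` : the vectors fixed by `χ` are the multiples of the unit.
* `exists_white` : there is a white submodule `W ≤ J₀` with `dim W = 2 ^ n ≥ 2` and no submodule of `J₀` of smaller dimension.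
-/

set_option autoImplicit false
set_option linter.unusedSectionVars false

namespace Cfsg.Agent.R2.F4P

open Module Matrix
open Cfsg.Lie
open Cfsg.Agent.ChevalleyStructure.E6Min.Basic (Zgrp)
open Cfsg.Agent.H943.SL2Rel Cfsg.Agent.H943.SL2Mod Cfsg.Agent.H943.RepAdd
open Cfsg.Agent.R2.H28.SL2 Cfsg.Agent.R2.SL2 Cfsg.Agent.R2.GEO Cfsg.Agent.R2.H6P2
open Cfsg.Agent.H952.F4 (sh cr tf tr1 u0)
open Cfsg.Agent.H952.F4.Jord
open Cfsg.Agent.H952.F4.FixV (W0 mem_W0 finrank_W0)
open Cfsg.Agent.H163.E6 (V V' TS)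

universe u v w

variable {k : Type u} [Field k] {K : Type w} [Field K]

/-- the hypotheses on `χ` -/
structure JL (χ : SpecialLinearGroup (Fin 2) K →* ↥(Zgrp k)) : Prop where
  u : ∀ g, V k (χ g) (u0 k) = u0 k
  dual : ∀ g x, V' k (χ g) x = V k (χ g) x
  fix : ∀ v, (∀ g, V k (χ g) v = v) → ∃ c : k, v = c • u0 k

/-- the representation of `SL₂(K)` -/
noncomputable abbrev RR (χ : SpecialLinearGroup (Fin 2) K →* ↥(Zgrp k)) :
    Representation k (SpecialLinearGroup (Fin 2) K) (I27 → k) := rp (V k) χ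

variable {χ : SpecialLinearGroup (Fin 2) K →* ↥(Zgrp k)}

theorem JL.sh (h : JL χ) (g : SpecialLinearGroup (Fin 2) K) (x : I27 → k) : sh (RR χ g x) = RR χ g (sh x) := by
  rw [rp_apply, pair_sh (Or.inl ⟨rfl, rfl⟩) (χ g) x, h.dual]
  rfl

theorem JL.cr (h : JL χ) (g : SpecialLinearGroup (Fin 2) K) (x y : I27 → k) :
    cr (RR χ g x) (RR χ g y) = RR χ g (cr x y) := by
  rw [rp_apply, rp_apply, pair_cr (Or.inl ⟨rfl, rfl⟩) (χ g) x y, h.dual]
  rfl

theorem JL.tf (h : JL χ) (g : SpecialLinearGroup (Fin 2) K) (x y : I27 → k) : tf (RR χ g x) (RR χ g y) = tf x y := by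
  have h1 := pair_tf (k := k) (Or.inl ⟨rfl, rfl⟩) (χ g) x y
  rw [h.dual] at h1
  exact h1

theorem JL.tr (h : JL χ) (g : SpecialLinearGroup (Fin 2) K) (x : I27 → k) : tr1 (RR χ g x) = tr1 x := by
  have h1 := h.tf g (u0 k) x
  have h2 : RR χ g (u0 k) = u0 k := h.u g
  rw [h2, tf_u0, tf_u0] at h1
  exact h1

theorem stb_W0 (h : JL χ) : Stb (RR χ) (W0 k) := by
  intro g w hw
  rw [mem_W0] at hw ⊢
  rw [h.tr, hw]

section two

variable [CharP k 2]

theorem three_eq : (3 : k) = 1 := by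
  have h : (2 : k) = 0 := CharTwo.two_eq_zero
  linear_combination h

/-- a fixed vector of trace zero vanishes -/
theorem JL.fix0 (h : JL χ) {v : I27 → k} (hv : ∀ g, RR χ g v = v) (h0 : v ∈ W0 k) : v = 0 := by
  obtain ⟨c, rfl⟩ := h.fix v hv
  rw [mem_W0, tr1_smul, tr1_u0, three_eq, mul_one] at h0
  rw [h0, zero_smul]

/-- the quadratic map `x ↦ x^# + s(x) 1` on `J₀` -/
def nu (x : I27 → k) : I27 → k := sh x + tr1 (sh x) • u0 k

theorem nu_smul (c : k) (x : I27 → k) : nu (c • x) = c ^ 2 • nu x := by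
  rw [nu, nu, sh_smul, tr1_smul]
  module

theorem nu_zero : nu (0 : I27 → k) = 0 := by
  rw [nu, sh_zero', tr1_zero', zero_smul, add_zero]

theorem JL.nu (h : JL χ) (g : SpecialLinearGroup (Fin 2) K) (x : I27 → k) : nu (RR χ g x) = RR χ g (nu x) := by
  have h2 : RR χ g (u0 k) = u0 k := h.u g
  rw [F4P.nu, F4P.nu, h.sh, h.tr, map_add, map_smul, h2]

/-- the additivity of `nu`, if `x × y = T(x, y) 1` -/
theorem nu_add {x y : I27 → k} (hcr : cr x y = tf x y • u0 k) : nu (x + y) = nu x + nu y := by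
  rw [nu, nu, nu, sh_add, hcr, tr1_add, tr1_add, tr1_smul, tr1_u0, three_eq]
  have h : (2 : k) = 0 := CharTwo.two_eq_zero
  have h2 : tf x y • u0 k + tf x y • u0 k = 0 := by rw [← two_smul k, smul_smul, h, zero_mul, zero_smul]
  linear_combination (norm := module) h2

theorem cr_eq_zero_iff {x y : I27 → k} (h : cr x y + tf x y • u0 k = 0) : cr x y = tf x y • u0 k := by
  have h2 : (2 : k) = 0 := CharTwo.two_eq_zero
  have h3 : tf x y • u0 k + tf x y • u0 k = 0 := by rw [← two_smul k, smul_smul, h2, zero_mul, zero_smul]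
  linear_combination (norm := module) h - h3

/-- the basic identity -/
theorem nu_id {x y : I27 → k} (hcr : cr x y = tf x y • u0 k) : tf x y • nu x = cubicT x • y + tf (sh x) y • x := by
  have h1 := cr_sh_cr x y
  rw [hcr, cr_smul_right, cr_comm, cr_u0] at h1
  have h2 : (2 : k) = 0 := CharTwo.two_eq_zero
  have h3 : tf x y • sh x + tf x y • sh x = 0 := by rw [← two_smul k, smul_smul, h2, zero_mul, zero_smul]
  rw [nu]
  linear_combination (norm := module) h1 + h3

/-- if `nu = 0` on `W ≤ J₀` then `T = 0` on `W` -/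
theorem tf_zero_of_nu {W : Submodule k (I27 → k)} (hW : W ≤ W0 k) (hnu : ∀ x ∈ W, nu x = 0) :
    (∀ x ∈ W, tr1 (sh x) = 0) ∧ ∀ x ∈ W, ∀ y ∈ W, tf x y = 0 := by
  have h2 : (2 : k) = 0 := CharTwo.two_eq_zero
  have key : ∀ x ∈ W, tr1 (sh x) = 0 := by
    intro x hx
    have h1 : sh x = (-tr1 (sh x)) • u0 k := by
      have := hnu x hx
      rw [nu] at this
      linear_combination (norm := module) this
    have h3 := sh_sh x
    rw [h1, sh_smul, sh_u0] at h3
    have h4 := congrArg tr1 h3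
    rw [tr1_smul, tr1_smul, tr1_u0, three_eq, (mem_W0 x).1 (hW hx), mul_zero, mul_one] at h4
    exact neg_eq_zero.1 (pow_eq_zero_iff (two_ne_zero) |>.1 h4)
  refine ⟨key, fun x hx y hy => ?_⟩
  have h1 := tr1_cr x y
  have h3 := key (x + y) (W.add_mem hx hy)
  rw [sh_add, tr1_add, tr1_add, key x hx, key y hy, h1, (mem_W0 x).1 (hW hx), zero_mul] at h3
  linear_combination -h3

end two

end Cfsg.Agent.R2.F4P

private theorem dce_533a12cd4523 : _root_.True := by
  try have : _root_.True := by simp only [_root_.Cfsg.Agent.R2.F4P.nu.eq_1]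
  exact _root_.True.intro
end

-- part: R2/F4P/Mn2
section
prune_inst 0x420040010220000000000000000000400000400000004004c20010200c02420094020001410000140c620047009002001100010420800000a203400011b00a0808350060310ad04340087800000000000000000000000000000000000010000000000000
set_option linter.all false
open scoped Cfsg.Agent.FastGrp

/-!
# S5931, p = 2: submodules of minimal dimension (helper20)

`MinW χ W` : `W ≤ J₀` is a non-zero submodule of minimal dimension. Then `T = 0`, `cr = 0`, `s = 0` on `W`.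
-/

set_option autoImplicit false
set_option linter.unusedSectionVars false

namespace Cfsg.Agent.R2.F4P

open Module Matrix
open Cfsg.Lie
open Cfsg.Agent.ChevalleyStructure.E6Min.Basic (Zgrp)
open Cfsg.Agent.H943.SL2Rel Cfsg.Agent.H943.SL2Mod Cfsg.Agent.H943.RepAdd
open Cfsg.Agent.R2.H28.SL2 Cfsg.Agent.R2.SL2 Cfsg.Agent.R2.GEO Cfsg.Agent.R2.H6P2
open Cfsg.Agent.H952.F4 (sh cr tf tr1 u0)
open Cfsg.Agent.H952.F4.Jord
open Cfsg.Agent.H952.F4.FixV (W0 mem_W0 finrank_W0)
open Cfsg.Agent.H163.E6 (V V' TS)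

universe u v w

variable {k : Type u} [Field k] {K : Type w} [Field K]
variable {χ : SpecialLinearGroup (Fin 2) K →* ↥(Zgrp k)}

/-- a submodule of `J₀` of minimal dimension -/
structure MinW (χ : SpecialLinearGroup (Fin 2) K →* ↥(Zgrp k)) (W : Submodule k (I27 → k)) : Prop where
  le : W ≤ W0 k
  stb : Stb (RR χ) W
  ne : W ≠ ⊥
  min : ∀ U ≤ W0 k, Stb (RR χ) U → finrank k U < finrank k W → U = ⊥

theorem exists_min (h : JL χ) : ∃ W, MinW χ W := by
  classical
  let P : ℕ → Prop := fun d => ∃ W ≤ W0 k, Stb (RR χ) W ∧ W ≠ ⊥ ∧ finrank k W = d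
  have hP : ∃ d, P d := by
    refine ⟨26, W0 k, le_rfl, stb_W0 h, fun h0 => ?_, finrank_W0⟩
    have h1 := finrank_W0 (F := k)
    rw [h0, finrank_bot] at h1
    omega
  obtain ⟨W, hW0, hW, hne, hd⟩ := Nat.find_spec hP
  refine ⟨W, hW0, hW, hne, fun U hU0 hU hlt => ?_⟩
  by_contra hc
  exact Nat.find_min hP (by omega) ⟨U, hU0, hU, hc, rfl⟩

theorem MinW.cases {W : Submodule k (I27 → k)} (hW : MinW χ W) {U : Submodule k (I27 → k)} (hU : U ≤ W)
    (hs : Stb (RR χ) U) : U = ⊥ ∨ U = W := by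
  by_cases h0 : U = ⊥
  · exact Or.inl h0
  · right
    refine Submodule.eq_of_le_of_finrank_le hU ?_
    by_contra hlt
    exact h0 (hW.min U (hU.trans hW.le) hs (by omega))

theorem MinW.of_finrank {W : Submodule k (I27 → k)} (hW : MinW χ W) {U : Submodule k (I27 → k)} (hU : U ≤ W0 k)
    (hs : Stb (RR χ) U) (hne : U ≠ ⊥) (hd : finrank k U ≤ finrank k W) : MinW χ U :=
  ⟨hU, hs, hne, fun U' h1 h2 h3 => hW.min U' h1 h2 (by omega)⟩

variable [CharP k 2]

section nodim

theorem stb_ker_tf (h : JL χ) {W : Submodule k (I27 → k)} (hW : Stb (RR χ) W) : Stb (RR χ) (W ⊓ perp W) := by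
  rintro g w ⟨h1, h2⟩
  refine ⟨hW g w h1, fun x hx => ?_⟩
  have h3 : x = RR χ g (RR χ g⁻¹ x) := by
    rw [← Module.End.mul_apply, ← map_mul, mul_inv_cancel, map_one]
    rfl
  rw [h3, h.tf]
  exact h2 _ (hW g⁻¹ x hx)

end nodim

variable [DecidableEq k] [Fintype K] [DecidableEq K] [CharP K 2] [IsAlgClosed k] (ι : K →+* k)

theorem MinW.irr {W : Submodule k (I27 → k)} (hW : MinW χ W) : Irrd (subRep (RR χ) W hW.stb) :=
  irr_of_min (RR χ) hW.stb hW.ne fun _ h1 h2 => hW.cases h1 h2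

include ι

/-- one-dimensional submodules of `J₀` -/
theorem no_one' (h : JL χ) {W : Submodule k (I27 → k)} (hW : Stb (RR χ) W) (hW0 : W ≤ W0 k) : finrank k W ≠ 1 := by
  intro h1
  have hI : Irrd (subRep (RR χ) W hW) := by
    refine ⟨nontrivial_of_finrank_pos (R := k) (by omega), fun U _ => ?_⟩
    have h2 := Submodule.finrank_le U
    have h3 : finrank k U = 0 ∨ finrank k U = 1 := by omega
    rcases h3 with h3 | h3
    · exact Or.inl (Submodule.finrank_eq_zero.1 h3)
    · exact Or.inr (Submodule.eq_top_of_finrank_eq (by rw [h3, h1]))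
  obtain ⟨b, hb⟩ := (Sy ι 2).ex _ hI
  obtain ⟨l, hl, -, hq, hd, φ, hφ⟩ := exists_iso_FS ι hb
  have hl0 : l = [] := by
    rw [h1] at hd
    by_contra hne
    have h3 : l.length ≠ 0 := fun h => hne (List.length_eq_zero_iff.1 h)
    have h4 : 2 ^ 1 ≤ 2 ^ l.length := Nat.pow_le_pow_right (by norm_num) (by omega)
    omega
  subst hl0
  have h5 : ∀ g, fs ι [] g (on1 ι) = on1 ι := fun g => Subtype.ext rfl
  have h6 : (φ (on1 ι) : I27 → k) = 0 := by
    refine h.fix0 (fun g => ?_) (hW0 (φ (on1 ι)).2)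
    have h7 := hφ g (on1 ι)
    rw [h5] at h7
    exact (congrArg Subtype.val h7).symm
  have h8 : on1 ι = 0 := φ.map_eq_zero_iff.1 (Subtype.ext h6)
  have h9 := congrArg (co1 ι) h8
  rw [co1_on1, map_zero] at h9
  exact one_ne_zero h9

theorem MinW.two_le (h : JL χ) {W : Submodule k (I27 → k)} (hW : MinW χ W) : 2 ≤ finrank k W := by
  have h1 := no_one' ι h hW.stb hW.le
  have h2 : 0 < finrank k W := Nat.pos_of_ne_zero fun h => hW.ne (Submodule.finrank_eq_zero.1 h)
  omega

/-- the product of two elements of `W` -/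
theorem MinW.cr_eq (h : JL χ) {W : Submodule k (I27 → k)} (hW : MinW χ W) {x y : I27 → k} (hx : x ∈ W) (hy : y ∈ W) :
    cr x y = tf x y • u0 k := by
  obtain ⟨hA, -⟩ := altZ_irr.{u, u, w} ι hW.irr
  have h20 : (2 : k) = 0 := CharTwo.two_eq_zero
  have hmem : ∀ x y : W, cr (x : I27 → k) y + tf (x : I27 → k) y • u0 k ∈ W0 k := by
    intro x y
    rw [mem_W0, tr1_add, tr1_smul, tr1_u0, tr1_cr, (mem_W0 _).1 (hW.le x.2), three_eq]
    ring
  let β : W →ₗ[k] W →ₗ[k] ↥(W0 k) := LinearMap.mk₂ k (fun x y => ⟨cr (x : I27 → k) y + tf (x : I27 → k) y • u0 k,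
    hmem x y⟩) (fun x x' y => Subtype.ext (by
      simp only [Submodule.coe_add, cr_add_left, tf_add_left]
      module)) (fun c x y => Subtype.ext (by
      simp only [Submodule.coe_smul, cr_smul_left, tf_smul_left]
      module)) (fun x y y' => Subtype.ext (by
      simp only [Submodule.coe_add, cr_add_right, tf_add_right]
      module)) (fun c x y => Subtype.ext (by
      simp only [Submodule.coe_smul, cr_smul_right, tf_smul_right]
      module))
  have hβ : ∀ x y : W, ((β x y : ↥(W0 k)) : I27 → k) = cr (x : I27 → k) y + tf (x : I27 → k) y • u0 k :=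
    fun _ _ => rfl
  have hNS : NS (subRep (RR χ) (W0 k) (stb_W0 h)) (finrank k W) := by
    intro U hU hd
    have h1 : U.map (W0 k).subtype = ⊥ := by
      refine hW.min _ (Submodule.map_subtype_le _ _) ?_ ?_
      · rintro g _ ⟨x, hx, rfl⟩
        exact ⟨_, hU g x hx, rfl⟩
      · rwa [Submodule.finrank_map_subtype_eq]
    exact Submodule.map_injective_of_injective (W0 k).injective_subtype (h1.trans (Submodule.map_bot _).symm)
  have h1 := hA _ (subRep (RR χ) (W0 k) (stb_W0 h)) hNS β (fun x => Subtype.ext (by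
    rw [hβ, cr_self0]
    have h2 := tr1_sh (x : I27 → k)
    rw [(mem_W0 _).1 (hW.le x.2), h20] at h2
    have h3 : tf (x : I27 → k) x = 0 := by linear_combination h2
    rw [h3, zero_smul, add_zero]
    rfl)) (fun g x y => Subtype.ext (by
    show cr (RR χ g x) (RR χ g y) + tf (RR χ g x) (RR χ g y) • u0 k = RR χ g (cr (x : I27 → k) y + tf (x : I27 → k) y • u0 k)
    have h2 : RR χ g (u0 k) = u0 k := h.u g
    rw [h.cr, h.tf, map_add, map_smul, h2])) ⟨x, hx⟩ ⟨y, hy⟩
  exact cr_eq_zero_iff (congrArg Subtype.val h1)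

end Cfsg.Agent.R2.F4P
end
end

-- part: R2/F4P/Mn3
section
prune_inst 0x10000000000000
set_option linter.all false
open scoped Cfsg.Agent.FastGrp

/-!
# S5931, p = 2: submodules of minimal dimension are isotropic (helper20)
-/

set_option autoImplicit false
set_option linter.unusedSectionVars false

namespace Cfsg.Agent.R2.F4P

open Module Matrix
open Cfsg.Lie
open Cfsg.Agent.ChevalleyStructure.E6Min.Basic (Zgrp)
open Cfsg.Agent.H943.SL2Rel Cfsg.Agent.H943.SL2Mod Cfsg.Agent.H943.RepAdd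
open Cfsg.Agent.R2.H28.SL2 Cfsg.Agent.R2.SL2 Cfsg.Agent.R2.GEO Cfsg.Agent.R2.H6P2
open Cfsg.Agent.H952.F4 (sh cr tf tr1 u0)
open Cfsg.Agent.H952.F4.Jord
open Cfsg.Agent.H952.F4.FixV (W0 mem_W0 finrank_W0)
open Cfsg.Agent.H163.E6 (V V' TS)

universe u v w

variable {k : Type u} [Field k] {K : Type w} [Field K]
variable {χ : SpecialLinearGroup (Fin 2) K →* ↥(Zgrp k)}

/-- a vector outside a line -/
theorem exists_not_span {W : Submodule k (I27 → k)} (hd : 2 ≤ finrank k W) (x : I27 → k) :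
    ∃ y ∈ W, y ∉ Submodule.span k {x} := by
  by_contra hc
  push Not at hc
  have h1 : finrank k W ≤ finrank k (Submodule.span k ({x} : Set (I27 → k))) := Submodule.finrank_mono hc
  have h2 := finrank_span_le_card (R := k) ({x} : Set (I27 → k))
  rw [Set.toFinset_singleton, Finset.card_singleton] at h2
  omega

theorem indep_of {x y : I27 → k} (hx : x ≠ 0) (hy : y ∉ Submodule.span k {x}) {α β : k} (h : α • x + β • y = 0) :
    α = 0 ∧ β = 0 := by
  have hβ : β = 0 := by
    by_contra hβ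
    apply hy
    rw [Submodule.mem_span_singleton]
    refine ⟨-(β⁻¹ * α), ?_⟩
    have h1 : y = β⁻¹ • (β • y) := by rw [smul_smul, inv_mul_cancel₀ hβ, one_smul]
    have h2 : β • y = (-α) • x := by linear_combination (norm := module) h
    rw [h1, h2, smul_smul]
    congr 1
    ring
  rw [hβ, zero_smul, add_zero] at h
  exact ⟨(smul_eq_zero.1 h).resolve_right hx, hβ⟩

variable [CharP k 2]

/-- a map `nu` with `nu x ∈ k x` vanishes -/
theorem nu_of_line [IsAlgClosed k] {W : Submodule k (I27 → k)} (hd : 2 ≤ finrank k W)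
    (hadd : ∀ x ∈ W, ∀ y ∈ W, nu (x + y) = nu x + nu y) (hl : ∀ x ∈ W, ∃ c : k, nu x = c • x) : ∀ x ∈ W, nu x = 0 := by
  classical
  intro x hx
  by_cases hx0 : x = 0
  · rw [hx0, nu_zero]
  obtain ⟨y, hy, hxy⟩ := exists_not_span hd x
  obtain ⟨c, hc0, hc1⟩ : ∃ c : k, c ≠ 0 ∧ c ≠ 1 := by
    have h1 : Infinite k := IsAlgClosed.instInfinite
    obtain ⟨c, hc⟩ := Infinite.exists_notMem_finset ({0, 1} : Finset k)
    simp only [Finset.mem_insert, Finset.mem_singleton, not_or] at hc
    exact ⟨c, hc⟩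
  have key : ∀ d : k, d ≠ 0 → ∀ α β : k, nu (d • x) = α • (d • x) → nu y = β • y → α = β := by
    intro d hd0 α β h1 h2
    obtain ⟨γ, hγ⟩ := hl (d • x + y) (W.add_mem (W.smul_mem _ hx) hy)
    rw [hadd _ (W.smul_mem _ hx) _ hy, h1, h2] at hγ
    have h3 := indep_of hx0 hxy (α := (α - γ) * d) (β := β - γ) (by
      linear_combination (norm := module) hγ)
    have h4 : α - γ = 0 := (mul_eq_zero.1 h3.1).resolve_right hd0
    linear_combination h4 - h3.2
  obtain ⟨β, hβ⟩ := hl y hy
  obtain ⟨α, hα⟩ := hl x hx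
  obtain ⟨α', hα'⟩ := hl (c • x) (W.smul_mem _ hx)
  have e1 := key 1 one_ne_zero α β (by rw [one_smul]; exact hα) hβ
  have e2 := key c hc0 α' β hα' hβ
  rw [nu_smul, hα, e1, e2, smul_smul, smul_smul] at hα'
  have h5 : (c ^ 2 * β - β * c) • x = 0 := by rw [sub_smul, hα', sub_self]
  have h6 := (smul_eq_zero.1 h5).resolve_right hx0
  have h7 : β * (c * (c - 1)) = 0 := by linear_combination h6
  rcases mul_eq_zero.1 h7 with h8 | h8
  · rw [hα, e1, h8, zero_smul]
  · exfalso
    rcases mul_eq_zero.1 h8 with h9 | h9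
    · exact hc0 h9
    · exact hc1 (sub_eq_zero.1 h9)

variable [DecidableEq k] [Fintype K] [DecidableEq K] [CharP K 2] [IsAlgClosed k] (ι : K →+* k)

include ι

/-- the dimension two case: the natural module -/
theorem MinW.exists_two {a : ℕ} (hK : Fintype.card K = 2 ^ a) {W : Submodule k (I27 → k)} (hW : MinW χ W)
    (h2 : finrank k W = 2) : ∃ n < a, ∃ x y, Two (RR χ) (ka ι n) x y ∧ Submodule.span k {x, y} = W := by
  obtain ⟨b, hb⟩ := (Sy ι 2).ex _ hW.irr
  obtain ⟨n, hna, -, x, y, hxy, hsp⟩ := two_of_isV ι hK hb h2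
  refine ⟨n, hna, x, y, ⟨fun g => ?_, fun g => ?_, fun h => hxy.ne (Subtype.ext h)⟩, ?_⟩
  · exact congrArg Subtype.val (hxy.act₀ g)
  · exact congrArg Subtype.val (hxy.act₁ g)
  · have h1 := congrArg (Submodule.map W.subtype) hsp
    rw [Submodule.map_span, Submodule.map_top, Submodule.range_subtype, Set.image_pair] at h1
    exact h1

omit [DecidableEq k] [DecidableEq K] [CharP K 2] [IsAlgClosed k] ι in
theorem exists_torus {κ : K →+* k} (h4 : 4 < Fintype.card K) : ∃ t : K, t ≠ 0 ∧ κ t ≠ 1 ∧ κ t ^ 3 ≠ 1 := by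
  classical
  by_contra hc
  push Not at hc
  have h1 : ∀ t : K, t ≠ 0 → t ^ 3 = 1 := by
    intro t ht
    by_cases h2 : κ t = 1
    · have : t = 1 := κ.injective (by rw [h2, map_one])
      rw [this, one_pow]
    · have h3 := hc t ht h2
      rw [← map_pow] at h3
      exact κ.injective (by rw [h3, map_one])
  have h2 : (Finset.univ : Finset K) ⊆ insert 0 (Polynomial.nthRoots 3 (1 : K)).toFinset := by
    intro t _
    by_cases ht : t = 0
    · rw [ht]
      exact Finset.mem_insert_self _ _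
    · refine Finset.mem_insert_of_mem ?_
      rw [Multiset.mem_toFinset, Polynomial.mem_nthRoots (by norm_num)]
      exact h1 t ht
  have h3 := Finset.card_le_card h2
  have h5 := Finset.card_insert_le (0 : K) (Polynomial.nthRoots 3 (1 : K)).toFinset
  have h6 := Multiset.toFinset_card_le (Polynomial.nthRoots 3 (1 : K))
  have h7 := Polynomial.card_nthRoots 3 (1 : K)
  rw [Finset.card_univ] at h3
  omega

/-- the diagonal elements -/
def dg (t : K) (ht : t ≠ 0) : SpecialLinearGroup (Fin 2) K :=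
  ⟨!![t, 0; 0, t⁻¹], by rw [Matrix.det_fin_two_of, mul_inv_cancel₀ ht]; ring⟩

omit [DecidableEq k] [DecidableEq K] [CharP K 2] [IsAlgClosed k] ι in
/-- `nu = 0` on twisted natural submodules `⟨x, y⟩`, if `nu x ∈ ⟨x, y⟩` -/
theorem nu_two (h : JL χ) {κ : K →+* k} {x y : I27 → k} (hxy : Two (RR χ) κ x y)
    (h4 : 4 < Fintype.card K) {α β : k} (hn : nu x = α • x + β • y) : nu x = 0 ∧ nu y = 0 := by
  obtain ⟨t, ht0, ht1, ht3⟩ := exists_torus (κ := κ) h4
  have hκ : κ t ≠ 0 := (map_ne_zero κ).2 ht0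
  have hx : RR χ (dg t ht0) x = κ t • x := by
    rw [hxy.act₀]
    show κ t • x + κ 0 • y = _
    rw [map_zero, zero_smul, add_zero]
  have hy : RR χ (dg t ht0) y = (κ t)⁻¹ • y := by
    rw [hxy.act₁]
    show κ 0 • x + κ t⁻¹ • y = _
    rw [map_zero, zero_smul, zero_add, map_inv₀]
  have h1 := h.nu (dg t ht0) x
  rw [hx, nu_smul, hn, map_add, map_smul, map_smul, hx, hy] at h1
  have h2 := hxy.indep (α := α * (κ t ^ 2 - κ t)) (β := β * (κ t ^ 2 - (κ t)⁻¹)) (by
    linear_combination (norm := module) h1)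
  have hα : α = 0 := by
    refine (mul_eq_zero.1 h2.1).resolve_right fun h3 => ht1 ?_
    have h5 : κ t * (κ t - 1) = 0 := by linear_combination h3
    exact sub_eq_zero.1 ((mul_eq_zero.1 h5).resolve_left hκ)
  have hβ : β = 0 := by
    refine (mul_eq_zero.1 h2.2).resolve_right fun h3 => ht3 ?_
    have h5 : κ t * (κ t ^ 2 - (κ t)⁻¹) = κ t ^ 3 - 1 := by
      field_simp
    rw [h3, mul_zero] at h5
    linear_combination -h5
  have hnx : nu x = 0 := by rw [hn, hα, hβ, zero_smul, zero_smul, add_zero]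
  refine ⟨hnx, ?_⟩
  have h6 := hxy.wact.1
  have h7 := h.nu Cfsg.Agent.H943.SL2Rel.w x
  rw [h6, hnx, map_zero, ← neg_one_smul k, nu_smul] at h7
  have h8 : ((-1 : k) ^ 2) ≠ 0 := pow_ne_zero _ (neg_ne_zero.2 one_ne_zero)
  exact (smul_eq_zero.1 h7).resolve_left h8

/-- **minimal submodules are isotropic** -/
theorem MinW.iso (h : JL χ) {a : ℕ} (hK : Fintype.card K = 2 ^ a) (h4 : 4 < Fintype.card K)
    {W : Submodule k (I27 → k)} (hW : MinW χ W) : ∀ x ∈ W, ∀ y ∈ W, tf x y = 0 := by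
  have hd := hW.two_le ι h
  have hadd : ∀ x ∈ W, ∀ y ∈ W, nu (x + y) = nu x + nu y := fun x hx y hy => nu_add (hW.cr_eq ι h hx hy)
  by_contra hc
  -- the form is nondegenerate
  have hnd : ∀ x ∈ W, x ≠ 0 → ∃ y ∈ W, tf x y ≠ 0 := by
    rcases hW.cases (U := W ⊓ perp W) inf_le_left (stb_ker_tf h hW.stb) with h1 | h1
    · intro x hx hx0
      by_contra hcon
      push Not at hcon
      have h2 : x ∈ W ⊓ perp W := ⟨hx, fun y hy => by rw [tf_comm]; exact hcon y hy⟩
      rw [h1] at h2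
      exact hx0 h2
    · exfalso
      apply hc
      intro x hx y hy
      have h2 : x ∈ W ⊓ perp W := by rw [h1]; exact hx
      rw [tf_comm]
      exact h2.2 y hy
  have hmem : ∀ x ∈ W, nu x ∈ W := by
    intro x hx
    by_cases hx0 : x = 0
    · rw [hx0, nu_zero]
      exact W.zero_mem
    obtain ⟨y, hy, hxy⟩ := hnd x hx hx0
    have h1 := nu_id (hW.cr_eq ι h hx hy)
    have h2 : nu x = (tf x y)⁻¹ • (cubicT x • y + tf (sh x) y • x) := by
      rw [← h1, smul_smul, inv_mul_cancel₀ hxy, one_smul]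
    rw [h2]
    exact W.smul_mem _ (W.add_mem (W.smul_mem _ hy) (W.smul_mem _ hx))
  have hnu : ∀ x ∈ W, nu x = 0 := by
    by_cases hd2 : finrank k W = 2
    · obtain ⟨n, hn, x, y, hxy, hsp⟩ := hW.exists_two ι hK hd2
      have hx : x ∈ W := by rw [← hsp]; exact Submodule.subset_span (Or.inl rfl)
      have hy : y ∈ W := by rw [← hsp]; exact Submodule.subset_span (Or.inr rfl)
      have h1 := hmem x hx
      rw [← hsp] at h1
      obtain ⟨α, β, h2⟩ := Submodule.mem_span_pair.1 h1
      obtain ⟨h3, h5⟩ := nu_two h hxy h4 h2.symm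
      intro z hz
      rw [← hsp] at hz
      obtain ⟨c, d, rfl⟩ := Submodule.mem_span_pair.1 hz
      rw [hadd _ (W.smul_mem _ hx) _ (W.smul_mem _ hy), nu_smul, nu_smul, h3, h5, smul_zero, smul_zero, add_zero]
    · refine nu_of_line hd hadd fun x hx => ?_
      by_cases hx0 : x = 0
      · exact ⟨0, by rw [hx0, nu_zero, smul_zero]⟩
      -- `N(x) = 0`
      obtain ⟨y, hy, hxy⟩ : ∃ y ∈ W ⊓ LinearMap.ker (tfB k x), y ∉ Submodule.span k {x} := by
        refine exists_not_span ?_ x
        have h1 := finrank_inf_ker_le (W := W) (tfB k x)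
        omega
      have hyT : tf x y = 0 := hy.2
      have h1 := nu_id (hW.cr_eq ι h hx hy.1)
      rw [hyT, zero_smul] at h1
      have h2 := indep_of hx0 hxy (α := tf (sh x) y) (β := cubicT x) (by rw [add_comm]; exact h1.symm)
      obtain ⟨z, hz, hxz⟩ := hnd x hx hx0
      have h3 := nu_id (hW.cr_eq ι h hx hz)
      rw [h2.2, zero_smul, zero_add] at h3
      refine ⟨(tf x z)⁻¹ * tf (sh x) z, ?_⟩
      rw [mul_smul, ← h3, smul_smul, inv_mul_cancel₀ hxz, one_smul]
  exact hc (tf_zero_of_nu hW.le hnu).2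

end Cfsg.Agent.R2.F4P
end

-- part: R2/F4P/Mn4
section
prune_inst 0x10000000000000
set_option linter.all false
open scoped Cfsg.Agent.FastGrp

/-!
# S5931, p = 2: existence of a white submodule of dimension 2 or 4 (helper20)
-/

set_option autoImplicit false
set_option linter.unusedSectionVars false

namespace Cfsg.Agent.R2.F4P

open Module Matrix
open Cfsg.Lie
open Cfsg.Agent.ChevalleyStructure.E6Min.Basic (Zgrp)
open Cfsg.Agent.H943.SL2Rel Cfsg.Agent.H943.SL2Mod Cfsg.Agent.H943.RepAdd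
open Cfsg.Agent.R2.H28.SL2 Cfsg.Agent.R2.SL2 Cfsg.Agent.R2.GEO Cfsg.Agent.R2.H6P2
open Cfsg.Agent.H952.F4 (sh cr tf tr1 u0)
open Cfsg.Agent.H952.F4.Jord
open Cfsg.Agent.H952.F4.FixV (W0 mem_W0 finrank_W0)
open Cfsg.Agent.H163.E6 (V V' TS)

universe u v w

variable {k : Type u} [Field k] {K : Type w} [Field K]
variable {χ : SpecialLinearGroup (Fin 2) K →* ↥(Zgrp k)}
variable [CharP k 2] [DecidableEq k] [Fintype K] [DecidableEq K] [CharP K 2] [IsAlgClosed k] (ι : K →+* k)

include ι

theorem MinW.cr_zero (h : JL χ) {a : ℕ} (hK : Fintype.card K = 2 ^ a) (h4 : 4 < Fintype.card K)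
    {W : Submodule k (I27 → k)} (hW : MinW χ W) : ∀ x ∈ W, ∀ y ∈ W, cr x y = 0 := by
  intro x hx y hy
  rw [hW.cr_eq ι h hx hy, hW.iso ι h hK h4 x hx y hy, zero_smul]

/-- `s = 0` on minimal submodules -/
theorem MinW.s_zero (h : JL χ) {a : ℕ} (hK : Fintype.card K = 2 ^ a) (h4 : 4 < Fintype.card K)
    {W : Submodule k (I27 → k)} (hW : MinW χ W) : ∀ x ∈ W, tr1 (sh x) = 0 := by
  have hcr := hW.cr_zero ι h hK h4
  have hadd : ∀ x ∈ W, ∀ y ∈ W, tr1 (sh (x + y)) = tr1 (sh x) + tr1 (sh y) := by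
    intro x hx y hy
    rw [sh_add, hcr x hx y hy, add_zero, tr1_add]
  have hsm : ∀ (c : k) (x : I27 → k), tr1 (sh (c • x)) = c ^ 2 * tr1 (sh x) := by
    intro c x
    rw [sh_smul, tr1_smul]
  let U : Submodule k (I27 → k) :=
    { carrier := {x | x ∈ W ∧ tr1 (sh x) = 0}
      add_mem' := by
        rintro x y ⟨h1, h2⟩ ⟨h3, h5⟩
        exact ⟨W.add_mem h1 h3, by rw [hadd x h1 y h3, h2, h5, add_zero]⟩
      zero_mem' := ⟨W.zero_mem, by rw [sh_zero', tr1_zero']⟩
      smul_mem' := by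
        rintro c x ⟨h1, h2⟩
        exact ⟨W.smul_mem c h1, by rw [hsm, h2, mul_zero]⟩ }
  have hUW : U ≤ W := fun x hx => hx.1
  have hUs : Stb (RR χ) U := by
    rintro g x ⟨h1, h2⟩
    exact ⟨hW.stb g x h1, by rw [h.sh, h.tr, h2]⟩
  rcases hW.cases hUW hUs with h1 | h1
  · exfalso
    have hmem : ∀ x ∈ W, tr1 (sh x) = 0 → x = 0 := by
      intro x hx hs
      have h2 : x ∈ U := ⟨hx, hs⟩
      rw [h1] at h2
      exact h2
    obtain ⟨x, hx, hx0⟩ := Submodule.exists_mem_ne_zero_of_ne_bot hW.ne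
    obtain ⟨y, hy, hxy⟩ := exists_not_span (hW.two_le ι h) x
    have hsx : tr1 (sh x) ≠ 0 := fun hs => hx0 (hmem x hx hs)
    obtain ⟨c, hc⟩ := IsAlgClosed.exists_pow_nat_eq (-tr1 (sh y) / tr1 (sh x)) (n := 2) (by norm_num)
    have h2 := hmem (c • x + y) (W.add_mem (W.smul_mem _ hx) hy) (by
      rw [hadd _ (W.smul_mem _ hx) _ hy, hsm, hc]
      field_simp
      ring)
    have h3 := indep_of hx0 hxy (α := c) (β := 1) (by rw [one_smul]; exact h2)
    exact one_ne_zero h3.2
  · intro x hx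
    rw [← h1] at hx
    exact hx.2

/-- **a white submodule of minimal dimension** -/
theorem exists_white (h : JL χ) {a : ℕ} (hK : Fintype.card K = 2 ^ a) (h4 : 4 < Fintype.card K) :
    ∃ W, MinW χ W ∧ ∀ w ∈ W, sh w = 0 := by
  obtain ⟨W, hW⟩ := exists_min h
  by_cases hs : ∀ w ∈ W, sh w = 0
  · exact ⟨W, hW, hs⟩
  have hcr := hW.cr_zero ι h hK h4
  have hd := hW.two_le ι h
  have h1 := shW_ts hd hcr
  have hle : Submodule.span k (sh '' (W : Set (I27 → k))) ≤ W0 k := by
    rw [Submodule.span_le]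
    rintro _ ⟨x, hx, rfl⟩
    exact (mem_W0 _).2 (hW.s_zero ι h hK h4 x hx)
  refine ⟨_, hW.of_finrank hle ?_ ?_ (finrank_shW_le hcr), h1.1⟩
  · refine stb_span fun g x hx => ?_
    obtain ⟨y, hy, rfl⟩ := hx
    exact Submodule.subset_span ⟨_, hW.stb g y hy, h.sh g y⟩
  · intro h0
    apply hs
    intro w hw
    have h2 : sh w ∈ Submodule.span k (sh '' (W : Set (I27 → k))) := Submodule.subset_span ⟨w, hw, rfl⟩
    rw [h0] at h2
    exact h2

/-- its dimension is 2 or 4 -/
theorem MinW.two_or_four (h : JL χ) {W : Submodule k (I27 → k)} (hW : MinW χ W) (hs : ∀ w ∈ W, sh w = 0) :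
    finrank k W = 2 ∨ finrank k W = 4 := by
  obtain ⟨-, n, hn⟩ := altZ_irr.{u, u, w} ι hW.irr
  have h1 := hW.two_le ι h
  have h6 := finrank_le_six hs
  have e1 : n < 3 := by
    by_contra hcon
    have e2 : 2 ^ 3 ≤ 2 ^ n := Nat.pow_le_pow_right (by norm_num) (by omega)
    omega
  interval_cases n
  · omega
  · exact Or.inl (by rw [hn]; norm_num)
  · exact Or.inr (by rw [hn]; norm_num)

end Cfsg.Agent.R2.F4P
end

-- part: R2/F4P/Mn5
section
prune_inst 0x10000000000000
set_option linter.all false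
open scoped Cfsg.Agent.FastGrp

/-!
# S5931, p = 2: two white submodules of different types (helper20)
-/

set_option autoImplicit false
set_option linter.unusedSectionVars false

namespace Cfsg.Agent.R2.F4P

open Module Matrix
open Cfsg.Lie
open Cfsg.Agent.ChevalleyStructure.E6Min.Basic (Zgrp)
open Cfsg.Agent.H943.SL2Rel Cfsg.Agent.H943.SL2Mod Cfsg.Agent.H943.RepAdd
open Cfsg.Agent.R2.H28.SL2 Cfsg.Agent.R2.SL2 Cfsg.Agent.R2.GEO Cfsg.Agent.R2.H6P2
open Cfsg.Agent.H952.F4 (sh cr tf tr1 u0)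
open Cfsg.Agent.H952.F4.Jord
open Cfsg.Agent.H952.F4.FixV (W0 mem_W0 finrank_W0)
open Cfsg.Agent.H163.E6 (V V' TS)

universe u v w

variable {k : Type u} [Field k] {K : Type w} [Field K]
variable {χ : SpecialLinearGroup (Fin 2) K →* ↥(Zgrp k)}

theorem Two.u_act {κ : K →+* k} {x y : I27 → k} (h : Two (RR χ) κ x y) (s : K) :
    RR χ (u s) x = x ∧ RR χ (u s) y = κ s • x + y := by
  constructor
  · rw [h.act₀]
    show κ 1 • x + κ 0 • y = x
    rw [map_zero, zero_smul, add_zero, map_one, one_smul]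
  · rw [h.act₁]
    show κ s • x + κ 1 • y = κ s • x + y
    rw [map_one, one_smul]

/-- twisted natural submodules consist of vectors of trace zero -/
theorem two_tr (hJ : JL χ) {κ : K →+* k} {x y : I27 → k} (h : Two (RR χ) κ x y) : tr1 x = 0 ∧ tr1 y = 0 := by
  have h1 := hJ.tr (u 1) y
  rw [(Two.u_act h 1).2, map_one, one_smul, tr1_add] at h1
  have hx : tr1 x = 0 := by linear_combination h1
  refine ⟨hx, ?_⟩
  have h2 := hJ.tr w x
  rw [h.wact.1, ← neg_one_smul k, tr1_smul, hx] at h2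
  linear_combination -h2

/-- submodules of different types are orthogonal -/
theorem tf_two (hJ : JL χ) {κ κ' : K →+* k} (hκ : κ ≠ κ') {x y x' y' : I27 → k} (h : Two (RR χ) κ x y)
    (h' : Two (RR χ) κ' x' y') : tf x x' = 0 ∧ tf x y' = 0 ∧ tf y x' = 0 ∧ tf y y' = 0 := by
  have e1 : tf x x' = 0 := by
    have h1 := hJ.tf (u 1) x y'
    rw [(Two.u_act h 1).1, (Two.u_act h' 1).2, map_one, one_smul, tf_add_right] at h1
    linear_combination h1
  have e4 : tf y y' = 0 := by
    have h1 := hJ.tf w x x'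
    rw [h.wact.1, h'.wact.1, ← neg_one_smul k, ← neg_one_smul k y', tf_smul_left, tf_smul_right, e1] at h1
    linear_combination h1
  have e23 : ∀ s : K, κ' s * tf y x' + κ s * tf x y' = 0 := by
    intro s
    have h1 := hJ.tf (u s) y y'
    rw [(Two.u_act h s).2, (Two.u_act h' s).2, tf_add_left, tf_add_right, tf_add_right, tf_smul_left, tf_smul_right,
      tf_smul_left, tf_smul_right, e1, e4] at h1
    linear_combination h1
  have e5 := e23 1
  rw [map_one, map_one] at e5
  obtain ⟨s, hs⟩ : ∃ s, κ s ≠ κ' s := by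
    by_contra hc
    push Not at hc
    exact hκ (RingHom.ext hc)
  have e6 := e23 s
  have e7 : (κ s - κ' s) * tf x y' = 0 := by linear_combination e6 - κ' s * e5
  have e2 : tf x y' = 0 := (mul_eq_zero.1 e7).resolve_left (sub_ne_zero.2 hs)
  refine ⟨e1, e2, ?_, e4⟩
  rw [e2] at e5
  linear_combination e5

variable [CharP k 2]

/-- **the product of two white submodules of different types is white** -/
theorem four_ts' (hJ : JL χ) {κ κ' : K →+* k} (hκ : κ ≠ κ') {x y x' y' : I27 → k}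
    (h : TTwo (V k) χ κ x y) (h' : TTwo (V k) χ κ' x' y') :
    (∀ w ∈ Submodule.span k {cr x x', cr x y', cr y x', cr y y'}, sh w = 0) := by
  have hp : Pair (V k) (V' k) := Or.inl ⟨rfl, rfl⟩
  have hF := h.four hp h'
  -- the pure products are singular
  have hsh : ∀ a b : I27 → k, sh a = 0 → sh b = 0 → sh (cr a b) = 0 := by
    intro a b ha hb
    have h1 := sh_cr a b
    rw [ha, hb, cr_zero_right', tf_zero_left', tf_zero_right', zero_smul, zero_smul, add_zero, add_zero] at h1
    exact h1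
  have hcc : ∀ a b c : I27 → k, sh a = 0 → cr b c = 0 → cr (cr a b) (cr a c) = 0 := by
    intro a b c ha hbc
    have h1 := cr_cr a b c
    rw [ha, hbc, cr_zero_left', tf_zero_left', tf_zero_left', tf_zero_right', zero_smul, zero_smul, zero_smul, add_zero,
      add_zero, add_zero] at h1
    exact h1
  have s1 := hsh x x' h.shx h'.shx
  have s2 := hsh x y' h.shx h'.shy
  have s3 := hsh y x' h.shy h'.shx
  have s4 := hsh y y' h.shy h'.shy
  have c12 := hcc x x' y' h.shx h'.crxy
  have c34 := hcc y x' y' h.shy h'.crxy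
  have c13 : cr (cr x x') (cr y x') = 0 := by
    rw [cr_comm x x', cr_comm y x']
    exact hcc x' x y h'.shx h.crxy
  have c24 : cr (cr x y') (cr y y') = 0 := by
    rw [cr_comm x y', cr_comm y y']
    exact hcc y' x y h'.shy h.crxy
  have hxy : sh (x + y) = 0 := by rw [sh_add, h.shx, h.shy, h.crxy, add_zero, add_zero]
  have hxy' : sh (x' + y') = 0 := by rw [sh_add, h'.shx, h'.shy, h'.crxy, add_zero, add_zero]
  have c14 : cr (cr x x') (cr y y') + cr (cr x y') (cr y x') = 0 := by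
    have h1 := hsh (x + y) (x' + y') hxy hxy'
    rw [cr_add_left, cr_add_right, cr_add_right, sh_add, sh_add, sh_add, cr_add_left, cr_add_right, cr_add_right,
      s1, s2, s3, s4, c12, c34, c13, c24] at h1
    simpa using h1
  -- the remaining product is fixed
  obtain ⟨c, hc⟩ : ∃ c : k, cr (cr x x') (cr y y') = c • u0 k := by
    refine hJ.fix _ fun g => ?_
    have c23 : cr (cr x y') (cr y x') = -cr (cr x x') (cr y y') := by
      rw [eq_neg_iff_add_eq_zero, add_comm]
      exact c14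
    have d12 : cr (cr x y') (cr x x') = 0 := by rw [cr_comm, c12]
    have d13 : cr (cr y x') (cr x x') = 0 := by rw [cr_comm, c13]
    have d24 : cr (cr y y') (cr x y') = 0 := by rw [cr_comm, c24]
    have d34 : cr (cr y y') (cr y x') = 0 := by rw [cr_comm, c34]
    have d14 : cr (cr y y') (cr x x') = cr (cr x x') (cr y y') := cr_comm _ _
    have d23 : cr (cr y x') (cr x y') = -cr (cr x x') (cr y y') := by rw [cr_comm, c23]
    have t1 : cr (cr x x') (cr x x') = 0 := cr_self0 _
    have t2 : cr (cr x y') (cr x y') = 0 := cr_self0 _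
    have t3 : cr (cr y x') (cr y x') = 0 := cr_self0 _
    have t4 : cr (cr y y') (cr y y') = 0 := cr_self0 _
    rw [← pair_cr hp.swap, show V' k (χ g) (cr x x') = _ from hF.act₀ g, show V' k (χ g) (cr y y') = _ from hF.act₃ g]
    simp only [cr_add_left, cr_add_right, cr_smul_left, cr_smul_right, c12, c34, c13, c24, d12, d13, d24, d34, d14, d23,
      c23, t1, t2, t3, t4, smul_zero, add_zero, zero_add, smul_neg]
    have e1 := kdet κ g
    have e2 := kdet κ' g
    have e3 : (κ (g.1 0 0) * κ (g.1 1 1) - κ (g.1 0 1) * κ (g.1 1 0)) *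
        (κ' (g.1 0 0) * κ' (g.1 1 1) - κ' (g.1 0 1) * κ' (g.1 1 0)) = 1 := by rw [e1, e2, mul_one]
    calc _ = ((κ (g.1 0 0) * κ (g.1 1 1) - κ (g.1 0 1) * κ (g.1 1 0)) *
          (κ' (g.1 0 0) * κ' (g.1 1 1) - κ' (g.1 0 1) * κ' (g.1 1 0))) • cr (cr x x') (cr y y') := by module
      _ = _ := by rw [e3, one_smul]
  -- and zero
  have hβ : cr (cr x x') (cr y y') = 0 := by
    obtain ⟨t1, t2, t3, t4⟩ := tf_two hJ hκ h.toTwo h'.toTwo
    have tx := (two_tr hJ h.toTwo).1
    have ty := (two_tr hJ h.toTwo).2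
    have h1 := sh_sh (cr x x' + cr y y')
    rw [sh_add, s1, s4, hc, zero_add, zero_add, sh_smul, sh_u0] at h1
    have h2 := congrArg tr1 h1
    rw [tr1_smul, tr1_smul, tr1_u0, three_eq, tr1_add, tr1_cr, tr1_cr, tx, ty, t1, t4] at h2
    have h3 : c ^ 2 = 0 := by linear_combination h2
    rw [hc, pow_eq_zero_iff (two_ne_zero) |>.1 h3, zero_smul]
  have hβ' : cr (cr x y') (cr y x') = 0 := by
    rw [hβ, zero_add] at c14
    exact c14
  exact (ts_four s1 s2 s3 s4 c12 c13 hβ hβ' c24 c34).1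

variable [DecidableEq k] [Fintype K] [DecidableEq K] [CharP K 2] [IsAlgClosed k] (ι : K →+* k)

theorem ka_ne {a : ℕ} (hK : Fintype.card K = 2 ^ a) {n m : ℕ} (hn : n < a) (hm : m < a) (hnm : n ≠ m) :
    ka ι n ≠ ka ι m := by
  intro h
  have h1 : ∀ t : K, t ^ 2 ^ n = t ^ 2 ^ m := by
    intro t
    have h2 := RingHom.congr_fun h t
    rw [ka_apply, ka_apply, ← map_pow, ← map_pow] at h2
    exact ι.injective h2
  obtain ⟨g, hg⟩ := IsCyclic.exists_generator (α := Kˣ)
  have h3 : g ^ 2 ^ n = g ^ 2 ^ m := Units.ext (by push_cast; exact h1 g)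
  rw [pow_inj_mod, orderOf_eq_card_of_forall_mem_zpowers hg, Nat.card_units, Nat.card_eq_fintype_card, hK] at h3
  have h4 : ∀ j, j < a → 2 ^ j < 2 ^ a - 1 ∨ a = 1 := by
    intro j hj
    by_cases ha : a = 1
    · exact Or.inr ha
    · left
      have h5 : 2 ^ j ≤ 2 ^ (a - 1) := Nat.pow_le_pow_right (by norm_num) (by omega)
      have h6 : 2 ^ a = 2 * 2 ^ (a - 1) := by
        rw [← pow_succ']
        congr 1
        omega
      have h7 : 2 ^ 1 ≤ 2 ^ (a - 1) := Nat.pow_le_pow_right (by norm_num) (by omega)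
      omega
  rcases h4 n hn with h5 | h5
  · rcases h4 m hm with h6 | h6
    · rw [Nat.mod_eq_of_lt h5, Nat.mod_eq_of_lt h6] at h3
      exact hnm (Nat.pow_right_injective le_rfl h3)
    · omega
  · omega

/-- **no two white submodules of different types** -/
theorem two_types' (hJ : JL χ) {a : ℕ} (hK : Fintype.card K = 2 ^ a)
    (hW4 : ∀ W : Submodule k (I27 → k), Stb (RR χ) W → finrank k W = 4 → (∀ w ∈ W, sh w = 0) → False)
    {n m : ℕ} (hn : n < a) (hm : m < a) (hnm : n ≠ m) {x y x' y' : I27 → k}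
    (h : TTwo (V k) χ (ka ι n) x y) (h' : TTwo (V k) χ (ka ι m) x' y') : False := by
  have hp : Pair (V k) (V' k) := Or.inl ⟨rfl, rfl⟩
  by_cases h0 : cr x x' = 0 ∧ cr x y' = 0 ∧ cr y x' = 0 ∧ cr y y' = 0
  · exact hW4 _ (stb_sum h.toTwo h'.toTwo) (finrank_sum ι hK hn hm hnm h.toTwo h'.toTwo) (h.sum_ts h' h0).1
  · have hf := h.four hp h'
    obtain ⟨hd, -⟩ := hf.isV ι hK hn hm hnm h0
    refine hW4 _ (fun g w hw => ?_) hd (four_ts' hJ (ka_ne ι hK hn hm hnm) h h')
    have h1 := hf.stb g w hw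
    have h2 : rp (V' k) χ g w = RR χ g w := hJ.dual g w
    rw [h2] at h1
    exact h1

end Cfsg.Agent.R2.F4P
end

-- part: R2/F4P/Mn6
section
prune_inst 0x10000000000000
set_option linter.all false
open scoped Cfsg.Agent.FastGrp

/-!
# S5931, p = 2, `J_k^L = k u0`: contradiction (helper20)

* `jl` : the hypotheses `JL` for `χ = ψk ∘ pq`;
* `h_inner` : the elements of `H` act as inner automorphisms;
* `p2_fix` : **p = 2 is impossible, if `FixU`**.
-/

set_option autoImplicit false
set_option linter.unusedSectionVars false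

namespace Cfsg.Agent.R2.F4P

open Module Matrix
open Cfsg.Lie
open Cfsg.Agent.ChevalleyStructure.E6Min.Basic (Zgrp)
open Cfsg.Agent.H943.SL2Rel Cfsg.Agent.H943.SL2Mod Cfsg.Agent.H943.RepAdd
open Cfsg.Agent.R2.H28.SL2 Cfsg.Agent.R2.SL2 Cfsg.Agent.R2.GEO Cfsg.Agent.R2.H6P2
open Cfsg.Agent.H952.F4 (sh cr tf tr1 u0)
open Cfsg.Agent.H952.F4.Jord
open Cfsg.Agent.H952.F4.FixV (W0 mem_W0 finrank_W0)
open Cfsg.Agent.H163.E6 (V V' TS)
open Cfsg.Agent.H65.E6Emb
open Cfsg.Agent.R2.F4M Cfsg.Agent.R2.F4N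
open Cfsg.Agent.R2.H9.E6 (pq pq_surjective)

universe u v w

section

variable {F : Type u} [Field F] [Fintype F] {K : Type w} [Field K] [Fintype K] {k : Type u} [Field k] [Algebra F k]
  {φ : ProjectiveSpecialLinearGroup (Fin 2) K →* ↥(chevF4.group F)}

theorem chi_eq (g : SpecialLinearGroup (Fin 2) K) : chi (algebraMap F k) ((zt F).comp φ) g = ψk k φ (pq g) := rfl

theorem jl (hfix : FixU k φ) : JL (chi (algebraMap F k) ((zt F).comp φ)) where
  u g := by rw [chi_eq]; exact ψk_u0 φ (pq g)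
  dual g x := by rw [chi_eq]; exact V'_ψk φ (pq g) x
  fix v hv := hfix v fun a => by
    obtain ⟨g, rfl⟩ := pq_surjective a
    rw [← chi_eq]
    exact hv g

end

section cfg

variable {F : Type u} [Field F] [Fintype F] {K : Type w} [Field K] [Fintype K] {a b : ℕ}
  {H : Subgroup ↥(chevF4.group F)} {φ : ProjectiveSpecialLinearGroup (Fin 2) K →* ↥(chevF4.group F)}
variable {k : Type u} [Field k] [Algebra F k] [Algebra.IsAlgebraic F k]
variable [CharP k 2] [DecidableEq k] [DecidableEq K] [CharP K 2] [IsAlgClosed k] (ι : K →+* k)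

/-- the group action over `k` -/
noncomputable abbrev Av (k : Type u) [Field k] [Algebra F k] (g : ↥(chevF4.group F)) : (I27 → k) →ₗ[k] (I27 → k) :=
  V k (emb (algebraMap F k) (zt F g))

omit [Algebra.IsAlgebraic F k] [CharP k 2] [DecidableEq k] [IsAlgClosed k] in
theorem Av_eq (g : ↥(chevF4.group F)) (x : I27 → k) :
    Av k g x = Jr k (Cfsg.Agent.GpExc.Field.emb Cfsg.Agent.H952.F4.hF4 (algebraMap F k) g) x := by
  rw [← V_zt, zt_emb]

omit [Algebra.IsAlgebraic F k] [CharP k 2] [DecidableEq k] [IsAlgClosed k] in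
theorem Av_sh (g : ↥(chevF4.group F)) (x : I27 → k) : sh (Av k g x) = Av k g (sh x) := by
  rw [Av_eq, Av_eq, Jr_sh]

omit [Algebra.IsAlgebraic F k] [CharP k 2] [DecidableEq k] [IsAlgClosed k] in
theorem Av_tr (g : ↥(chevF4.group F)) (x : I27 → k) : tr1 (Av k g x) = tr1 x := by
  rw [Av_eq, Jr_tr]

omit [Algebra.IsAlgebraic F k] [CharP k 2] [DecidableEq k] [IsAlgClosed k] in
theorem Av_mul (g g' : ↥(chevF4.group F)) (x : I27 → k) : Av k (g * g') x = Av k g (Av k g' x) := by
  show V k (emb _ (zt F (g * g'))) x = _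
  rw [map_mul, map_mul, map_mul]
  rfl

omit [Algebra.IsAlgebraic F k] [CharP k 2] [DecidableEq k] [IsAlgClosed k] in
theorem Av_one (x : I27 → k) : Av k (1 : ↥(chevF4.group F)) x = x := by
  show V k (emb _ (zt F 1)) x = _
  rw [map_one, map_one, map_one]
  rfl

omit [Algebra.IsAlgebraic F k] [CharP k 2] [DecidableEq k] [IsAlgClosed k] in
theorem Av_inj (g : ↥(chevF4.group F)) {x y : I27 → k} (h : Av k g x = Av k g y) : x = y := by
  have h1 := congrArg (Av k g⁻¹) h
  rwa [← Av_mul, ← Av_mul, inv_mul_cancel, Av_one, Av_one] at h1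

/-- minimal submodules of dimension two are twisted natural modules, which are white or have a white image -/
theorem white_or (hJ : JL (chi (algebraMap F k) ((zt F).comp φ))) (hK : Fintype.card K = 2 ^ a)
    (h4 : 4 < Fintype.card K) {n : ℕ} {x y : I27 → k}
    (h : Two (RR (chi (algebraMap F k) ((zt F).comp φ))) (ka ι n) x y)
    (hW : MinW (chi (algebraMap F k) ((zt F).comp φ)) (Submodule.span k {x, y}))
    (h2 : finrank k (Submodule.span k {x, y}) = 2) :
    TTwo (V k) (chi (algebraMap F k) ((zt F).comp φ)) (ka ι n) x y ∨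
      TTwo (V k) (chi (algebraMap F k) ((zt F).comp φ)) (ka ι (n + 1)) (sh x) (sh y) := by
  set χ := chi (algebraMap F k) ((zt F).comp φ) with hχ
  have hx : x ∈ Submodule.span k {x, y} := Submodule.subset_span (Or.inl rfl)
  have hy : y ∈ Submodule.span k {x, y} := Submodule.subset_span (Or.inr rfl)
  have hcr := hW.cr_zero ι hJ hK h4
  have hcrxy := hcr x hx y hy
  by_cases hs : sh x = 0
  · left
    refine ⟨h, hs, ?_, hcrxy⟩
    have h3 := hJ.sh w x
    rw [h.wact.1, hs, map_zero, ← neg_one_smul k, sh_smul] at h3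
    exact (smul_eq_zero.1 h3).resolve_left (pow_ne_zero _ (neg_ne_zero.2 one_ne_zero))
  · right
    have hsm : ∀ c d : k, sh (c • x + d • y) = c ^ 2 • sh x + d ^ 2 • sh y := by
      intro c d
      rw [sh_add, sh_smul, sh_smul, cr_smul_left, cr_smul_right, hcrxy, smul_zero, smul_zero, add_zero]
    have hts := shW_ts (W := Submodule.span k {x, y}) (by omega) hcr
    have hsx : sh x ∈ Submodule.span k (sh '' (Submodule.span k {x, y} : Set (I27 → k))) :=
      Submodule.subset_span ⟨x, hx, rfl⟩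
    have hsy : sh y ∈ Submodule.span k (sh '' (Submodule.span k {x, y} : Set (I27 → k))) :=
      Submodule.subset_span ⟨y, hy, rfl⟩
    refine ⟨⟨fun g => ?_, fun g => ?_, hs⟩, hts.1 _ hsx, hts.1 _ hsy, hts.2 _ hsx _ hsy⟩
    · rw [show rp (V k) χ g (sh x) = sh (RR χ g x) from (hJ.sh g x).symm, h.act₀, hsm, ka_succ, ka_succ]
    · rw [show rp (V k) χ g (sh y) = sh (RR χ g y) from (hJ.sh g y).symm, h.act₁, hsm, ka_succ, ka_succ]

/-- **the elements of `H` act as inner automorphisms** -/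
theorem h_inner (hcfg : Cfg 2 a b H φ) (hJ : JL (chi (algebraMap F k) ((zt F).comp φ))) (hK : Fintype.card K = 2 ^ a)
    (hW4 : ∀ W : Submodule k (I27 → k), Stb (RR (chi (algebraMap F k) ((zt F).comp φ))) W → finrank k W = 4 →
      (∀ w ∈ W, sh w = 0) → False)
    {n : ℕ} (hna : n < a) {x y : I27 → k} (h : TTwo (V k) (chi (algebraMap F k) ((zt F).comp φ)) (ka ι n) x y)
    (hmin : MinW (chi (algebraMap F k) ((zt F).comp φ)) (Submodule.span k {x, y}))
    {m : ↥(chevF4.group F)} (hm : m ∈ H) : m ∈ φ.range := by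
  set χ := chi (algebraMap F k) ((zt F).comp φ) with hχ
  have hAχ : ∀ g : SpecialLinearGroup (Fin 2) K, ∀ v, RR χ g v = Av k (φ (pq g)) v := fun g v => rfl
  have hd2 := (h.toTwo.isV ι hK hna).1
  -- the image of the module
  set U : Submodule k (I27 → k) := (Submodule.span k {x, y}).map (Av k m) with hUdef
  have hnorm : ∀ g : SpecialLinearGroup (Fin 2) K, ∃ g' : SpecialLinearGroup (Fin 2) K,
      φ (pq g') = m * φ (pq g) * m⁻¹ := by
    intro g
    obtain ⟨z, hz⟩ := hcfg.max.norm m hm (φ (pq g)) ⟨_, rfl⟩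
    obtain ⟨g', rfl⟩ := pq_surjective z
    exact ⟨g', hz⟩
  have hnorm' : ∀ g : SpecialLinearGroup (Fin 2) K, ∃ g' : SpecialLinearGroup (Fin 2) K,
      φ (pq g') = m⁻¹ * φ (pq g) * m := by
    intro g
    obtain ⟨z, hz⟩ := hcfg.max.norm m⁻¹ (inv_mem hm) (φ (pq g)) ⟨_, rfl⟩
    obtain ⟨g', rfl⟩ := pq_surjective z
    exact ⟨g', by rw [hz, inv_inv]⟩
  have hUs : Stb (RR χ) U := by
    rintro g _ ⟨v, hv, rfl⟩
    obtain ⟨g', hg'⟩ := hnorm' g
    refine ⟨Av k (φ (pq g')) v, h.stb g' v hv, ?_⟩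
    rw [hAχ, ← Av_mul, ← Av_mul, hg']
    congr 2
    group
  have hUd : finrank k U = finrank k (Submodule.span k {x, y}) :=
    (Submodule.equivMapOfInjective (Av k m) (fun _ _ hv => Av_inj m hv) _).symm.finrank_eq
  have hU0 : U ≤ W0 k := by
    rintro _ ⟨v, hv, rfl⟩
    rw [mem_W0, Av_tr]
    exact (mem_W0 v).1 (hmin.le hv)
  have hUne : U ≠ ⊥ := by
    intro h0
    rw [h0, finrank_bot, hd2] at hUd
    omega
  have hUmin := hmin.of_finrank hU0 hUs hUne hUd.le
  obtain ⟨n', hn', x2, y2, h2, hsp⟩ := hUmin.exists_two ι hK (by rw [hUd, hd2])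
  have hx2 : x2 ∈ U := by rw [← hsp]; exact Submodule.subset_span (Or.inl rfl)
  have hy2 : y2 ∈ U := by rw [← hsp]; exact Submodule.subset_span (Or.inr rfl)
  have hUts : ∀ v ∈ U, sh v = 0 := by
    rintro _ ⟨v, hv, rfl⟩
    rw [Av_sh, h.ts v hv, map_zero]
  have hcr2 : cr x2 y2 = 0 := by
    have h3 := hUts (x2 + y2) (U.add_mem hx2 hy2)
    rw [sh_add, hUts _ hx2, hUts _ hy2, zero_add, zero_add] at h3
    exact h3
  have h2' : TTwo (V k) χ (ka ι n') x2 y2 := ⟨h2, hUts _ hx2, hUts _ hy2, hcr2⟩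
  have hnn : n = n' := by
    by_contra hne
    exact two_types' ι hJ hK hW4 hna hn' hne h h2'
  subst hnn
  -- the matrix
  obtain ⟨v1, hv1, hx2'⟩ := hx2
  obtain ⟨v2, hv2, hy2'⟩ := hy2
  obtain ⟨p, r, rfl⟩ := Submodule.mem_span_pair.1 hv1
  obtain ⟨q, s, rfl⟩ := Submodule.mem_span_pair.1 hv2
  choose σ hσ using hnorm
  have hσ1 : ∀ (g : SpecialLinearGroup (Fin 2) K) (v : I27 → k),
      RR χ (σ g) (Av k m v) = Av k m (RR χ g v) := by
    intro g v
    rw [hAχ, hAχ, ← Av_mul, ← Av_mul, hσ]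
    congr 2
    group
  have hinj : ∀ v v' : I27 → k, Av k m v = Av k m v' → v = v' := fun v v' hv => Av_inj m hv
  have e0 : ∀ g, RR χ g x = _ := h.act₀
  have e1 : ∀ g, RR χ g y = _ := h.act₁
  have E0 : ∀ g : SpecialLinearGroup (Fin 2) K,
      p • (ka ι n (g.1 0 0) • x + ka ι n (g.1 1 0) • y) + r • (ka ι n (g.1 0 1) • x + ka ι n (g.1 1 1) • y) =
      ka ι n ((σ g).1 0 0) • (p • x + r • y) + ka ι n ((σ g).1 1 0) • (q • x + s • y) := by
    intro g
    apply hinj
    have h1 := h2.act₀ (σ g)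
    rw [← hx2', ← hy2', hσ1, map_add, map_smul, map_smul, e0, e1] at h1
    rw [h1, ← map_smul (Av k m), ← map_smul (Av k m), ← map_add (Av k m)]
  have E1 : ∀ g : SpecialLinearGroup (Fin 2) K,
      q • (ka ι n (g.1 0 0) • x + ka ι n (g.1 1 0) • y) + s • (ka ι n (g.1 0 1) • x + ka ι n (g.1 1 1) • y) =
      ka ι n ((σ g).1 0 1) • (p • x + r • y) + ka ι n ((σ g).1 1 1) • (q • x + s • y) := by
    intro g
    apply hinj
    have h1 := h2.act₁ (σ g)
    rw [← hx2', ← hy2', hσ1, map_add, map_smul, map_smul, e0, e1] at h1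
    rw [h1, ← map_smul (Av k m), ← map_smul (Av k m), ← map_add (Av k m)]
  have hD : p * s - q * r ≠ 0 := by
    intro hD
    have hxy2 : ∀ α β : k, α • (p • x + r • y) + β • (q • x + s • y) = 0 → α = 0 ∧ β = 0 := by
      intro α β h0
      refine h2.indep ?_
      rw [← hx2', ← hy2', ← map_smul, ← map_smul, ← map_add, h0, map_zero]
    have h1 := hxy2 s (-r) (by
      have e : s • (p • x + r • y) + (-r) • (q • x + s • y) = (p * s - q * r) • x := by module
      rw [e, hD, zero_smul])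
    have h3 := hxy2 (-q) p (by
      have e : (-q) • (p • x + r • y) + p • (q • x + s • y) = (p * s - q * r) • y := by module
      rw [e, hD, zero_smul])
    have hr : r = 0 := neg_eq_zero.1 h1.2
    apply h2.ne
    rw [← hx2', h3.2, hr, zero_smul, zero_smul, add_zero, map_zero]
  have key : ∀ g : SpecialLinearGroup (Fin 2) K,
      (ka ι n (g.1 0 0) * p + ka ι n (g.1 0 1) * r = p * ka ι n ((σ g).1 0 0) + q * ka ι n ((σ g).1 1 0)) ∧
      (ka ι n (g.1 1 0) * p + ka ι n (g.1 1 1) * r = r * ka ι n ((σ g).1 0 0) + s * ka ι n ((σ g).1 1 0)) := by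
    intro g
    have h1 := h.toTwo.indep (α := ka ι n (g.1 0 0) * p + ka ι n (g.1 0 1) * r -
        (p * ka ι n ((σ g).1 0 0) + q * ka ι n ((σ g).1 1 0)))
      (β := ka ι n (g.1 1 0) * p + ka ι n (g.1 1 1) * r -
        (r * ka ι n ((σ g).1 0 0) + s * ka ι n ((σ g).1 1 0))) (by
        have h3 := sub_eq_zero.2 (E0 g)
        rw [← h3]
        module)
    exact ⟨sub_eq_zero.1 h1.1, sub_eq_zero.1 h1.2⟩
  have key' : ∀ g : SpecialLinearGroup (Fin 2) K,
      (ka ι n (g.1 0 0) * q + ka ι n (g.1 0 1) * s = p * ka ι n ((σ g).1 0 1) + q * ka ι n ((σ g).1 1 1)) ∧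
      (ka ι n (g.1 1 0) * q + ka ι n (g.1 1 1) * s = r * ka ι n ((σ g).1 0 1) + s * ka ι n ((σ g).1 1 1)) := by
    intro g
    have h1 := h.toTwo.indep (α := ka ι n (g.1 0 0) * q + ka ι n (g.1 0 1) * s -
        (p * ka ι n ((σ g).1 0 1) + q * ka ι n ((σ g).1 1 1)))
      (β := ka ι n (g.1 1 0) * q + ka ι n (g.1 1 1) * s -
        (r * ka ι n ((σ g).1 0 1) + s * ka ι n ((σ g).1 1 1))) (by
        have h3 := sub_eq_zero.2 (E1 g)
        rw [← h3]
        module)
    exact ⟨sub_eq_zero.1 h1.1, sub_eq_zero.1 h1.2⟩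
  obtain ⟨t, ht⟩ := sk_noether (ka ι n) hD σ (fun g => (key g).1) (fun g => (key' g).1) (fun g => (key g).2)
    fun g => (key' g).2
  have hc : φ (pq t) * m = 1 := by
    refine hcfg.max.cent _ fun z => ?_
    obtain ⟨g, rfl⟩ := pq_surjective z
    have h3 : φ (pq g) * φ (pq t) = φ (pq t) * (m * φ (pq g) * m⁻¹) := by
      rw [← hσ, ← map_mul, ← map_mul, ← map_mul, ← map_mul, ht]
    calc φ (pq g) * (φ (pq t) * m) = (φ (pq g) * φ (pq t)) * m := by group
      _ = φ (pq t) * (m * φ (pq g) * m⁻¹) * m := by rw [h3]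
      _ = _ := by group
  refine ⟨(pq t)⁻¹, ?_⟩
  rw [map_inv]
  exact inv_eq_of_mul_eq_one_right hc

end cfg

end Cfsg.Agent.R2.F4P
end

section
prune_inst 0x10000000000000

-- part: R2/F4P/Mn7
section
set_option linter.all false
open scoped Cfsg.Agent.FastGrp

/-!
# S5931, p = 2, `J_k^L = k u0`: contradiction (helper20)

* `p2_fix` : **`Cfg 2 a b H φ` and `FixU` are contradictory**.
-/

set_option autoImplicit false
set_option linter.unusedSectionVars false

namespace Cfsg.Agent.R2.F4P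

open Module Matrix
open Cfsg.Lie
open Cfsg.Agent.ChevalleyStructure.E6Min.Basic (Zgrp)
open Cfsg.Agent.H943.SL2Rel Cfsg.Agent.H943.SL2Mod Cfsg.Agent.H943.RepAdd
open Cfsg.Agent.R2.H28.SL2 Cfsg.Agent.R2.SL2 Cfsg.Agent.R2.GEO Cfsg.Agent.R2.H6P2
open Cfsg.Agent.H952.F4 (sh cr tf tr1 u0)
open Cfsg.Agent.H952.F4.Jord
open Cfsg.Agent.H952.F4.FixV (W0 mem_W0 finrank_W0)
open Cfsg.Agent.H163.E6 (V V' TS)
open Cfsg.Agent.H65.E6Emb
open Cfsg.Agent.R2.F4M Cfsg.Agent.R2.F4N
open Cfsg.Agent.R2.H9.E6 (pq pq_surjective)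

universe u v w

section cfg

variable {F : Type u} [Field F] [Fintype F] {K : Type w} [Field K] [Fintype K] {a b : ℕ}
  {H : Subgroup ↥(chevF4.group F)} {φ : ProjectiveSpecialLinearGroup (Fin 2) K →* ↥(chevF4.group F)}
variable {k : Type u} [Field k] [Algebra F k] [Algebra.IsAlgebraic F k]
variable [CharP k 2] [DecidableEq k] [DecidableEq K] [CharP K 2] [IsAlgClosed k] (ι : K →+* k)

/-- the final argument: a white rational module of dimension two -/
theorem final_two (hcfg : Cfg 2 a b H φ) (hJ : JL (chi (algebraMap F k) ((zt F).comp φ))) (hK : Fintype.card K = 2 ^ a)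
    (hF : Fintype.card F = 2 ^ b)
    (hW4 : ∀ W : Submodule k (I27 → k), Stb (RR (chi (algebraMap F k) ((zt F).comp φ))) W → finrank k W = 4 →
      (∀ w ∈ W, sh w = 0) → False)
    {n : ℕ} (hna : n < a) {x y : I27 → k} (h : TTwo (V k) (chi (algebraMap F k) ((zt F).comp φ)) (ka ι n) x y)
    (hmin : MinW (chi (algebraMap F k) ((zt F).comp φ)) (Submodule.span k {x, y}))
    (hx : Ph b x = x) (hy : Ph b y = y) : False := by
  set χ := chi (algebraMap F k) ((zt F).comp φ) with hχ
  have hd2 := (h.toTwo.isV ι hK hna).1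
  have hph : ∀ v ∈ Submodule.span k {x, y}, Ph b v ∈ Submodule.span k {x, y} := by
    refine span_Ph ?_
    intro z hz
    rcases hz with hz | hz
    · rw [hz, hx]
      exact Submodule.subset_span (Or.inl rfl)
    · rw [Set.mem_singleton_iff.1 hz, hy]
      exact Submodule.subset_span (Or.inr rfl)
  obtain ⟨W, hW⟩ := exists_ext (fr b) (algebraMap F k) (U := Submodule.span k {x, y})
    (fun x hx => mem_range_of_pow (algebraMap F k) (by rw [hF, ← fr_apply, hx])) hph
  have hWd : finrank F W = 2 := by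
    have h1 : finrank F W = finrank k (Submodule.span k {x, y}) := by rw [← hW, finrank_ext]
    rw [h1, hd2]
  have hmap : ∀ (g : ↥(chevF4.group F)) (v : I27 → F),
      Av k g (fun i => algebraMap F k (v i)) = fun i => algebraMap F k (Jr F g v i) := by
    intro g v
    exact V_emb (algebraMap F k) (zt F g) v
  have hst : Hst H W := by
    intro m hm v hv
    obtain ⟨z, hz⟩ := h_inner ι hcfg hJ hK hW4 hna h hmin hm
    obtain ⟨g, rfl⟩ := pq_surjective z
    rw [← mem_ext_iff (f := algebraMap F k), hW, ← hmap, ← hz]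
    exact h.stb g _ (by rw [← hW]; exact mem_ext_of_mem hv)
  have hpr : Pr W := pr_of_finrank (by omega) (by omega)
  -- `L` acts nontrivially
  have hact : ∃ s, ∃ v ∈ W, Jr F (φ s) v ≠ v := by
    by_contra hcon
    push Not at hcon
    have h1 : ∀ v ∈ ext (algebraMap F k) W, RR χ (u 1) v = v := by
      intro v hv
      have h2 : ext (algebraMap F k) W ≤ LinearMap.ker (RR χ (u 1) - LinearMap.id) := by
        refine ext_le fun v hv => ?_
        rw [LinearMap.mem_ker, LinearMap.sub_apply, LinearMap.id_apply, sub_eq_zero]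
        have h3 : RR χ (u 1) (fun i => algebraMap F k (v i)) = _ := hmap (φ (pq (u 1))) v
        rw [h3, hcon (pq (u 1)) v hv]
      have h3 := h2 hv
      rw [LinearMap.mem_ker, LinearMap.sub_apply, LinearMap.id_apply, sub_eq_zero] at h3
      exact h3
    rw [hW] at h1
    have h2 := h1 y (Submodule.subset_span (Or.inr rfl))
    rw [(Two.u_act h.toTwo 1).2, map_one, one_smul] at h2
    exact h.ne (by simpa using h2)
  -- a common stabilizer
  let B := Module.finBasisOfFinrankEq F W hWd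
  obtain ⟨g, hg1, hg2, hg3⟩ := common_stab (B 0 : I27 → F) (B 1)
  apply hg1
  refine hcfg.kc hst hpr hact fun v hv => ?_
  have h1 : (⟨v, hv⟩ : W) = B.repr ⟨v, hv⟩ 0 • B 0 + B.repr ⟨v, hv⟩ 1 • B 1 := by
    conv_lhs => rw [← B.sum_repr ⟨v, hv⟩]
    rw [Fin.sum_univ_two]
  have h2 := congrArg Subtype.val h1
  change v = B.repr ⟨v, hv⟩ 0 • (B 0 : I27 → F) + B.repr ⟨v, hv⟩ 1 • (B 1 : I27 → F) at h2
  rw [h2, map_add, map_smul, map_smul, hg2, hg3]

end cfg

/-- an embedding of a finite field of characteristic 2 -/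
theorem exists_iota' (K : Type v) [Field K] [Finite K] [CharP K 2] (k : Type u) [Field k] [CharP k 2] [IsAlgClosed k] :
    Nonempty (K →+* k) := by
  have hfact : Fact (Nat.Prime 2) := ⟨Nat.prime_two⟩
  let _ := ZMod.algebra K 2
  let _ := ZMod.algebra k 2
  have h1 : Module.Finite (ZMod 2) K := Module.Finite.of_finite
  have h2 : Algebra.IsAlgebraic (ZMod 2) K := Algebra.IsAlgebraic.of_finite (ZMod 2) K
  exact ⟨(IsAlgClosed.lift (R := ZMod 2) (S := K) (M := k)).toRingHom⟩

/-- **p = 2 is impossible, if `L` has only the obvious fixed vectors over the algebraic closure** -/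
theorem p2_fix {F : Type u} [Field F] [Fintype F] {K : Type w} [Field K] [Fintype K] {a b : ℕ}
    {H : Subgroup ↥(chevF4.group F)} {φ : ProjectiveSpecialLinearGroup (Fin 2) K →* ↥(chevF4.group F)}
    (h : Cfg 2 a b H φ) (hfix : FixU (AlgebraicClosure F) φ) : False := by
  classical
  have hfact : Fact (Nat.Prime 2) := ⟨Nat.prime_two⟩
  have hcF := h.charF
  have hcK := h.charK
  have hck : CharP (AlgebraicClosure F) 2 :=
    charP_of_injective_algebraMap (algebraMap F (AlgebraicClosure F)).injective 2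
  obtain ⟨ι⟩ := exists_iota' K (AlgebraicClosure F)
  have ha0 : 0 < a := h.ha
  have h7 := h.seven
  have hJ := jl hfix
  set χ := chi (algebraMap F (AlgebraicClosure F)) ((zt F).comp φ) with hχ
  have hW4 : ∀ W : Submodule (AlgebraicClosure F) (I27 → AlgebraicClosure F), Stb (RR χ) W →
      finrank (AlgebraicClosure F) W = 4 → (∀ w ∈ W, sh w = 0) → False := by
    intro W hW hd hs
    refine white_four h hfix hd hs fun z w hw => ?_
    obtain ⟨g, rfl⟩ := pq_surjective z
    exact hW g w hw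
  obtain ⟨W, hW, hs⟩ := exists_white ι hJ h.cardK (by omega)
  rcases hW.two_or_four ι hJ hs with hd | hd
  swap
  · exact hW4 W hW.stb hd hs
  obtain ⟨n, hn, x, y, hxy, hsp⟩ := hW.exists_two ι h.cardK hd
  have hx : x ∈ W := by rw [← hsp]; exact Submodule.subset_span (Or.inl rfl)
  have hy : y ∈ W := by rw [← hsp]; exact Submodule.subset_span (Or.inr rfl)
  have hT : TTwo (V (AlgebraicClosure F)) χ (ka ι n) x y :=
    ⟨hxy, hs x hx, hs y hy, hW.cr_zero ι hJ h.cardK (by omega) x hx y hy⟩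
  have hρ : V (AlgebraicClosure F) = V (AlgebraicClosure F) ∨ V (AlgebraicClosure F) = V' (AlgebraicClosure F) :=
    Or.inl rfl
  -- the Frobenius map preserves the type
  have hb : ka ι (n + b * 1) = ka ι n := by
    by_contra hne
    have h1 := hT.ph (algebraMap F (AlgebraicClosure F)) h.cardF hρ 1
    rw [← ka_mod ι h.cardK] at h1
    refine two_types' ι hJ h.cardK hW4 hn (Nat.mod_lt _ ha0) (fun h0 => hne ?_) hT h1
    rw [← ka_mod ι h.cardK (n + b * 1), ← h0]
  obtain ⟨x', y', h', hx', hy'⟩ := exists_ph (algebraMap F (AlgebraicClosure F)) h.cardF hρ hxy hb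
  rw [Nat.mul_one] at hx' hy'
  have hd' := (h'.isV ι h.cardK hn).1
  have hle : Submodule.span (AlgebraicClosure F) {x', y'} ≤ W0 (AlgebraicClosure F) := by
    rw [Submodule.span_le]
    rintro z (hz | hz)
    · rw [hz]
      exact (mem_W0 _).2 (two_tr hJ h').1
    · rw [Set.mem_singleton_iff.1 hz]
      exact (mem_W0 _).2 (two_tr hJ h').2
  have hmin : MinW χ (Submodule.span (AlgebraicClosure F) {x', y'}) :=
    hW.of_finrank hle h'.stb (fun h0 => by rw [h0, finrank_bot] at hd'; omega) (by omega)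
  rcases white_or ι hJ h.cardK (by omega) h' hmin hd' with hT' | hT'
  · exact final_two ι h hJ h.cardK h.cardF hW4 hn hT' hmin hx' hy'
  · have hTm : TTwo (V (AlgebraicClosure F)) χ (ka ι ((n + 1) % a)) (sh x') (sh y') := by
      rw [ka_mod ι h.cardK]
      exact hT'
    have hd'' := (hTm.toTwo.isV ι h.cardK (Nat.mod_lt _ ha0)).1
    have hle' : Submodule.span (AlgebraicClosure F) {sh x', sh y'} ≤ W0 (AlgebraicClosure F) := by
      rw [Submodule.span_le]
      rintro z (hz | hz)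
      · rw [hz]
        exact (mem_W0 _).2 (two_tr hJ hTm.toTwo).1
      · rw [Set.mem_singleton_iff.1 hz]
        exact (mem_W0 _).2 (two_tr hJ hTm.toTwo).2
    have hmin' : MinW χ (Submodule.span (AlgebraicClosure F) {sh x', sh y'}) :=
      hW.of_finrank hle' hTm.toTwo.stb (fun h0 => by rw [h0, finrank_bot] at hd''; omega) (by omega)
    exact final_two ι h hJ h.cardK h.cardF hW4 (Nat.mod_lt _ ha0) hTm hmin' (by rw [← Ph_sh, hx']) (by rw [← Ph_sh, hy'])

end Cfsg.Agent.R2.F4P
end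

-- part: R2/F4N/Cub
section
set_option linter.all false
open scoped Cfsg.Agent.FastGrp

/-!
# The cubic identity on the traceless part of the Albert algebra (lead, S5931, PLAN2)

`st x y = x × y + (1/3) T(x,y) 1`, over a field with `2, 3 ≠ 0`.

* `st_st_self` (I1) : `x * (x * x) = (2/3) T(x,x) x` for `tr1 x = 0`;
* `st_pol` : its polarization;
* `e4` (E4).
-/

set_option autoImplicit false
set_option linter.unusedSectionVars false

namespace Cfsg.Agent.R2.F4N

open Cfsg Cfsg.Lie Module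
open Cfsg.Agent.ChevalleyStructure.E6Min.Tables Cfsg.Agent.ChevalleyStructure.E6Min.Basic
open Cfsg.Agent.H952.F4 (u0 tr1 tf sh cr)
open Cfsg.Agent.H952.F4.Jord

universe u

variable {k : Type u} [Field k]

/-- the product on the traceless part -/
def st (x y : I27 → k) : I27 → k := cr x y + (tf x y / 3) • u0 k

theorem st_comm (x y : I27 → k) : st x y = st y x := by
  unfold st
  rw [cr_comm, tf_comm]

theorem st_add_left (x x' y : I27 → k) : st (x + x') y = st x y + st x' y := by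
  unfold st
  rw [cr_add_left, tf_add_left, add_div, add_smul]
  abel

theorem st_smul_left (c : k) (x y : I27 → k) : st (c • x) y = c • st x y := by
  unfold st
  rw [cr_smul_left, tf_smul_left, smul_add, smul_smul, mul_div_assoc]

theorem st_add_right (x y y' : I27 → k) : st x (y + y') = st x y + st x y' := by
  rw [st_comm, st_add_left, st_comm y, st_comm y']

theorem st_smul_right (c : k) (x y : I27 → k) : st x (c • y) = c • st x y := by
  rw [st_comm, st_smul_left, st_comm]

theorem st_zero_left (y : I27 → k) : st 0 y = 0 := by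
  have := st_smul_left (0 : k) 0 y
  rwa [zero_smul, zero_smul] at this

theorem st_zero_right (y : I27 → k) : st y 0 = 0 := by rw [st_comm, st_zero_left]

theorem tr1_st (h3 : (3 : k) ≠ 0) {x : I27 → k} (hx : tr1 x = 0) (y : I27 → k) : tr1 (st x y) = 0 := by
  unfold st
  rw [tr1_add, tr1_smul, tr1_cr, hx, tr1_u0]
  field_simp
  ring

theorem tf_u0_right (x : I27 → k) : tf x (u0 k) = tr1 x := by rw [tf_comm, tf_u0]

/-- the trilinear form -/
theorem tf_st (x y : I27 → k) {z : I27 → k} (hz : tr1 z = 0) : tf (st x y) z = tf (cr x y) z := by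
  unfold st
  rw [tf_add_left, tf_smul_left, tf_u0, hz, mul_zero, add_zero]

theorem tf_st_assoc {x : I27 → k} (y : I27 → k) {z : I27 → k} (hx : tr1 x = 0) (hz : tr1 z = 0) :
    tf (st x y) z = tf x (st y z) := by
  rw [tf_st x y hz, tf_comm x, st_comm y z, tf_st z y hx, tf_comm (cr z y), cr_comm z y, tf_cr]

theorem cr_sh (x : I27 → k) : cr (sh x) x = (tr1 x * tr1 (sh x) - cubicT x) • u0 k - tr1 x • sh x - tr1 (sh x) • x := by
  have h := cr_sh_cr x (u0 k)
  have h1 : cr x (u0 k) = tr1 x • u0 k - x := by rw [cr_comm, cr_u0]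
  have h2 : cr (sh x) (u0 k) = tr1 (sh x) • u0 k - sh x := by rw [cr_comm, cr_u0]
  have h3 : cr (sh x) (cr x (u0 k)) = tr1 x • (tr1 (sh x) • u0 k - sh x) - cr (sh x) x := by
    rw [h1, sub_eq_add_neg, cr_add_right, cr_smul_right, h2, ← neg_one_smul k x, cr_smul_right]
    module
  rw [h3, tf_u0_right] at h
  have h4 : cr (sh x) x = tr1 x • (tr1 (sh x) • u0 k - sh x) - (cubicT x • u0 k + tr1 (sh x) • x) := by
    rw [← h]; module
  rw [h4]
  module

/-- **(I1)** -/
theorem st_st_self (h2 : (2 : k) ≠ 0) (h3 : (3 : k) ≠ 0) {x : I27 → k} (hx : tr1 x = 0) :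
    st x (st x x) = (2 / 3 * tf x x) • x := by
  have e1 : st x x = (2 : k) • sh x + (tf x x / 3) • u0 k := by
    unfold st
    rw [cr_self]
  have e2 := tr1_sh x
  rw [hx] at e2
  have e3 : tr1 (sh x) = -(tf x x) / 2 := by
    field_simp
    linear_combination e2
  have e4 : tf x (sh x) = 3 * cubicT x := by rw [tf_comm, tf_sh_self]
  have e5 : cr x (u0 k) = -x := by
    rw [cr_comm, cr_u0, hx, zero_smul, zero_sub]
  rw [e1]
  unfold st
  rw [cr_add_right, cr_smul_right, cr_smul_right, cr_comm x (sh x), cr_sh, e5, tf_add_right, tf_smul_right,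
    tf_smul_right, e4, tf_u0_right, hx, e3]
  have e6 : (2 * (3 * cubicT x) + tf x x / 3 * 0) / 3 = 2 * cubicT x := by
    field_simp
    ring
  rw [e6]
  have e7 : (2 / 3 * tf x x : k) = tf x x - tf x x / 3 := by
    field_simp
    ring
  rw [e7]
  have e8 : (2 : k) * (-tf x x / 2) = - tf x x := by
    field_simp
  simp only [zero_mul, zero_sub, zero_smul, sub_zero, smul_sub, smul_neg, neg_smul, smul_smul, e8]
  module

/-- polarization in one variable -/
theorem st_pol2 (h2 : (2 : k) ≠ 0) (h3 : (3 : k) ≠ 0) {x y : I27 → k} (hx : tr1 x = 0) (hy : tr1 y = 0) :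
    (2 : k) • st x (st x y) + st y (st x x) = (2 / 3 * tf x x) • y + (4 / 3 * tf x y) • x := by
  have a1 := st_st_self h2 h3 (x := x + y) (by rw [tr1_add, hx, hy, add_zero])
  have a2 := st_st_self h2 h3 (x := x + (-1 : k) • y) (by rw [tr1_add, tr1_smul, hx, hy]; ring)
  have a3 := st_st_self h2 h3 hy
  simp only [st_add_left, st_add_right, st_smul_left, st_smul_right, tf_add_left, tf_add_right, tf_smul_left,
    tf_smul_right, st_comm y x, tf_comm y x] at a1 a2
  funext i
  have b1 := congrFun a1 i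
  have b2 := congrFun a2 i
  have b3 := congrFun a3 i
  simp only [Pi.add_apply, Pi.smul_apply, smul_eq_mul] at b1 b2 b3 ⊢
  have key : (2 : k) * (2 * st x (st x y) i + st y (st x x) i - (2 / 3 * tf x x * y i + 4 / 3 * tf x y * x i)) = 0 := by
    linear_combination b1 - b2 - 2 * b3
  exact sub_eq_zero.1 ((mul_eq_zero.1 key).resolve_left h2)

/-- **polarization of (I1)** -/
theorem st_pol (h2 : (2 : k) ≠ 0) (h3 : (3 : k) ≠ 0) {x y z : I27 → k} (hx : tr1 x = 0) (hy : tr1 y = 0)
    (hz : tr1 z = 0) : st x (st y z) + st y (st x z) + st z (st x y) =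
      (2 / 3 * tf x y) • z + (2 / 3 * tf x z) • y + (2 / 3 * tf y z) • x := by
  have a1 := st_pol2 h2 h3 (x := x + z) (y := y) (by rw [tr1_add, hx, hz, add_zero]) hy
  have a2 := st_pol2 h2 h3 hx hy
  have a3 := st_pol2 h2 h3 hz hy
  simp only [st_add_left, st_add_right, tf_add_left, tf_add_right, st_comm z x, tf_comm z x, st_comm z y,
    tf_comm z y] at a1 a3
  funext i
  have b1 := congrFun a1 i
  have b2 := congrFun a2 i
  have b3 := congrFun a3 i
  simp only [Pi.add_apply, Pi.smul_apply, smul_eq_mul] at b1 b2 b3 ⊢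
  have key : (2 : k) * (st x (st y z) i + st y (st x z) i + st z (st x y) i -
      (2 / 3 * tf x y * z i + 2 / 3 * tf x z * y i + 2 / 3 * tf y z * x i)) = 0 := by
    linear_combination b1 - b2 - b3
  exact sub_eq_zero.1 ((mul_eq_zero.1 key).resolve_left h2)

/-- **(E4)** -/
theorem e4 (h2 : (2 : k) ≠ 0) (h3 : (3 : k) ≠ 0) {x y z w : I27 → k} (hx : tr1 x = 0) (hy : tr1 y = 0)
    (hz : tr1 z = 0) (hw : tr1 w = 0) : tf (st x y) (st z w) + tf (st x z) (st y w) + tf (st x w) (st y z) =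
      2 / 3 * (tf x y * tf z w + tf x z * tf y w + tf x w * tf y z) := by
  have h := congrArg (fun v => tf v w) (st_pol h2 h3 hx hy hz)
  simp only [tf_add_left, tf_smul_left] at h
  have e1 : tf (st x (st y z)) w = tf (st x w) (st y z) := by
    rw [st_comm, tf_st_assoc x (tr1_st h3 hy z) hw, tf_comm]
  have e2 : tf (st y (st x z)) w = tf (st x z) (st y w) := by
    rw [st_comm, tf_st_assoc y (tr1_st h3 hx z) hw]
  have e3 : tf (st z (st x y)) w = tf (st x y) (st z w) := by
    rw [st_comm, tf_st_assoc z (tr1_st h3 hx y) hw]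
  rw [e1, e2, e3] at h
  linear_combination h

end Cfsg.Agent.R2.F4N
end
end
end
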